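import Groth.Prelude.Def_RelSpec2
import Groth.Agent.Proj16.ToProj
import Mathlib.AlgebraicGeometry.Morphisms.Affine

/-!
# The morphism induced by a graded homomorphism on its open of definition
-/

universe u

open SetLike AlgebraicGeometry HomogeneousLocalization CategoryTheory CategoryTheory.Limits
open scoped HomogeneousIdeal

set_option backward.isDefEq.respectTransparency false

namespace Groth.Agent.EgaQ

variable {A σ B τ C υ : Type u} [CommRing A] [SetLike σ A] [AddSubgroupClass σ A]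
variable [CommRing B] [SetLike τ B] [AddSubgroupClass τ B]
variable [CommRing C] [SetLike υ C] [AddSubgroupClass υ C]
variable {𝒜 : ℕ → σ} [GradedRing 𝒜] {ℬ : ℕ → τ} [GradedRing ℬ] {𝒞 : ℕ → υ} [GradedRing 𝒞]
variable (ψ : 𝒜 →+*ᵍ ℬ)

lemma basicOpen_le_domOpen {d : ℕ} {f : A} (hf : f ∈ 𝒜 d) (hd : 0 < d) :
    Proj.basicOpen ℬ (ψ f) ≤ RelCone.domOpen ψ := fun x hx ↦
  (RelCone.mem_domOpen ψ x).mpr ⟨f, HomogeneousIdeal.mem_irrelevant_of_mem _ hd hf, hx⟩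

lemma exists_mem_of_mem_domOpen {x : Proj ℬ} (hx : x ∈ RelCone.domOpen ψ) :
    ∃ (d : ℕ) (f : A), 0 < d ∧ f ∈ 𝒜 d ∧ x ∈ Proj.basicOpen ℬ (ψ f) := by
  obtain ⟨a, ha, hax⟩ := (RelCone.mem_domOpen ψ x).mp hx
  by_contra! H
  refine hax ?_
  have hle : ((𝒜₊).toIdeal) ≤ Ideal.comap ψ x.asHomogeneousIdeal.toIdeal := by
    rw [HomogeneousIdeal.irrelevant_eq_span, Ideal.span_le]
    simp only [Set.iUnion_subset_iff]
    intro i hi f hf
    exact not_not.mp fun hne ↦ H i f hi hf hne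
  exact hle ha

lemma mem_domOpen_iff_exists (x : Proj ℬ) : x ∈ RelCone.domOpen ψ ↔
    ∃ (d : ℕ) (f : A), 0 < d ∧ f ∈ 𝒜 d ∧ x ∈ Proj.basicOpen ℬ (ψ f) :=
  ⟨exists_mem_of_mem_domOpen ψ, fun ⟨_, _, hd, hf, hx⟩ ↦ basicOpen_le_domOpen ψ hf hd hx⟩

/-- The standard chart of the open of definition. -/
noncomputable def awayDom {d : ℕ} {f : A} (hf : f ∈ 𝒜 d) (hd : 0 < d) :
    Spec (CommRingCat.of (Away ℬ (ψ f))) ⟶ (RelCone.domOpen ψ : (Proj ℬ).Opens).toScheme :=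
  IsOpenImmersion.lift (RelCone.domOpen ψ).ι (Proj.awayι ℬ (ψ f) (ψ.map_mem hf) hd) (by
    rw [Scheme.Opens.range_ι, ← Scheme.Hom.coe_opensRange, Proj.opensRange_awayι]
    exact basicOpen_le_domOpen ψ hf hd)

@[reassoc]
lemma awayDom_ι {d : ℕ} {f : A} (hf : f ∈ 𝒜 d) (hd : 0 < d) :
    awayDom ψ hf hd ≫ (RelCone.domOpen ψ).ι = Proj.awayι ℬ (ψ f) (ψ.map_mem hf) hd :=
  IsOpenImmersion.lift_fac _ _ _

instance isOpenImmersion_awayDom {d : ℕ} {f : A} (hf : f ∈ 𝒜 d) (hd : 0 < d) :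
    IsOpenImmersion (awayDom ψ hf hd) := by
  have : IsOpenImmersion (awayDom ψ hf hd ≫ (RelCone.domOpen ψ).ι) := by
    rw [awayDom_ι]; infer_instance
  exact IsOpenImmersion.of_comp _ (RelCone.domOpen ψ).ι

lemma opensRange_awayDom {d : ℕ} {f : A} (hf : f ∈ 𝒜 d) (hd : 0 < d) :
    (awayDom ψ hf hd).opensRange = (RelCone.domOpen ψ).ι ⁻¹ᵁ Proj.basicOpen ℬ (ψ f) := by
  rw [← (RelCone.domOpen ψ).ι.preimage_image_eq (awayDom ψ hf hd).opensRange,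
    ← Scheme.Hom.opensRange_comp]
  congr 1
  simp only [awayDom_ι, Proj.opensRange_awayι]

lemma mem_range_awayDom {d : ℕ} {f : A} (hf : f ∈ 𝒜 d) (hd : 0 < d)
    (z : (RelCone.domOpen ψ : (Proj ℬ).Opens).toScheme) :
    z ∈ Set.range (awayDom ψ hf hd) ↔ (RelCone.domOpen ψ).ι z ∈ Proj.basicOpen ℬ (ψ f) := by
  rw [← Scheme.Hom.coe_opensRange, opensRange_awayDom]
  rfl

/-- The chart data of the morphism induced by a graded homomorphism. -/
noncomputable def domData : Proj16.ToProjData 𝒜 (RelCone.domOpen ψ : (Proj ℬ).Opens).toScheme where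
  ring f := CommRingCat.of (Away ℬ (ψ f))
  chart hf hd := awayDom ψ hf hd
  isOpenImmersion hf hd := isOpenImmersion_awayDom ψ hf hd
  covers z := by
    obtain ⟨d, f, hd, hf, hz⟩ := exists_mem_of_mem_domOpen ψ z.2
    exact ⟨d, f, hf, hd, (mem_range_awayDom ψ hf hd z).mpr hz⟩
  range_inter {d e f g} hf hd hg he := by
    ext z
    rw [Set.mem_inter_iff, mem_range_awayDom, mem_range_awayDom, mem_range_awayDom, map_mul,
      Proj.basicOpen_mul]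
    rfl
  toRing f := CommRingCat.ofHom (Away.map ψ f)
  exists_res {d e f g x} hf hd hg he hx hxm := by
    refine ⟨CommRingCat.ofHom (awayMap ℬ (ψ.map_mem hg) (show ψ x = ψ f * ψ g by rw [hx, map_mul])),
      ?_, ?_⟩
    · rw [← cancel_mono (RelCone.domOpen ψ).ι, Category.assoc, awayDom_ι, awayDom_ι,
        Proj.SpecMap_awayMap_awayι]
    · refine CommRingCat.hom_ext (RingHom.ext fun a ↦ ?_)
      obtain ⟨k, b, hb, rfl⟩ := a.mk_surjective 𝒜 hf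
      apply HomogeneousLocalization.val_injective
      simp only [CommRingCat.hom_comp, CommRingCat.hom_ofHom, RingHom.comp_apply]
      rw [awayMap_mk, Away.map_mk, Away.map_mk, awayMap_mk, Away.val_mk, Away.val_mk]
      simp [map_mul, map_pow]

/-- The morphism induced by a graded homomorphism on its open of definition. -/
noncomputable def domMap : (RelCone.domOpen ψ : (Proj ℬ).Opens).toScheme ⟶ Proj 𝒜 :=
  (domData ψ).map

@[reassoc]
lemma awayDom_domMap {d : ℕ} {f : A} (hf : f ∈ 𝒜 d) (hd : 0 < d) :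
    awayDom ψ hf hd ≫ domMap ψ = Spec.map (CommRingCat.ofHom (Away.map ψ f)) ≫ Proj.awayι 𝒜 f hf hd :=
  (domData ψ).chart_map hf hd

lemma dom_hom_ext {Z : Scheme.{u}} {p q : (RelCone.domOpen ψ : (Proj ℬ).Opens).toScheme ⟶ Z}
    (h : ∀ {d : ℕ} {f : A} (hf : f ∈ 𝒜 d) (hd : 0 < d), awayDom ψ hf hd ≫ p = awayDom ψ hf hd ≫ q) :
    p = q :=
  (domData ψ).hom_ext h

lemma domMap_preimage_basicOpen {d : ℕ} {f : A} (hf : f ∈ 𝒜 d) (hd : 0 < d) :
    domMap ψ ⁻¹ᵁ Proj.basicOpen 𝒜 f = (RelCone.domOpen ψ).ι ⁻¹ᵁ Proj.basicOpen ℬ (ψ f) := by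
  rw [← opensRange_awayDom ψ hf hd]
  refine Proj16.ToProjData.preimage_basicOpen (domData ψ) (fun {m n f g} hf hm hg hn z hz ↦ ?_) hf hd
  change awayDom ψ hg hn z ∈ Set.range (awayDom ψ hf hm)
  rw [mem_range_awayDom, show (RelCone.domOpen ψ).ι (awayDom ψ hg hn z) =
    (awayDom ψ hg hn ≫ (RelCone.domOpen ψ).ι) z from rfl, awayDom_ι]
  have e : Away.map ψ g (Away.isLocalizationElem hg hf) =
      Away.isLocalizationElem (ψ.map_mem hg) (ψ.map_mem hf) := by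
    rw [Away.isLocalizationElem, Away.isLocalizationElem, Away.map_mk]
    congr 1
    exact map_pow _ _ _
  have h2 : z ∈ PrimeSpectrum.basicOpen (Away.map ψ g (Away.isLocalizationElem hg hf)) := hz
  rw [e] at h2
  exact (Proj.awayι_preimage_basicOpen ℬ (ψ.map_mem hg) hn (ψ.map_mem hf) hm).ge h2

lemma domMap_of_away {P : MorphismProperty Scheme.{u}} [IsZariskiLocalAtTarget P]
    (h : ∀ (d : ℕ) (f : A), 0 < d → f ∈ 𝒜 d → P (Spec.map (CommRingCat.ofHom (Away.map ψ f)))) :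
    P (domMap ψ) :=
  (domData ψ).map_of_charts
    (fun hf hd ↦ (domMap_preimage_basicOpen ψ hf hd).trans (opensRange_awayDom ψ hf hd).symm) h

lemma isAffineHom_domMap : IsAffineHom (domMap ψ) :=
  domMap_of_away ψ fun _ _ _ _ ↦ inferInstance

/-- Equal homomorphisms give the same morphism. -/
lemma domMap_congr {φ : 𝒜 →+*ᵍ ℬ} (e : ψ = φ) {Z : Scheme.{u}}
    (k : Z ⟶ (RelCone.domOpen ψ : (Proj ℬ).Opens).toScheme)
    (k' : Z ⟶ (RelCone.domOpen φ : (Proj ℬ).Opens).toScheme)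
    (hk : k ≫ (RelCone.domOpen ψ).ι = k' ≫ (RelCone.domOpen φ).ι) :
    k ≫ domMap ψ = k' ≫ domMap φ := by
  subst e
  rw [(cancel_mono _).mp hk]

lemma awayMap_comp (χ : ℬ →+*ᵍ 𝒞) {d : ℕ} {f : A} (hf : f ∈ 𝒜 d) :
    (Away.map (χ.comp ψ) f : Away 𝒜 f →+* Away 𝒞 (χ (ψ f))) = (Away.map χ (ψ f)).comp (Away.map ψ f) := by
  refine RingHom.ext fun a ↦ ?_
  obtain ⟨k, b, hb, rfl⟩ := a.mk_surjective 𝒜 hf
  show Away.map (χ.comp ψ) f (Away.mk 𝒜 hf k b hb) = Away.map χ (ψ f) (Away.map ψ f (Away.mk 𝒜 hf k b hb))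
  rw [Away.map_mk, Away.map_mk]
  exact (Away.map_mk χ (ψ f) (ψ.map_mem hf) k (ψ b) (ψ.map_mem hb)).symm

lemma mem_domOpen_comp (χ : ℬ →+*ᵍ 𝒞) (hχ : 𝒞₊ ≤ (ℬ₊).map χ) (x : Proj 𝒞) :
    x ∈ RelCone.domOpen (χ.comp ψ) ↔ Proj.map χ hχ x ∈ RelCone.domOpen ψ := by
  simp only [mem_domOpen_iff_exists]
  rfl

/-- Composition with an everywhere defined map on the side of the source scheme. -/
lemma domMap_comp_map (χ : ℬ →+*ᵍ 𝒞) (hχ : 𝒞₊ ≤ (ℬ₊).map χ) {Z : Scheme.{u}}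
    (k : Z ⟶ (RelCone.domOpen (χ.comp ψ) : (Proj 𝒞).Opens).toScheme)
    (k' : Z ⟶ (RelCone.domOpen ψ : (Proj ℬ).Opens).toScheme)
    (hk : k ≫ (RelCone.domOpen (χ.comp ψ)).ι ≫ Proj.map χ hχ = k' ≫ (RelCone.domOpen ψ).ι) :
    k' ≫ domMap ψ = k ≫ domMap (χ.comp ψ) := by
  let l : (RelCone.domOpen (χ.comp ψ) : (Proj 𝒞).Opens).toScheme ⟶ (RelCone.domOpen ψ : (Proj ℬ).Opens).toScheme :=
    IsOpenImmersion.lift (RelCone.domOpen ψ).ι ((RelCone.domOpen (χ.comp ψ)).ι ≫ Proj.map χ hχ) (by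
      rw [Scheme.Opens.range_ι]
      rintro _ ⟨z, rfl⟩
      exact (mem_domOpen_comp ψ χ hχ _).mp z.2)
  have hl : l ≫ (RelCone.domOpen ψ).ι = (RelCone.domOpen (χ.comp ψ)).ι ≫ Proj.map χ hχ :=
    IsOpenImmersion.lift_fac _ _ _
  have hkl : k' = k ≫ l := by
    rw [← cancel_mono (RelCone.domOpen ψ).ι, Category.assoc, hl, hk]
  rw [hkl, Category.assoc]
  congr 1
  refine dom_hom_ext (χ.comp ψ) fun {d f} hf hd ↦ ?_
  have e : awayDom (χ.comp ψ) hf hd ≫ l =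
      Spec.map (CommRingCat.ofHom (Away.map χ (ψ f))) ≫ awayDom ψ hf hd := by
    rw [← cancel_mono (RelCone.domOpen ψ).ι, Category.assoc, hl, awayDom_ι_assoc, Category.assoc,
      awayDom_ι, ← Proj.awayι_comp_map χ hχ hd (ψ f) (ψ.map_mem hf)]
    rfl
  rw [reassoc_of% e, awayDom_domMap, awayDom_domMap, ← Spec.map_comp_assoc, awayMap_comp ψ χ hf]
  rfl

lemma domOpen_comp_of_irrelevant_le {A₀ σ₀ : Type u} [CommRing A₀] [SetLike σ₀ A₀]
    [AddSubgroupClass σ₀ A₀] {𝒜₀ : ℕ → σ₀} [GradedRing 𝒜₀] (χ : 𝒜₀ →+*ᵍ 𝒜)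
    (hχ : 𝒜₊ ≤ (𝒜₀₊).map χ) : RelCone.domOpen (ψ.comp χ) = RelCone.domOpen ψ := by
  ext x
  simp only [SetLike.mem_coe]
  constructor
  · intro hx
    obtain ⟨d, f, hd, hf, hfx⟩ := exists_mem_of_mem_domOpen _ hx
    exact basicOpen_le_domOpen ψ (χ.map_mem hf) hd hfx
  · intro hx
    by_contra hne
    obtain ⟨a, ha, hax⟩ := (RelCone.mem_domOpen ψ x).mp hx
    refine hax ?_
    have h1 : (𝒜₊).toIdeal ≤ Ideal.comap ψ x.asHomogeneousIdeal.toIdeal :=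
      le_trans (show (𝒜₊).toIdeal ≤ _ from hχ) (Ideal.map_le_iff_le_comap.mpr fun b hb ↦
        not_not.mp fun hbx ↦ hne ((RelCone.mem_domOpen _ x).mpr ⟨b, hb, hbx⟩))
    exact h1 ha

/-- Composition with an everywhere defined map on the side of the target scheme. -/
lemma domMap_comp_left {A₀ σ₀ : Type u} [CommRing A₀] [SetLike σ₀ A₀]
    [AddSubgroupClass σ₀ A₀] {𝒜₀ : ℕ → σ₀} [GradedRing 𝒜₀] (χ : 𝒜₀ →+*ᵍ 𝒜)
    (hχ : 𝒜₊ ≤ (𝒜₀₊).map χ) {Z : Scheme.{u}}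
    (k : Z ⟶ (RelCone.domOpen (ψ.comp χ) : (Proj ℬ).Opens).toScheme)
    (k' : Z ⟶ (RelCone.domOpen ψ : (Proj ℬ).Opens).toScheme)
    (hk : k ≫ (RelCone.domOpen (ψ.comp χ)).ι = k' ≫ (RelCone.domOpen ψ).ι) :
    k' ≫ domMap ψ ≫ Proj.map χ hχ = k ≫ domMap (ψ.comp χ) := by
  let l := ((Proj ℬ).isoOfEq (domOpen_comp_of_irrelevant_le ψ χ hχ)).hom
  have hkl : k' = k ≫ l := by
    rw [← cancel_mono (RelCone.domOpen ψ).ι, Category.assoc, Scheme.isoOfEq_hom_ι, hk]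
  rw [hkl, Category.assoc]
  congr 1
  refine dom_hom_ext (ψ.comp χ) fun {d f} hf hd ↦ ?_
  have e : awayDom (ψ.comp χ) hf hd ≫ l = awayDom ψ (χ.map_mem hf) hd := by
    rw [← cancel_mono (RelCone.domOpen ψ).ι, Category.assoc, Scheme.isoOfEq_hom_ι, awayDom_ι,
      awayDom_ι]
    rfl
  rw [reassoc_of% e, awayDom_domMap_assoc, awayDom_domMap]
  erw [Proj.awayι_comp_map χ hχ hd f hf]
  rw [← Spec.map_comp_assoc, awayMap_comp χ ψ hf]
  rfl

lemma domOpen_eq_top_of_irrelevant_le (hψ : ℬ₊ ≤ (𝒜₊).map ψ) : RelCone.domOpen ψ = ⊤ := by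
  refine eq_top_iff.mpr fun x _ ↦ ?_
  by_contra hne
  exact x.not_irrelevant_le (le_trans hψ (Ideal.map_le_iff_le_comap.mpr fun a ha ↦
    not_not.mp fun hax ↦ hne ((RelCone.mem_domOpen ψ x).mpr ⟨a, ha, hax⟩)))

/-- Under the irrelevant ideal hypothesis it is `Proj.map`. -/
lemma domMap_eq_map (hψ : ℬ₊ ≤ (𝒜₊).map ψ) :
    domMap ψ = (RelCone.domOpen ψ).ι ≫ Proj.map ψ hψ :=
  dom_hom_ext ψ fun hf hd ↦ by
    rw [awayDom_domMap, awayDom_ι_assoc, Proj.awayι_comp_map ψ hψ hd _ hf]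

/-- The degree zero part of a graded homomorphism. -/
def zeroHom : 𝒜 0 →+* ℬ 0 where
  toFun a := ⟨ψ a, ψ.map_mem a.2⟩
  map_one' := Subtype.ext (map_one ψ)
  map_mul' a b := Subtype.ext (map_mul ψ (a : A) b)
  map_zero' := Subtype.ext (map_zero ψ)
  map_add' a b := Subtype.ext (map_add ψ (a : A) b)

@[simp] lemma zeroHom_coe (a : 𝒜 0) : (zeroHom ψ a : B) = ψ a := rfl

lemma awayMap_comp_fromZero {f : A} :
    (Away.map ψ f).comp (fromZeroRingHom 𝒜 (Submonoid.powers f)) =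
      (fromZeroRingHom ℬ (Submonoid.powers (ψ f))).comp (zeroHom ψ) := by
  refine RingHom.ext fun a ↦ HomogeneousLocalization.val_injective _ ?_
  simp only [RingHom.comp_apply, Away.map, fromZeroRingHom, RingHom.coe_mk, MonoidHom.coe_mk,
    OneHom.coe_mk, map_mk, val_mk]
  exact congr_arg₂ Localization.mk rfl (Subtype.ext (map_one ψ))

@[reassoc]
lemma domMap_toSpecZero :
    domMap ψ ≫ Proj.toSpecZero 𝒜 =
      (RelCone.domOpen ψ).ι ≫ Proj.toSpecZero ℬ ≫ Spec.map (CommRingCat.ofHom (zeroHom ψ)) :=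
  dom_hom_ext ψ fun {d f} hf hd ↦ by
    rw [awayDom_domMap_assoc, awayDom_ι_assoc, Proj.awayι_toSpecZero, Proj.awayι_toSpecZero_assoc,
      ← Spec.map_comp, ← Spec.map_comp, ← CommRingCat.ofHom_comp, ← CommRingCat.ofHom_comp,
      awayMap_comp_fromZero]

end Groth.Agent.EgaQ
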