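import Groth.Prelude.Def_RelProj4
import Groth.Agent.EgaQ.DomMap
import Groth.Agent.Proj16.RelExist
import Groth.Agent.RelTildeX.Chart

/-!
# The morphism `Proj(u)` on its open of definition
-/

universe u

open CategoryTheory CategoryTheory.Limits AlgebraicGeometry TopologicalSpace Opposite
open scoped HomogeneousIdeal

noncomputable section

set_option backward.isDefEq.respectTransparency false

namespace Groth.Agent.EgaQ

variable {S S' : Scheme.{u}}

/-- An affine pair over a morphism. -/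
structure APair (g : S' ⟶ S) where
  U : S.Opens
  hU : IsAffineOpen U
  U' : S'.Opens
  hU' : IsAffineOpen U'
  le : U' ≤ g ⁻¹ᵁ U

/-- `σ` refines `π` by basic opens. -/
structure APair.Refines {g : S' ⟶ S} (σ π : APair g) : Prop where
  basic : ∃ r : Γ(S, π.U), S.basicOpen r = σ.U
  basic' : ∃ r : Γ(S', π.U'), S'.basicOpen r = σ.U'

lemma APair.Refines.leU {g : S' ⟶ S} {σ π : APair g} (h : σ.Refines π) : σ.U ≤ π.U := by
  obtain ⟨r, hr⟩ := h.basic; exact hr ▸ S.basicOpen_le r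

lemma APair.Refines.leU' {g : S' ⟶ S} {σ π : APair g} (h : σ.Refines π) : σ.U' ≤ π.U' := by
  obtain ⟨r, hr⟩ := h.basic'; exact hr ▸ S'.basicOpen_le r

lemma APair.exists_refines {g : S' ⟶ S} (π₁ π₂ : APair g) (y : S') (h₁ : y ∈ π₁.U') (h₂ : y ∈ π₂.U') :
    ∃ σ : APair g, σ.Refines π₁ ∧ σ.Refines π₂ ∧ y ∈ σ.U' := by
  obtain ⟨r, s, hrs, hy⟩ := exists_basicOpen_le_affine_inter π₁.hU π₂.hU (g y) ⟨π₁.le h₁, π₂.le h₂⟩
  obtain ⟨r', s', hrs', hy'⟩ := exists_basicOpen_le_affine_inter π₁.hU' π₂.hU' y ⟨h₁, h₂⟩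
  obtain ⟨t, ht, hyt⟩ := (π₁.hU'.basicOpen r').exists_basicOpen_le
    (V := g ⁻¹ᵁ S.basicOpen r) ⟨y, hy⟩ hy'
  obtain ⟨a, ha⟩ := π₁.hU'.basicOpen_basicOpen_is_basicOpen r' t
  have hb : ∃ b : Γ(S', π₂.U'), S'.basicOpen b = S'.basicOpen t := by
    have key : ∀ (W : S'.Opens) (t : Γ(S', W)), W = S'.basicOpen s' →
        ∃ b : Γ(S', π₂.U'), S'.basicOpen b = S'.basicOpen t := by
      rintro W t rfl
      exact π₂.hU'.basicOpen_basicOpen_is_basicOpen s' t
    exact key _ t hrs'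
  exact ⟨⟨S.basicOpen r, π₁.hU.basicOpen r, S'.basicOpen t, (π₁.hU'.basicOpen r').basicOpen t, ht⟩,
    ⟨⟨r, rfl⟩, ⟨a, ha⟩⟩, ⟨⟨s, hrs.symm⟩, hb⟩, hyt⟩

section emb

variable {𝒮 : RelProj.QCGrAlg S} {P : Scheme.{u}} {p : P ⟶ S}
  {chart : ∀ (U : S.Opens) (hU : IsAffineOpen U),
    (((p ⁻¹ᵁ U : P.Opens) : Scheme.{u}) ≅ Proj (𝒮.deg U hU))}
  (hP : RelProj.IsRelProj 𝒮 p chart)

include hP in
lemma emb_π (U : S.Opens) (hU : IsAffineOpen U) :
    RelProj.emb p chart U hU ≫ p =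
      Proj.toSpecZero (𝒮.deg U hU) ≫ Spec.map (𝒮.strZero U hU) ≫ hU.fromSpec := by
  rw [RelProj.emb, Category.assoc, ← hP.chart_over U hU, Iso.inv_hom_id_assoc]

include hP in
lemma map_res_emb' {U V : S.Opens} (hU : IsAffineOpen U) (hV : IsAffineOpen V) (i : V ≤ U)
    (h : ∃ r : Γ(S, U), S.basicOpen r = V) :
    Proj.map (𝒮.res hU hV i) (Proj16.irrelevant_le_res 𝒮 hU hV i h) ≫ RelProj.emb p chart U hU =
      RelProj.emb p chart V hV := by
  obtain ⟨r, rfl⟩ := h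
  exact RelProj.map_res_emb hP U hU r

lemma mem_range_emb (U : S.Opens) (hU : IsAffineOpen U) (x : P) (hx : p x ∈ U) :
    ∃ z : Proj (𝒮.deg U hU), RelProj.emb p chart U hU z = x := by
  have h : x ∈ (RelProj.emb p chart U hU).opensRange := by
    rw [RelTildeX.opensRange_emb]; exact hx
  exact h

lemma π_emb_mem (U : S.Opens) (hU : IsAffineOpen U) (z : Proj (𝒮.deg U hU)) :
    p (RelProj.emb p chart U hU z) ∈ U := by
  have h : RelProj.emb p chart U hU z ∈ (RelProj.emb p chart U hU).opensRange := ⟨z, rfl⟩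
  rw [RelTildeX.opensRange_emb] at h
  exact h

end emb

variable {g : S' ⟶ S} {𝒮 : RelProj.QCGrAlg S} {𝒮' : RelProj.QCGrAlg S'} (u : RelProj.QGrHom g 𝒮 𝒮')

/-- The graded homomorphism over a pair. -/
abbrev uAt (π : APair g) : 𝒮.deg π.U π.hU →+*ᵍ 𝒮'.deg π.U' π.hU' :=
  u.gradedAt π.U π.hU π.U' π.hU' π.le

/-- The mixed composite of a refinement. -/
lemma uAt_refines {σ π : APair g} (h : σ.Refines π) :
    (uAt u σ).comp (𝒮.res π.hU σ.hU h.leU) = (𝒮'.res π.hU' σ.hU' h.leU').comp (uAt u π) := by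
  ext x
  exact (ConcreteCategory.congr_hom (u.map_appLE h.leU σ.le) x).trans
    (ConcreteCategory.congr_hom (u.appLE_map π.le h.leU') x).symm

variable {P' : Scheme.{u}} {p' : P' ⟶ S'}
  {chart' : ∀ (U' : S'.Opens) (hU' : IsAffineOpen U'),
    (((p' ⁻¹ᵁ U' : P'.Opens) : Scheme.{u}) ≅ Proj (𝒮'.deg U' hU'))}

lemma emb_mem_domQ (π : APair g) {z : Proj (𝒮'.deg π.U' π.hU')}
    (hz : z ∈ RelCone.domOpen (uAt u π)) :
    RelProj.emb p' chart' π.U' π.hU' z ∈ RelProj.domQ u p' chart' :=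
  Opens.mem_iSup.mpr ⟨⟨(⟨π.U, π.hU⟩, ⟨π.U', π.hU'⟩), π.le⟩, z, hz, rfl⟩

/-- The domain over a pair, inside `G(u)`. -/
def domι (π : APair g) :
    (RelCone.domOpen (uAt u π) : (Proj (𝒮'.deg π.U' π.hU')).Opens).toScheme ⟶
      (RelProj.domQ u p' chart' : P'.Opens).toScheme :=
  IsOpenImmersion.lift (RelProj.domQ u p' chart').ι
    ((RelCone.domOpen (uAt u π)).ι ≫ RelProj.emb p' chart' π.U' π.hU') (by
      rw [Scheme.Opens.range_ι]
      rintro _ ⟨z, rfl⟩
      exact emb_mem_domQ u π z.2)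

@[reassoc]
lemma domι_ι (π : APair g) :
    domι u (p' := p') (chart' := chart') π ≫ (RelProj.domQ u p' chart').ι =
      (RelCone.domOpen (uAt u π)).ι ≫ RelProj.emb p' chart' π.U' π.hU' :=
  IsOpenImmersion.lift_fac _ _ _

instance isOpenImmersion_domι (π : APair g) :
    IsOpenImmersion (domι u (p' := p') (chart' := chart') π) := by
  have : IsOpenImmersion (domι u (p' := p') (chart' := chart') π ≫ (RelProj.domQ u p' chart').ι) := by
    rw [domι_ι]; infer_instance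
  exact IsOpenImmersion.of_comp _ (RelProj.domQ u p' chart').ι

/-- The cover of `G(u)` by the pairs. -/
def domCover : (RelProj.domQ u p' chart' : P'.Opens).toScheme.OpenCover :=
  Scheme.Cover.mkOfCovers (APair g)
    (fun π ↦ (RelCone.domOpen (uAt u π) : (Proj (𝒮'.deg π.U' π.hU')).Opens).toScheme)
    (fun π ↦ domι u π)
    (fun x ↦ by
      obtain ⟨V, z, hz, hzx⟩ := Opens.mem_iSup.mp x.2
      refine ⟨⟨V.1.1.1, V.1.1.2, V.1.2.1, V.1.2.2, V.2⟩, ⟨z, hz⟩, ?_⟩
      apply (RelProj.domQ u p' chart').ι.isOpenEmbedding.injective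
      rw [← Scheme.Hom.comp_apply, domι_ι]
      exact hzx)
    (fun π ↦ isOpenImmersion_domι u π)

variable (hP' : RelProj.IsRelProj 𝒮' p' chart')

lemma mem_domOpen_refines {σ π : APair g} (h : σ.Refines π) (z : Proj (𝒮'.deg σ.U' σ.hU')) :
    z ∈ RelCone.domOpen (uAt u σ) ↔
      Proj.map (𝒮'.res π.hU' σ.hU' h.leU') (Proj16.irrelevant_le_res 𝒮' π.hU' σ.hU' h.leU' h.basic') z ∈
        RelCone.domOpen (uAt u π) := by
  rw [← domOpen_comp_of_irrelevant_le (uAt u σ) (𝒮.res π.hU σ.hU h.leU)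
    (Proj16.irrelevant_le_res 𝒮 π.hU σ.hU h.leU h.basic), uAt_refines u h]
  exact mem_domOpen_comp (uAt u π) _ _ z

include hP' in
/-- A point of `Proj 𝒮'(U')` lies over `G(u)` iff it lies in the open of definition over the pair. -/
lemma emb_mem_domQ_iff (π : APair g) (z : Proj (𝒮'.deg π.U' π.hU')) :
    RelProj.emb p' chart' π.U' π.hU' z ∈ RelProj.domQ u p' chart' ↔
      z ∈ RelCone.domOpen (uAt u π) := by
  refine ⟨fun hx ↦ ?_, emb_mem_domQ u π⟩
  obtain ⟨V, w, hw, hwx⟩ := Opens.mem_iSup.mp hx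
  let π₂ : APair g := ⟨V.1.1.1, V.1.1.2, V.1.2.1, V.1.2.2, V.2⟩
  obtain ⟨σ, h1, h2, hy⟩ := APair.exists_refines π π₂ (p' (RelProj.emb p' chart' π.U' π.hU' z))
    (π_emb_mem π.U' π.hU' z) (by
      have hwx' : RelProj.emb p' chart' π₂.U' π₂.hU' w = RelProj.emb p' chart' π.U' π.hU' z := hwx
      rw [← hwx']; exact π_emb_mem π₂.U' π₂.hU' w)
  obtain ⟨t, ht⟩ := mem_range_emb σ.U' σ.hU' _ hy
  have e1 : Proj.map (𝒮'.res π.hU' σ.hU' h1.leU')
      (Proj16.irrelevant_le_res 𝒮' π.hU' σ.hU' h1.leU' h1.basic') t = z := by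
    apply (RelProj.emb p' chart' π.U' π.hU').isOpenEmbedding.injective
    rw [← Scheme.Hom.comp_apply, map_res_emb' hP' π.hU' σ.hU' h1.leU' h1.basic', ht]
  have e2 : Proj.map (𝒮'.res π₂.hU' σ.hU' h2.leU')
      (Proj16.irrelevant_le_res 𝒮' π₂.hU' σ.hU' h2.leU' h2.basic') t = w := by
    apply (RelProj.emb p' chart' π₂.U' π₂.hU').isOpenEmbedding.injective
    rw [← Scheme.Hom.comp_apply, map_res_emb' hP' π₂.hU' σ.hU' h2.leU' h2.basic', ht]
    exact hwx.symm
  have ht2 : t ∈ RelCone.domOpen (uAt u σ) := (mem_domOpen_refines u h2 t).mpr (by rw [e2]; exact hw)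
  exact e1 ▸ (mem_domOpen_refines u h1 t).mp ht2

include hP' in
lemma domQ_inf_preimage (π : APair g) :
    RelProj.domQ u p' chart' ⊓ p' ⁻¹ᵁ π.U' =
      RelProj.emb p' chart' π.U' π.hU' ''ᵁ RelCone.domOpen (uAt u π) := by
  ext x
  constructor
  · rintro ⟨hx, hxU⟩
    obtain ⟨z, rfl⟩ := mem_range_emb (p := p') (chart := chart') π.U' π.hU' x hxU
    exact ⟨z, (emb_mem_domQ_iff u hP' π z).mp hx, rfl⟩
  · rintro ⟨z, hz, rfl⟩
    exact ⟨emb_mem_domQ u π hz, π_emb_mem π.U' π.hU' z⟩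

variable {P : Scheme.{u}} {p : P ⟶ S}
  {chart : ∀ (U : S.Opens) (hU : IsAffineOpen U),
    (((p ⁻¹ᵁ U : P.Opens) : Scheme.{u}) ≅ Proj (𝒮.deg U hU))}
  (hP : RelProj.IsRelProj 𝒮 p chart)

variable (p chart) in
/-- The local morphism over a pair. -/
def locMap (π : APair g) :
    (RelCone.domOpen (uAt u π) : (Proj (𝒮'.deg π.U' π.hU')).Opens).toScheme ⟶ P :=
  domMap (uAt u π) ≫ RelProj.emb p chart π.U π.hU

variable {u}

lemma awayDom_domι (π : APair g) {d : ℕ} {f : 𝒮.presheaf.obj (op π.U)}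
    (hf : f ∈ 𝒮.deg π.U π.hU d) (hd : 0 < d) :
    awayDom (uAt u π) hf hd ≫ domι u (p' := p') (chart' := chart') π ≫ (RelProj.domQ u p' chart').ι =
      RelProj.awayEmb u p' chart' π.U π.hU π.U' π.hU' π.le hd f hf := by
  rw [domι_ι, awayDom_ι_assoc]
  rfl

/-- `IsProjQMapOn` on `G(u)`, read over the pairs. -/
lemma isProjQMapOn_iff (v : (RelProj.domQ u p' chart' : P'.Opens).toScheme ⟶ P) :
    RelProj.IsProjQMapOn u p chart p' chart' (RelProj.domQ u p' chart') v ↔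
      ∀ π : APair g, domι u π ≫ v = locMap u p chart π := by
  constructor
  · intro h π
    refine dom_hom_ext _ fun {d f} hf hd ↦ ?_
    have e : awayDom (uAt u π) hf hd ≫ domι u π =
        IsOpenImmersion.lift (RelProj.domQ u p' chart').ι
          (RelProj.awayEmb u p' chart' π.U π.hU π.U' π.hU' π.le hd f hf)
          (RelProj.range_awayEmb_subset_domQ ..) := by
      rw [← cancel_mono (RelProj.domQ u p' chart').ι, Category.assoc, awayDom_domι,
        IsOpenImmersion.lift_fac]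
    rw [reassoc_of% e, h π.U π.hU π.U' π.hU' π.le d hd f hf, locMap, awayDom_domMap_assoc]
  · intro h U hU U' hU' hle d hd f hf hW
    let π : APair g := ⟨U, hU, U', hU', hle⟩
    have e : IsOpenImmersion.lift (RelProj.domQ u p' chart').ι
        (RelProj.awayEmb u p' chart' U hU U' hU' hle hd f hf) hW =
        awayDom (uAt u π) hf hd ≫ domι u π := by
      rw [← cancel_mono (RelProj.domQ u p' chart').ι, Category.assoc, awayDom_domι,
        IsOpenImmersion.lift_fac]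
    rw [e, Category.assoc, h π, locMap, awayDom_domMap_assoc]

lemma projQMapOn_ext {v w : (RelProj.domQ u p' chart' : P'.Opens).toScheme ⟶ P}
    (hv : RelProj.IsProjQMapOn u p chart p' chart' (RelProj.domQ u p' chart') v)
    (hw : RelProj.IsProjQMapOn u p chart p' chart' (RelProj.domQ u p' chart') w) : v = w :=
  (domCover u).hom_ext _ _ fun π ↦
    ((isProjQMapOn_iff v).mp hv π).trans ((isProjQMapOn_iff w).mp hw π).symm

variable (u)

include hP hP' in
lemma exists_locMap_refines {σ π : APair g} (h : σ.Refines π) :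
    ∃ k, k ≫ domι u (p' := p') (chart' := chart') π = domι u σ ∧
      k ≫ locMap u p chart π = locMap u p chart σ := by
  let χ' := 𝒮'.res π.hU' σ.hU' h.leU'
  have hχ' := Proj16.irrelevant_le_res 𝒮' π.hU' σ.hU' h.leU' h.basic'
  let k := IsOpenImmersion.lift (RelCone.domOpen (uAt u π)).ι
    ((RelCone.domOpen (uAt u σ)).ι ≫ Proj.map χ' hχ') (by
      rw [Scheme.Opens.range_ι]
      rintro _ ⟨z, rfl⟩
      exact (mem_domOpen_refines u h _).mp z.2)
  have hk : k ≫ (RelCone.domOpen (uAt u π)).ι = (RelCone.domOpen (uAt u σ)).ι ≫ Proj.map χ' hχ' :=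
    IsOpenImmersion.lift_fac _ _ _
  refine ⟨k, ?_, ?_⟩
  · rw [← cancel_mono (RelProj.domQ u p' chart').ι, Category.assoc, domι_ι, domι_ι,
      reassoc_of% hk]
    exact congrArg (_ ≫ ·) (map_res_emb' hP' π.hU' σ.hU' h.leU' h.basic')
  · let χ := 𝒮.res π.hU σ.hU h.leU
    have hχ := Proj16.irrelevant_le_res 𝒮 π.hU σ.hU h.leU h.basic
    have e := domOpen_comp_of_irrelevant_le (uAt u σ) χ hχ
    let m := ((Proj _).isoOfEq e.symm).hom
    have hm : m ≫ (RelCone.domOpen ((uAt u σ).comp χ)).ι = (RelCone.domOpen (uAt u σ)).ι :=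
      Scheme.isoOfEq_hom_ι _ _
    have e2 : RelCone.domOpen ((uAt u σ).comp χ) = RelCone.domOpen (χ'.comp (uAt u π)) :=
      congrArg RelCone.domOpen (uAt_refines u h)
    let m' := ((Proj _).isoOfEq (e.symm.trans e2)).hom
    have hm' : m' ≫ (RelCone.domOpen (χ'.comp (uAt u π))).ι = (RelCone.domOpen (uAt u σ)).ι :=
      Scheme.isoOfEq_hom_ι _ _
    have h1 := domMap_comp_left (uAt u σ) χ hχ m (𝟙 _) (by rw [hm, Category.id_comp])
    have h2 := domMap_congr _ (uAt_refines u h) m m' (by rw [hm, hm'])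
    have h3 := domMap_comp_map (uAt u π) χ' hχ' m' k (by rw [reassoc_of% hm', hk])
    rw [Category.id_comp] at h1
    rw [locMap, locMap, ← map_res_emb' hP π.hU σ.hU h.leU h.basic, reassoc_of% h1,
      reassoc_of% h2, reassoc_of% h3]

include hP hP' in
lemma exists_isProjQMapOn :
    ∃ v, RelProj.IsProjQMapOn u p chart p' chart' (RelProj.domQ u p' chart') v := by
  let 𝒰 := domCover u (p' := p') (chart' := chart')
  have hcompat : ∀ i j, pullback.fst (𝒰.f i) (𝒰.f j) ≫ locMap u p chart i =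
      pullback.snd (𝒰.f i) (𝒰.f j) ≫ locMap u p chart j := by
    intro π₁ π₂
    refine Scheme.hom_ext_of_forall _ _ fun x ↦ ?_
    let a := pullback.fst (𝒰.f π₁) (𝒰.f π₂) ≫ domι u (p' := p') (chart' := chart') π₁
    let y := p' ((RelProj.domQ u p' chart').ι (a x))
    have hmem : ∀ (π : APair g) (w), p' ((RelProj.domQ u p' chart').ι
        (domι u (p' := p') (chart' := chart') π w)) ∈ π.U' := fun π w ↦ by
      rw [← Scheme.Hom.comp_apply (domι u π), domι_ι, Scheme.Hom.comp_apply]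
      exact π_emb_mem π.U' π.hU' _
    obtain ⟨σ, h1, h2, hy⟩ := APair.exists_refines π₁ π₂ y (hmem π₁ _) (by
      have : a = pullback.snd (𝒰.f π₁) (𝒰.f π₂) ≫ domι u (p' := p') (chart' := chart') π₂ :=
        pullback.condition
      show p' ((RelProj.domQ u p' chart').ι (a x)) ∈ π₂.U'
      rw [this, Scheme.Hom.comp_apply]
      exact hmem π₂ _)
    obtain ⟨z, hz⟩ := mem_range_emb σ.U' σ.hU' _ hy
    have hzd : z ∈ RelCone.domOpen (uAt u σ) :=
      (emb_mem_domQ_iff u hP' σ z).mp (hz ▸ (a x).2)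
    refine ⟨a ⁻¹ᵁ (domι u σ).opensRange, ⟨⟨z, hzd⟩, ?_⟩, ?_⟩
    · apply (RelProj.domQ u p' chart').ι.isOpenEmbedding.injective
      rw [← Scheme.Hom.comp_apply, domι_ι]
      exact hz
    · set T := a ⁻¹ᵁ (domι u (p' := p') (chart' := chart') σ).opensRange
      let m := IsOpenImmersion.lift (domι u (p' := p') (chart' := chart') σ) (T.ι ≫ a) (by
        rintro _ ⟨w, rfl⟩
        exact w.2)
      have hm : m ≫ domι u σ = T.ι ≫ a := IsOpenImmersion.lift_fac _ _ _
      obtain ⟨k₁, hk₁, hk₁'⟩ := exists_locMap_refines u hP' hP h1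
      obtain ⟨k₂, hk₂, hk₂'⟩ := exists_locMap_refines u hP' hP h2
      have f1 : T.ι ≫ pullback.fst (𝒰.f π₁) (𝒰.f π₂) = m ≫ k₁ := by
        rw [← cancel_mono (domι u (p' := p') (chart' := chart') π₁), Category.assoc, Category.assoc,
          hk₁, hm]
      have f2 : T.ι ≫ pullback.snd (𝒰.f π₁) (𝒰.f π₂) = m ≫ k₂ := by
        rw [← cancel_mono (domι u (p' := p') (chart' := chart') π₂), Category.assoc, Category.assoc,
          hk₂, hm]
        exact congrArg (_ ≫ ·) pullback.condition.symm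
      rw [reassoc_of% f1, reassoc_of% f2, hk₁', hk₂']
  exact ⟨𝒰.glueMorphisms _ hcompat,
    (isProjQMapOn_iff _).mpr fun π ↦ 𝒰.ι_glueMorphisms _ hcompat π⟩

variable {u}

include hP hP' in
lemma projQMapOn_comp {v : (RelProj.domQ u p' chart' : P'.Opens).toScheme ⟶ P}
    (hv : RelProj.IsProjQMapOn u p chart p' chart' (RelProj.domQ u p' chart') v) :
    v ≫ p = (RelProj.domQ u p' chart').ι ≫ p' ≫ g := by
  refine (domCover u).hom_ext _ _ fun π ↦ ?_
  show domι u π ≫ v ≫ p = domι u π ≫ (RelProj.domQ u p' chart').ι ≫ p' ≫ g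
  rw [reassoc_of% ((isProjQMapOn_iff v).mp hv π), locMap, Category.assoc, emb_π hP,
    domι_ι_assoc, reassoc_of% (emb_π hP' π.U' π.hU'), domMap_toSpecZero_assoc]
  congr 2
  rw [← IsAffineOpen.SpecMap_appLE_fromSpec g π.hU π.hU' π.le, ← Spec.map_comp_assoc,
    ← Spec.map_comp_assoc]
  congr 2
  ext r
  exact ConcreteCategory.congr_hom (u.str_appLE π.U π.U' π.le) r

end Groth.Agent.EgaQ
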