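import Groth.Agent.EgaQ.DomMap
import Mathlib.Algebra.Category.Ring.Constructions
import Mathlib.RingTheory.IsTensorProduct

/-!
# Degree zero localizations commute with base change
-/

universe u

open SetLike AlgebraicGeometry HomogeneousLocalization CategoryTheory CategoryTheory.Limits TensorProduct
open scoped HomogeneousIdeal

set_option backward.isDefEq.respectTransparency false

noncomputable section
set_option linter.all false

namespace Groth.Agent.EgaQ

variable {R R' A B σ τ : Type u} [CommRing R] [CommRing R'] [CommRing A] [CommRing B]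
  [SetLike σ A] [AddSubgroupClass σ A] [SetLike τ B] [AddSubgroupClass τ B]
  {𝒜 : ℕ → σ} [GradedRing 𝒜] {ℬ : ℕ → τ} [GradedRing ℬ]
  (φ : R →+* R') (rA : R →+* 𝒜 0) (rB : R' →+* ℬ 0) (ψ : 𝒜 →+*ᵍ ℬ)

/-- The square of rings: `B = A ⊗_R R'`. -/
def IsGradedBC : Prop :=
  CategoryTheory.IsPushout (CommRingCat.ofHom φ)
    (CommRingCat.ofHom ((SetLike.GradeZero.subring 𝒜).subtype.comp rA))
    (CommRingCat.ofHom ((SetLike.GradeZero.subring ℬ).subtype.comp rB))
    (CommRingCat.ofHom ψ.toRingHom)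

variable {φ rA rB ψ}

lemma IsGradedBC.isBaseChange (h : IsGradedBC φ rA rB ψ) :
    letI := φ.toAlgebra
    letI := ((SetLike.GradeZero.subring 𝒜).subtype.comp rA).toAlgebra
    letI := ((SetLike.GradeZero.subring ℬ).subtype.comp rB).toAlgebra
    letI := (((SetLike.GradeZero.subring ℬ).subtype.comp rB).comp φ).toAlgebra
    haveI : IsScalarTower R R' B := IsScalarTower.of_algebraMap_eq' rfl
    ∃ l : A →ₗ[R] B, (∀ a, l a = ψ a) ∧ IsBaseChange R' l := by
  letI := φ.toAlgebra
  letI := ((SetLike.GradeZero.subring 𝒜).subtype.comp rA).toAlgebra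
  letI := ((SetLike.GradeZero.subring ℬ).subtype.comp rB).toAlgebra
  letI := (((SetLike.GradeZero.subring ℬ).subtype.comp rB).comp φ).toAlgebra
  haveI : IsScalarTower R R' B := IsScalarTower.of_algebraMap_eq' rfl
  letI : Algebra A B := ψ.toRingHom.toAlgebra
  haveI : IsScalarTower R A B := IsScalarTower.of_algebraMap_eq' congr(($(h.w)).hom)
  have hp : Algebra.IsPushout R R' A B := (CommRingCat.isPushout_iff_isPushout).mp h
  exact ⟨(IsScalarTower.toAlgHom R A B).toLinearMap, fun _ ↦ rfl, hp.out⟩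

/-- The irrelevant ideal of a base change is generated by the image. -/
lemma IsGradedBC.irrelevant_le (h : IsGradedBC φ rA rB ψ) : ℬ₊ ≤ (𝒜₊).map ψ := by
  letI := φ.toAlgebra
  letI := ((SetLike.GradeZero.subring 𝒜).subtype.comp rA).toAlgebra
  letI := ((SetLike.GradeZero.subring ℬ).subtype.comp rB).toAlgebra
  letI := (((SetLike.GradeZero.subring ℬ).subtype.comp rB).comp φ).toAlgebra
  haveI : IsScalarTower R R' B := IsScalarTower.of_algebraMap_eq' rfl
  obtain ⟨l, hl, hbc⟩ := h.isBaseChange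
  intro b hb
  have key : b - GradedRing.proj ℬ 0 b ∈ ((𝒜₊).map ψ).toIdeal := by
    refine hbc.inductionOn b (motive := fun b ↦ b - GradedRing.proj ℬ 0 b ∈ ((𝒜₊).map ψ).toIdeal)
      ?_ (fun a ↦ ?_) (fun r n hn ↦ ?_) (fun m n hm hn ↦ ?_)
    · rw [map_zero, sub_zero]; exact Ideal.zero_mem _
    · rw [hl]
      have : ψ a - GradedRing.proj ℬ 0 (ψ a) = ψ (a - GradedRing.proj 𝒜 0 a) := by
        rw [map_sub, Proj16.proj_map_commutes]
      rw [this]
      refine Ideal.mem_map_of_mem _ ?_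
      change GradedRing.proj 𝒜 0 (a - GradedRing.proj 𝒜 0 a) = 0
      rw [map_sub, Proj16.proj_of_mem 𝒜 (Proj16.proj_mem 𝒜 0 a), sub_self]
    · rw [Algebra.smul_def, GradedRing.proj_apply,
        DirectSum.coe_decompose_mul_of_left_mem_of_le ℬ (i := 0)
          (show algebraMap R' B r ∈ ℬ 0 from (rB r).2) (Nat.le_refl 0), tsub_zero, ← mul_sub]
      exact Ideal.mul_mem_left _ _ hn
    · rw [map_add, add_sub_add_comm]; exact Ideal.add_mem _ hm hn
  rwa [show GradedRing.proj ℬ 0 b = 0 from hb, sub_zero] at key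

/-- `𝒜_(f) → ℬ_(ψ f)` is the base change of `R → R'`. -/
theorem IsGradedBC.away (h : IsGradedBC φ rA rB ψ) {d : ℕ} {f : A} (hf : f ∈ 𝒜 d) :
    CategoryTheory.IsPushout (CommRingCat.ofHom φ)
      (CommRingCat.ofHom ((fromZeroRingHom 𝒜 (Submonoid.powers f)).comp rA))
      (CommRingCat.ofHom ((fromZeroRingHom ℬ (Submonoid.powers (ψ f))).comp rB))
      (CommRingCat.ofHom (Away.map ψ f)) := by
  classical
  letI := φ.toAlgebra
  letI := ((SetLike.GradeZero.subring 𝒜).subtype.comp rA).toAlgebra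
  letI := ((SetLike.GradeZero.subring ℬ).subtype.comp rB).toAlgebra
  letI := (((SetLike.GradeZero.subring ℬ).subtype.comp rB).comp φ).toAlgebra
  haveI : IsScalarTower R R' B := IsScalarTower.of_algebraMap_eq' rfl
  obtain ⟨l, hl, hbc⟩ := h.isBaseChange
  letI : Algebra R (Away 𝒜 f) := ((fromZeroRingHom 𝒜 (Submonoid.powers f)).comp rA).toAlgebra
  letI : Algebra R' (Away ℬ (ψ f)) :=
    ((fromZeroRingHom ℬ (Submonoid.powers (ψ f))).comp rB).toAlgebra
  letI : Algebra R (Away ℬ (ψ f)) :=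
    (((fromZeroRingHom ℬ (Submonoid.powers (ψ f))).comp rB).comp φ).toAlgebra
  haveI : IsScalarTower R R' (Away ℬ (ψ f)) := IsScalarTower.of_algebraMap_eq' rfl
  letI : Algebra (Away 𝒜 f) (Away ℬ (ψ f)) := (Away.map ψ f).toAlgebra
  have hφψ : ∀ r, zeroHom ψ (rA r) = rB (φ r) := fun r ↦
    Subtype.ext ((congr($(h.w).hom r)).symm)
  haveI : IsScalarTower R (Away 𝒜 f) (Away ℬ (ψ f)) := IsScalarTower.of_algebraMap_eq' <| by
    change _ = (Away.map ψ f).comp ((fromZeroRingHom 𝒜 (Submonoid.powers f)).comp rA)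
    rw [← RingHom.comp_assoc, awayMap_comp_fromZero, RingHom.comp_assoc]
    exact RingHom.ext fun r ↦ congrArg (fromZeroRingHom ℬ _) (hφψ r).symm
  refine (CommRingCat.isPushout_iff_isPushout).mpr ⟨?_⟩
  -- degree projections
  have hmem0 : ∀ (k : ℕ) (a : A), GradedRing.proj 𝒜 (k • d) a ∈ 𝒜 (k • d) := fun k a ↦
    SetLike.coe_mem _
  let q : ℕ → A →ₗ[R] Away 𝒜 f := fun k ↦
    { toFun := fun a ↦ Away.mk 𝒜 hf k (GradedRing.proj 𝒜 (k • d) a) (hmem0 k a)
      map_add' := fun a b ↦ by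
        apply HomogeneousLocalization.val_injective
        simp [Away.val_mk, HomogeneousLocalization.val_add, Localization.add_mk_self]
      map_smul' := fun r a ↦ by
        apply HomogeneousLocalization.val_injective
        rw [RingHom.id_apply, Algebra.smul_def (A := Away 𝒜 f) r, HomogeneousLocalization.val_mul,
          Away.val_mk, Away.val_mk]
        simp only [Algebra.smul_def r, GradedRing.proj_apply]
        rw [
          DirectSum.coe_decompose_mul_of_left_mem_of_le 𝒜 (i := 0)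
            (show algebraMap R A r ∈ 𝒜 0 from (rA r).2) (Nat.zero_le _), tsub_zero]
        rw [show (algebraMap R (Away 𝒜 f) r).val =
          Localization.mk (algebraMap R A r) 1 from rfl, Localization.mk_mul, one_mul] }
  let Φ : ℕ → B →ₗ[R'] (R' ⊗[R] Away 𝒜 f) := fun k ↦
    ((q k).baseChange R').comp hbc.equiv.symm.toLinearMap
  have hΦ : ∀ k a, Φ k (ψ a) = (1 : R') ⊗ₜ q k a := fun k a ↦ by
    show (q k).baseChange R' (hbc.equiv.symm (ψ a)) = _
    rw [← hl, hbc.equiv_symm_apply, LinearMap.baseChange_tmul]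
  have hshift : ∀ k m a, q (k + m) (f ^ m * a) = q k a := fun k m a ↦ by
    apply HomogeneousLocalization.val_injective
    have e : GradedRing.proj 𝒜 ((k + m) • d) (f ^ m * a) = f ^ m * GradedRing.proj 𝒜 (k • d) a := by
      rw [GradedRing.proj_apply, GradedRing.proj_apply, add_comm k m, add_smul,
        DirectSum.coe_decompose_mul_add_of_left_mem 𝒜 (SetLike.pow_mem_graded m hf)]
    show (Away.mk 𝒜 hf (k + m) (GradedRing.proj 𝒜 ((k + m) • d) (f ^ m * a)) _).val =
      (Away.mk 𝒜 hf k (GradedRing.proj 𝒜 (k • d) a) _).val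
    rw [Away.val_mk, Away.val_mk]
    simp only [e, Localization.mk_eq_mk_iff, Localization.r_iff_exists]
    exact ⟨1, by simp [pow_add]; ring⟩
  have hΦshift : ∀ k m (b : B), Φ (k + m) (ψ f ^ m * b) = Φ k b := fun k m b ↦ by
    refine hbc.inductionOn b (motive := fun b ↦ Φ (k + m) (ψ f ^ m * b) = Φ k b)
      ?_ (fun a ↦ ?_) (fun r n hn ↦ ?_) (fun x y hx hy ↦ ?_)
    · rw [mul_zero, map_zero, map_zero]
    · rw [hl, ← map_pow, ← map_mul, hΦ, hΦ, hshift]
    · rw [mul_smul_comm, map_smul, map_smul, hn]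
    · rw [mul_add, map_add, map_add, hx, hy]
  let Ψ : (R' ⊗[R] Away 𝒜 f) →ₗ[R'] Away ℬ (ψ f) :=
    LinearMap.liftBaseChange R' (IsScalarTower.toAlgHom R (Away 𝒜 f) (Away ℬ (ψ f))).toLinearMap
  have hΨΦ : ∀ (k : ℕ) (b : B), (Ψ (Φ k b)).val =
      Localization.mk (GradedRing.proj ℬ (k • d) b) (⟨ψ f ^ k, k, rfl⟩ : Submonoid.powers (ψ f)) := fun k b ↦ by
    refine hbc.inductionOn b (motive := fun b ↦ (Ψ (Φ k b)).val =
      Localization.mk (GradedRing.proj ℬ (k • d) b) (⟨ψ f ^ k, k, rfl⟩ : Submonoid.powers (ψ f)))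
      ?_ (fun a ↦ ?_) (fun r n hn ↦ ?_) (fun x y hx hy ↦ ?_)
    · rw [map_zero, map_zero, map_zero, HomogeneousLocalization.val_zero, Localization.mk_zero]
    · rw [hl, hΦ, LinearMap.liftBaseChange_tmul, one_smul]
      show (Away.map ψ f (Away.mk 𝒜 hf k (GradedRing.proj 𝒜 (k • d) a) _)).val = _
      rw [Away.map_mk, Away.val_mk]
      congr 1
      exact Proj16.proj_map_commutes ψ _ a
    · rw [map_smul, map_smul, Algebra.smul_def r (Ψ _), HomogeneousLocalization.val_mul, hn]
      simp only [Algebra.smul_def r, GradedRing.proj_apply]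
      rw [DirectSum.coe_decompose_mul_of_left_mem_of_le ℬ (i := 0)
            (show algebraMap R' B r ∈ ℬ 0 from (rB r).2) (Nat.zero_le _), tsub_zero]
      rw [show (algebraMap R' (Away ℬ (ψ f)) r).val =
        Localization.mk (algebraMap R' B r) 1 from rfl, Localization.mk_mul, one_mul]
    · rw [map_add, map_add, map_add, HomogeneousLocalization.val_add, hx, hy, Localization.add_mk_self]
  have hall : ∀ t, ∃ (k : ℕ) (b : B), Φ k b = t := fun t ↦ by
    induction t using TensorProduct.induction_on with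
    | zero => exact ⟨0, 0, map_zero _⟩
    | tmul r x =>
      obtain ⟨k, a, ha, rfl⟩ := x.mk_surjective 𝒜 hf
      refine ⟨k, r • ψ a, ?_⟩
      have hqa : q k a = Away.mk 𝒜 hf k a ha := by
        apply HomogeneousLocalization.val_injective
        show (Away.mk 𝒜 hf k (GradedRing.proj 𝒜 (k • d) a) _).val = _
        simp only [Away.val_mk, Proj16.proj_of_mem 𝒜 ha]
      rw [map_smul, hΦ, hqa, TensorProduct.smul_tmul', smul_eq_mul, mul_one]
    | add x y hx hy =>
      obtain ⟨k, b, rfl⟩ := hx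
      obtain ⟨m, c, rfl⟩ := hy
      refine ⟨k + m, ψ f ^ m * b + ψ f ^ k * c, ?_⟩
      rw [map_add, hΦshift, add_comm k m, hΦshift]
  refine IsBaseChange.of_equiv (LinearEquiv.ofBijective Ψ ⟨?_, fun x ↦ ?_⟩) fun a ↦ ?_
  · rw [← LinearMap.ker_eq_bot, LinearMap.ker_eq_bot']
    intro t ht
    obtain ⟨k, b, rfl⟩ := hall t
    have h0 := congrArg HomogeneousLocalization.val ht
    rw [hΨΦ, HomogeneousLocalization.val_zero, Localization.mk_eq_mk'] at h0
    obtain ⟨⟨_, m, rfl⟩, hm⟩ := (IsLocalization.mk'_eq_zero_iff _ _).mp h0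
    change ψ f ^ m * GradedRing.proj ℬ (k • d) b = 0 at hm
    have hcomp : Φ k b = Φ k (GradedRing.proj ℬ (k • d) b) := by
      refine hbc.inductionOn b (motive := fun b ↦ Φ k b = Φ k (GradedRing.proj ℬ (k • d) b))
        ?_ (fun a ↦ ?_) (fun r n hn ↦ ?_) (fun x y hx hy ↦ ?_)
      · rw [map_zero, map_zero, map_zero]
      · rw [hl, ← Proj16.proj_map_commutes, hΦ, hΦ]
        congr 1
        apply HomogeneousLocalization.val_injective
        show (Away.mk 𝒜 hf k (GradedRing.proj 𝒜 (k • d) a) _).val =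
          (Away.mk 𝒜 hf k (GradedRing.proj 𝒜 (k • d) (GradedRing.proj 𝒜 (k • d) a)) _).val
        simp only [Away.val_mk, Proj16.proj_of_mem 𝒜 (hmem0 k a)]
      · rw [map_smul, hn]
        rw [← map_smul]
        congr 1
        simp only [Algebra.smul_def r, GradedRing.proj_apply]
        rw [
          DirectSum.coe_decompose_mul_of_left_mem_of_le ℬ (i := 0)
            (show algebraMap R' B r ∈ ℬ 0 from (rB r).2) (Nat.zero_le _), tsub_zero]
      · rw [map_add, map_add, map_add, hx, hy]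
    rw [hcomp, ← hΦshift k m, hm, map_zero]
  · obtain ⟨k, b, hb, rfl⟩ := x.mk_surjective ℬ (ψ.map_mem hf)
    refine ⟨Φ k b, HomogeneousLocalization.val_injective _ ?_⟩
    rw [hΨΦ, Away.val_mk, Proj16.proj_of_mem ℬ hb]
    rfl
  · show Ψ (1 ⊗ₜ a) = _
    rw [LinearMap.liftBaseChange_tmul, one_smul]

end Groth.Agent.EgaQ
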