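import Groth.Agent.EgaQ.Rel2
import Groth.Agent.EgaQ.AwayBC
import Mathlib.AlgebraicGeometry.PullbackCarrier

/-!
# Base change of relative `Proj`
-/

universe u

open CategoryTheory CategoryTheory.Limits AlgebraicGeometry TopologicalSpace Opposite
open scoped HomogeneousIdeal

noncomputable section

set_option backward.isDefEq.respectTransparency false

namespace Groth.Agent.EgaQ

variable {S S' : Scheme.{u}} {g : S' ⟶ S} {𝒮 : RelProj.QCGrAlg S} {𝒮' : RelProj.QCGrAlg S'}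
  {u : RelProj.QGrHom g 𝒮 𝒮'}

lemma isGradedBC_uAt (hu : RelSpec.IsQBaseChange u.toQHom) (π : APair g) :
    IsGradedBC (g.appLE π.U π.U' π.le).hom (𝒮.strZero π.U π.hU).hom (𝒮'.strZero π.U' π.hU').hom
      (uAt u π) :=
  hu π.U π.hU π.U' π.hU' π.le

lemma exists_pair (g : S' ⟶ S) (y : S') : ∃ π : APair g, y ∈ π.U' := by
  obtain ⟨_, ⟨U, hU, rfl⟩, hy, -⟩ := S.isBasis_affineOpens.exists_subset_of_mem_open
    (Set.mem_univ (g y)) isOpen_univ
  obtain ⟨_, ⟨U', hU', rfl⟩, hy', hle⟩ := S'.isBasis_affineOpens.exists_subset_of_mem_open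
    (show y ∈ ((g ⁻¹ᵁ U : S'.Opens) : Set S') from hy) (g ⁻¹ᵁ U).isOpen
  exact ⟨⟨U, hU, U', hU', hle⟩, hy'⟩

variable {P : Scheme.{u}} {p : P ⟶ S}
  {chart : ∀ (U : S.Opens) (hU : IsAffineOpen U),
    (((p ⁻¹ᵁ U : P.Opens) : Scheme.{u}) ≅ Proj (𝒮.deg U hU))}
  {P' : Scheme.{u}} {p' : P' ⟶ S'}
  {chart' : ∀ (U' : S'.Opens) (hU' : IsAffineOpen U'),
    (((p' ⁻¹ᵁ U' : P'.Opens) : Scheme.{u}) ≅ Proj (𝒮'.deg U' hU'))}

lemma domQ_eq_top_of_isQBaseChange (hu : RelSpec.IsQBaseChange u.toQHom) :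
    RelProj.domQ u p' chart' = ⊤ :=
  domQ_eq_top u fun y ↦ by
    obtain ⟨π, hπ⟩ := exists_pair g y
    exact ⟨π, hπ, domOpen_eq_top_of_irrelevant_le _ (isGradedBC_uAt hu π).irrelevant_le⟩

/-- The standard affine opens of `P`. -/
structure AIdx (g : S' ⟶ S) (𝒮 : RelProj.QCGrAlg S) where
  π : APair g
  d : ℕ
  hd : 0 < d
  f : 𝒮.presheaf.obj (op π.U)
  hf : f ∈ 𝒮.deg π.U π.hU d

theorem isPullback_projQMap (hu : RelSpec.IsQBaseChange u.toQHom)
    (hP : RelProj.IsRelProj 𝒮 p chart) (hP' : RelProj.IsRelProj 𝒮' p' chart')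
    {h : P' ⟶ P} (hh : RelProj.IsProjQMap u p chart p' chart' h) : IsPullback h p' p g := by
  have hcomm : h ≫ p = p' ≫ g := projQMap_comp hP hP' hh
  let c : P' ⟶ pullback p g := pullback.lift h p' hcomm
  have hc1 : c ≫ pullback.fst p g = h := pullback.lift_fst _ _ _
  have hc2 : c ≫ pullback.snd p g = p' := pullback.lift_snd _ _ _
  suffices IsIso c from IsPullback.of_iso_pullback ⟨hcomm⟩ (asIso c) hc1 hc2
  let chartP : ∀ i : AIdx g 𝒮,
      Spec (CommRingCat.of (HomogeneousLocalization.Away (𝒮.deg i.π.U i.π.hU) i.f)) ⟶ P :=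
    fun i ↦ Proj.awayι (𝒮.deg i.π.U i.π.hU) i.f i.hf i.hd ≫ RelProj.emb p chart i.π.U i.π.hU
  let chartP' : ∀ i : AIdx g 𝒮, Spec (CommRingCat.of
      (HomogeneousLocalization.Away (𝒮'.deg i.π.U' i.π.hU') (uAt u i.π i.f))) ⟶ P' :=
    fun i ↦ RelProj.awayEmb u p' chart' i.π.U i.π.hU i.π.U' i.π.hU' i.π.le i.hd i.f i.hf
  have hoi : ∀ i, IsOpenImmersion (chartP i) := fun i ↦ inferInstanceAs (IsOpenImmersion (_ ≫ _))
  have hoi' : ∀ i, IsOpenImmersion (chartP' i) := fun i ↦ inferInstanceAs (IsOpenImmersion (_ ≫ _))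
  let j := fun i ↦ chartP' i ≫ c
  -- the range of a chart of the source
  have hpre : ∀ i : AIdx g 𝒮,
      (chartP' i).opensRange = h ⁻¹ᵁ (chartP i).opensRange ⊓ p' ⁻¹ᵁ i.π.U' := by
    intro i
    have e : (chartP' i).opensRange =
        RelProj.emb p' chart' i.π.U' i.π.hU' ''ᵁ
          Proj.basicOpen (𝒮'.deg i.π.U' i.π.hU') (uAt u i.π i.f) := by
      simp only [chartP', RelProj.awayEmb, Scheme.Hom.opensRange_comp, Proj.opensRange_awayι]
    have e' : (chartP i).opensRange = RelProj.emb p chart i.π.U i.π.hU ''ᵁ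
        Proj.basicOpen (𝒮.deg i.π.U i.π.hU) i.f := by
      simp only [chartP, Scheme.Hom.opensRange_comp, Proj.opensRange_awayι]
    have hloc := (isProjQMapOn_iff _).mp (isProjQMapOn_of_isProjQMap hh) i.π
    rw [reassoc_of% (domι_ι u (p' := p') (chart' := chart') i.π)] at hloc
    have hbo := domMap_preimage_basicOpen (uAt u i.π) i.hf i.hd
    rw [e, e']
    ext x
    constructor
    · rintro ⟨z, hz, rfl⟩
      let z' : (RelCone.domOpen (uAt u i.π) : (Proj _).Opens).toScheme :=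
        ⟨z, basicOpen_le_domOpen _ i.hf i.hd hz⟩
      refine ⟨⟨domMap (uAt u i.π) z', hbo.ge hz, ?_⟩, π_emb_mem i.π.U' i.π.hU' z⟩
      exact (congr($hloc z')).symm
    · rintro ⟨⟨w, hw, hwx⟩, hxU⟩
      obtain ⟨z, rfl⟩ := mem_range_emb (p := p') (chart := chart') i.π.U' i.π.hU' x hxU
      let z' : (RelCone.domOpen (uAt u i.π) : (Proj _).Opens).toScheme :=
        ⟨z, (domOpen_eq_top_of_irrelevant_le _ (isGradedBC_uAt hu i.π).irrelevant_le).ge
          (Set.mem_univ z)⟩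
      have hzw : domMap (uAt u i.π) z' = w :=
        (RelProj.emb p chart i.π.U i.π.hU).isOpenEmbedding.injective
          ((congr($hloc z')).symm.trans hwx.symm)
      exact ⟨z, hbo.le (show domMap (uAt u i.π) z' ∈ _ from hzw ▸ hw), rfl⟩
  -- the charts of the fibre product
  have hj : ∀ i : AIdx g 𝒮, IsOpenImmersion (j i) ∧
      Set.range (j i) = pullback.fst p g ⁻¹' Set.range (chartP i) ∩
        pullback.snd p g ⁻¹' Set.range i.π.hU'.fromSpec := by
    intro i
    have sq := (isPullback_SpecMap_of_isPushout _ _ _ _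
      ((isGradedBC_uAt hu i.π).away i.hf)).flip
    have e₁ : Spec.map (CommRingCat.ofHom ((HomogeneousLocalization.fromZeroRingHom
        (𝒮.deg i.π.U i.π.hU) (Submonoid.powers i.f)).comp (𝒮.strZero i.π.U i.π.hU).hom)) ≫
          i.π.hU.fromSpec = chartP i ≫ p := by
      simp only [chartP, Category.assoc, emb_π hP]
      rw [Proj.awayι_toSpecZero_assoc, ← Spec.map_comp_assoc]
      rfl
    have e₂ : Spec.map (CommRingCat.ofHom (g.appLE i.π.U i.π.U' i.π.le).hom) ≫ i.π.hU.fromSpec =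
        i.π.hU'.fromSpec ≫ g :=
      IsAffineOpen.SpecMap_appLE_fromSpec g i.π.hU i.π.hU' i.π.le
    have ej : j i = sq.isoPullback.hom ≫
        pullback.map _ _ p g (chartP i) i.π.hU'.fromSpec i.π.hU.fromSpec e₁ e₂ := by
      apply pullback.hom_ext
      · simp only [j, Category.assoc, hc1, pullback.lift_fst, IsPullback.isoPullback_hom_fst_assoc]
        exact hh.2 i.π.U i.π.hU i.π.U' i.π.hU' i.π.le i.d i.hd i.f i.hf
      · simp only [j, Category.assoc, hc2, pullback.lift_snd, IsPullback.isoPullback_hom_snd_assoc]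
        simp only [chartP', RelProj.awayEmb, Category.assoc, emb_π hP']
        rw [Proj.awayι_toSpecZero_assoc, ← Spec.map_comp_assoc]
        rfl
    refine ⟨by rw [ej]; infer_instance, ?_⟩
    rw [ej, Scheme.Hom.comp_base, TopCat.coe_comp, Set.range_comp,
      Set.range_eq_univ.mpr (ConcreteCategory.bijective_of_isIso sq.isoPullback.hom.base).2, Set.image_univ,
      Scheme.Pullback.range_map]
    rfl
  have := fun i ↦ (hj i).1
  let 𝒱 : (pullback p g).OpenCover := Scheme.Cover.mkOfCovers (AIdx g 𝒮) _ j (fun t ↦ by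
    obtain ⟨π, hπ⟩ := exists_pair g (pullback.snd p g t)
    have hU : p (pullback.fst p g t) ∈ π.U := by
      rw [← Scheme.Hom.comp_apply, pullback.condition]
      exact π.le hπ
    obtain ⟨z, hz⟩ := mem_range_emb (p := p) (chart := chart) π.U π.hU _ hU
    obtain ⟨d, f, hd, hf, hzf, -⟩ := Proj16.exists_basicOpen_subset
      (U := (Set.univ : Set (Proj (𝒮.deg π.U π.hU)))) isOpen_univ (Set.mem_univ z)
    let i : AIdx g 𝒮 := ⟨π, d, hd, f, hf⟩
    have : t ∈ Set.range (j i) := by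
      rw [(hj i).2]
      refine ⟨?_, π.hU'.range_fromSpec.ge hπ⟩
      obtain ⟨w, rfl⟩ := (Proj.opensRange_awayι _ f hf hd).ge hzf
      exact ⟨w, hz⟩
    obtain ⟨w, hw⟩ := this
    exact ⟨i, w, hw⟩) (fun i ↦ (hj i).1)
  refine IsZariskiLocalAtTarget.of_openCover (P := MorphismProperty.isomorphisms Scheme.{u}) 𝒱
    fun i ↦ ?_
  have sq : IsPullback (𝟙 _) (chartP' i) (j i) c := by
    refine IsOpenImmersion.isPullback _ _ _ _ (Category.id_comp _).symm ?_
    rw [hpre i]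
    ext x
    show c x ∈ Set.range (j i) ↔ _
    rw [(hj i).2, i.π.hU'.range_fromSpec]
    rw [Set.mem_inter_iff, Set.mem_preimage, Set.mem_preimage, ← Scheme.Hom.comp_apply,
      ← Scheme.Hom.comp_apply, hc1, hc2]
    rfl
  change IsIso (pullback.snd c (j i))
  rw [← sq.flip.isoPullback_inv_snd]
  infer_instance

end Groth.Agent.EgaQ
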