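import Groth.Agent.AModX.Res
import Mathlib.Algebra.Category.ModuleCat.Sheaf.Limits
import Mathlib.CategoryTheory.Limits.Shapes.ConcreteCategory

/-!
# Gluing modules from compatible local models
-/

set_option autoImplicit false
set_option backward.isDefEq.respectTransparency false

universe u

open CategoryTheory CategoryTheory.Limits AlgebraicGeometry TopologicalSpace Opposite

noncomputable section

namespace Groth.Agent.EgaQ

variable {X : Scheme.{u}}

/-- The sections over an open, as a functor to abelian groups. -/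
def secFunctor (X : Scheme.{u}) (W : X.Opens) : X.Modules ⥤ AddCommGrpCat.{u} :=
  SheafOfModules.evaluation _ (op W) ⋙ forget₂ (ModuleCat _) AddCommGrpCat.{u}

instance (W : X.Opens) (J : Type u) : PreservesLimitsOfShape (Discrete J) (secFunctor X W) :=
  inferInstanceAs (PreservesLimitsOfShape (Discrete J) (SheafOfModules.evaluation _ (op W) ⋙ forget₂ _ _))

instance (W : X.Opens) : PreservesLimitsOfShape WalkingParallelPair (secFunctor X W) :=
  inferInstanceAs (PreservesLimitsOfShape WalkingParallelPair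
    (SheafOfModules.evaluation _ (op W) ⋙ forget₂ _ _))

section sections

variable {J : Type u} (N : J → X.Modules) (W : X.Opens)

lemma pi_sec_ext {x y : Γ(∏ᶜ N, W)} (h : ∀ j, (Pi.π N j).app W x = (Pi.π N j).app W y) : x = y :=
  Limits.Concrete.Pi.map_ext N (secFunctor X W) x y h

lemma exists_pi_sec (t : ∀ j, Γ(N j, W)) : ∃ x : Γ(∏ᶜ N, W), ∀ j, (Pi.π N j).app W x = t j := by
  obtain ⟨x, hx⟩ : ∃ x : ToType (∏ᶜ fun j => (secFunctor X W).obj (N j)),
      ∀ j, Pi.π (fun j => (secFunctor X W).obj (N j)) j x = t j :=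
    ⟨_, Concrete.productEquiv_symm_apply_π _ t⟩
  refine ⟨inv (piComparison (secFunctor X W) N) x, fun j => ?_⟩
  refine Eq.trans ?_ (hx j)
  conv_rhs => rw [← IsIso.inv_hom_id_apply (piComparison (secFunctor X W) N) x]
  rw [← ConcreteCategory.comp_apply (piComparison (secFunctor X W) N), piComparison_comp_π]
  rfl

variable {A B : X.Modules} (f g : A ⟶ B)

lemma equalizer_sec_injective : Function.Injective ((equalizer.ι f g).app W) :=
  (AddCommGrpCat.mono_iff_injective _).mp
    (mono_of_isLimit_fork (isLimitForkMapOfIsLimit (secFunctor X W) (equalizer.condition f g) (equalizerIsEqualizer f g)))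

lemma exists_equalizer_sec (a : Γ(A, W)) (h : f.app W a = g.app W a) :
    ∃ x : Γ(equalizer f g, W), (equalizer.ι f g).app W x = a := by
  let hl := isLimitForkMapOfIsLimit (secFunctor X W) (equalizer.condition f g) (equalizerIsEqualizer f g)
  let k : AddCommGrpCat.of (ULift.{u} ℤ) ⟶ (secFunctor X W).obj A :=
    AddCommGrpCat.ofHom ((zmultiplesHom _ (show (secFunctor X W).obj A from a)).comp AddEquiv.ulift.toAddMonoidHom)
  have hk : k ≫ (secFunctor X W).map f = k ≫ (secFunctor X W).map g := by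
    refine AddCommGrpCat.hom_ext (AddMonoidHom.ext fun n => ?_)
    change (secFunctor X W).map f (n.down • (show (secFunctor X W).obj A from a)) =
      (secFunctor X W).map g (n.down • (show (secFunctor X W).obj A from a))
    rw [map_zsmul, map_zsmul]
    exact congrArg _ h
  obtain ⟨l, hl'⟩ := Fork.IsLimit.lift' hl k hk
  exact ⟨l ⟨1⟩, (ConcreteCategory.congr_hom hl' ⟨1⟩).trans (one_zsmul _)⟩

end sections

section glue

variable {I : Type u} (N : I → X.Modules) (O : I → X.Opens) (R : I → I → Prop)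
  (c : ∀ i j, R i j → (N i ⟶ N j))

include N c in
/-- Local models with bijective transitive transition maps glue. -/
theorem exists_glue
    (hO : ∀ i j, R i j → O j ≤ O i)
    (hsupp : ∀ (i : I) (W : X.Opens), Function.Bijective (AModX.res (N i) (inf_le_left : W ⊓ O i ≤ W)))
    (hbij : ∀ i j (h : R i j) (W : X.Opens), W ≤ O j → Function.Bijective ((c i j h).app W))
    (hbase : ∀ i j (x : X), x ∈ O i → x ∈ O j → ∃ k, R i k ∧ R j k ∧ x ∈ O k)
    (htrans : ∀ i j k (h : R i j) (h' : R j k), ∃ h'' : R i k, c i j h ≫ c j k h' = c i k h'') :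
    ∃ (F : X.Modules) (lam : ∀ i, F ⟶ N i),
      (∀ i j (h : R i j), lam i ≫ c i j h = lam j) ∧
        ∀ i (W : X.Opens), W ≤ O i → Function.Bijective ((lam i).app W) := by
  let J := {p : I × I // R p.1 p.2}
  let a : ∏ᶜ N ⟶ ∏ᶜ fun p : J => N p.1.2 := Pi.lift fun p => Pi.π N p.1.1 ≫ c p.1.1 p.1.2 p.2
  let b : ∏ᶜ N ⟶ ∏ᶜ fun p : J => N p.1.2 := Pi.lift fun p => Pi.π N p.1.2
  have hab : ∀ i j (h : R i j), (equalizer.ι a b ≫ Pi.π N i) ≫ c i j h = equalizer.ι a b ≫ Pi.π N j := by
    intro i j h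
    have := congrArg (· ≫ Pi.π (fun p : J => N p.1.2) ⟨(i, j), h⟩) (equalizer.condition a b)
    simpa [a, b] using this
  refine ⟨equalizer a b, fun i => equalizer.ι a b ≫ Pi.π N i, hab, fun i W hW => ?_⟩
  -- a common refinement kills everything
  have hkill : ∀ {k j} (s : Γ(N j, W)) (hjk : R j k) (p : X), p ∈ W → p ∈ O j → p ∈ O k →
      (c j k hjk).app W s = 0 → ∃ (W' : X.Opens) (h : W' ≤ W), p ∈ W' ∧ AModX.res (N j) h s = 0 := by
    intro k j s hjk p hpW hpj hpk h0
    refine ⟨W ⊓ O k, inf_le_left, ⟨hpW, hpk⟩, (hbij j k hjk _ inf_le_right).1 ?_⟩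
    rw [AModX.app_res, h0, map_zero, map_zero]
  constructor
  · rw [injective_iff_map_eq_zero]
    intro s hs
    refine equalizer_sec_injective W a b (pi_sec_ext N W fun j => ?_)
    rw [map_zero, map_zero]
    refine (hsupp j W).1 ?_
    rw [map_zero]
    refine AModX.eq_of_locally _ _ fun p hp => ?_
    obtain ⟨k, hik, hjk, hpk⟩ := hbase i j p (hW hp.1) hp.2
    obtain ⟨W', hW', hpW', h0⟩ := hkill ((Pi.π N j).app W ((equalizer.ι a b).app W s)) hjk p hp.1 hp.2 hpk (by
      have e1 := congr(($(hab j k hjk)).app W s)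
      have e2 := congr(($(hab i k hik)).app W s)
      refine e1.trans (e2.symm.trans ?_)
      exact (congrArg ((c i k hik).app W) hs).trans (map_zero _))
    refine ⟨W' ⊓ O j, le_inf (inf_le_left.trans hW') inf_le_right, ⟨hpW', hp.2⟩, ?_⟩
    rw [map_zero, AModX.res_res, ← AModX.res_res hW' inf_le_left, h0, map_zero]
  · intro t
    let d : ∀ (l k : I) (h : R l k), Γ(N l, W) → Γ(N k, W) := fun l k h => (c l k h).app W
    have hloc : ∀ j, ∃ sj : Γ(N j, W), ∀ k (hik : R i k) (hjk : R j k),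
        AModX.res (N k) (inf_le_left : W ⊓ O k ≤ W) (d i k hik t) =
          AModX.res (N k) (inf_le_left : W ⊓ O k ≤ W) (d j k hjk sj) := by
      intro j
      let K := {k : I // R i k ∧ R j k}
      have hex : ∀ k : K, ∃ v : Γ(N j, W ⊓ O k.1), (c j k.1 k.2.2).app _ v =
          AModX.res (N k.1) inf_le_left (d i k.1 k.2.1 t) := fun k => (hbij j k.1 k.2.2 _ inf_le_right).2 _
      choose v hv using hex
      obtain ⟨sj', hsj', -⟩ := AModX.existsUnique_glue (M := N j) (V := W ⊓ O j) (fun k : K => W ⊓ O k.1)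
        (fun k => inf_le_inf_left W (hO _ _ k.2.2)) (fun p hp => by
          obtain ⟨k, h1, h2, h3⟩ := hbase i j p (hW hp.1) hp.2
          exact ⟨⟨k, h1, h2⟩, hp.1, h3⟩) v (fun k₁ k₂ => by
          refine AModX.eq_of_locally _ _ fun p hp => ?_
          obtain ⟨k, h1, h2, h3⟩ := hbase k₁.1 k₂.1 p hp.1.2 hp.2.2
          obtain ⟨hjk, e1⟩ := htrans j k₁.1 k k₁.2.2 h1
          obtain ⟨hik, e3⟩ := htrans i k₁.1 k k₁.2.1 h1
          obtain ⟨_, e2⟩ := htrans j k₂.1 k k₂.2.2 h2
          obtain ⟨_, e4⟩ := htrans i k₂.1 k k₂.2.1 h2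
          refine ⟨_ ⊓ O k, inf_le_left, ⟨hp, h3⟩, (hbij j k hjk _ inf_le_right).1 ?_⟩
          conv_lhs => rw [← e1]
          conv_rhs => rw [← e2]
          simp only [Scheme.Modules.Hom.comp_app, ConcreteCategory.comp_apply, AModX.res_res, AModX.app_res, hv]
          simp only [d, ← ConcreteCategory.comp_apply, ← Scheme.Modules.Hom.comp_app, e3, e4]
          )
      obtain ⟨sj, hsj⟩ := (hsupp j W).2 sj'
      refine ⟨sj, fun k hik hjk => ?_⟩
      have := hv ⟨k, hik, hjk⟩
      rw [← hsj' ⟨k, hik, hjk⟩, AModX.app_res, ← hsj, AModX.app_res, AModX.res_res] at this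
      exact this.symm
    choose s hs using hloc
    obtain ⟨x, hx⟩ := exists_pi_sec N W s
    have hii : ∀ p ∈ W, ∃ k, R i k ∧ p ∈ O k := fun p hp => by
      obtain ⟨k, hk, -, hpk⟩ := hbase i i p (hW hp) (hW hp); exact ⟨k, hk, hpk⟩
    have hsi : s i = t := by
      refine AModX.eq_of_locally _ _ fun p hp => ?_
      obtain ⟨k, hik, hpk⟩ := hii p hp
      refine ⟨W ⊓ O k, inf_le_left, ⟨hp, hpk⟩, (hbij i k hik _ inf_le_right).1 ?_⟩
      rw [AModX.app_res, AModX.app_res]
      exact (hs i k hik hik).symm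
    have hxab : a.app W x = b.app W x := by
      refine pi_sec_ext _ W fun q => ?_
      obtain ⟨⟨j, l⟩, hjl⟩ := q
      have ea : a ≫ Pi.π (fun p : J => N p.1.2) ⟨(j, l), hjl⟩ = Pi.π N j ≫ c j l hjl := Pi.lift_π _ _
      have eb : b ≫ Pi.π (fun p : J => N p.1.2) ⟨(j, l), hjl⟩ = Pi.π N l := Pi.lift_π _ _
      refine (congr(($ea).app W x)).trans (Eq.trans ?_ (congr(($eb).app W x)).symm)
      refine (congrArg ((c j l hjl).app W) (hx j)).trans (Eq.trans ?_ (hx l).symm)
      refine (hsupp l W).1 (AModX.eq_of_locally _ _ fun p hp => ?_)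
      obtain ⟨k, hik, hlk, hpk⟩ := hbase i l p (hW hp.1) hp.2
      obtain ⟨hjk, e⟩ := htrans j l k hjl hlk
      refine ⟨W ⊓ O k, le_inf inf_le_left (inf_le_right.trans (hO _ _ hlk)), ⟨hp.1, hpk⟩, ?_⟩
      rw [AModX.res_res, AModX.res_res]
      refine (hbij l k hlk _ inf_le_right).1 ?_
      rw [AModX.app_res, AModX.app_res]
      refine Eq.trans ?_ (hs l k hik hlk)
      rw [hs j k hik hjk]
      exact congrArg _ (congr(($e).app W (s j)))
    obtain ⟨y, hy⟩ := exists_equalizer_sec W a b x hxab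
    exact ⟨y, ((congrArg ((Pi.π N i).app W) hy).trans (hx i)).trans hsi⟩

end glue

end Groth.Agent.EgaQ
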