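import Groth.Agent.EgaQ.AffModel
import Groth.Agent.EgaQ.GlueMod
import Groth.Agent.QCoh.Qcqs
import Groth.Agent.QCoh.Local
import Groth.Agent.AModX.Exact
import Groth.Agent.RelTildeX.Chart

/-!
# The module on `X` attached to a quasi-coherent module over the direct-image algebra of an affine morphism
-/

noncomputable section

universe u

open CategoryTheory CategoryTheory.Limits AlgebraicGeometry TopologicalSpace Opposite

set_option backward.isDefEq.respectTransparency false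
set_option linter.all false
set_option maxHeartbeats 800000

namespace Groth.Agent.EgaQ

open AModX (res resR)

section basis

variable {X : Scheme.{u}}

/-- A module map bijective on arbitrarily small opens inside `V` is bijective on `V`. -/
theorem bijective_of_basis {G H : X.Modules} (φ : G ⟶ H) {V : X.Opens}
    (hb : ∀ (W : X.Opens), W ≤ V → ∀ x ∈ W, ∃ W' : X.Opens, x ∈ W' ∧ W' ≤ W ∧ Function.Bijective (φ.app W')) :
    Function.Bijective (φ.app V) := by
  have hinj : ∀ W : X.Opens, W ≤ V → Function.Injective (φ.app W) := fun W hW s t e => by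
    refine AModX.eq_of_locally s t fun x hx => ?_
    obtain ⟨W', hxW', hW', hbij⟩ := hb W hW x hx
    exact ⟨W', hW', hxW', hbij.1 (by rw [AModX.app_res, AModX.app_res, e])⟩
  refine ⟨hinj V le_rfl, fun t => ?_⟩
  choose W hxW hWV hbij using fun x : V => hb V le_rfl x.1 x.2
  choose u hu using fun x : V => (hbij x).2 (res H (hWV x) t)
  obtain ⟨s, hs, -⟩ := AModX.existsUnique_glue (M := G) W hWV (fun x hx => ⟨⟨x, hx⟩, hxW _⟩) u fun a b => by
    refine hinj _ (inf_le_left.trans (hWV a)) ?_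
    rw [AModX.app_res, AModX.app_res, hu, hu, AModX.res_res, AModX.res_res]
  refine ⟨s, AModX.eq_of_locally _ _ fun x hx => ⟨W ⟨x, hx⟩, hWV _, hxW _, ?_⟩⟩
  rw [← AModX.app_res, hs, hu]

end basis

section spec

variable {R : CommRingCat.{u}} {G H : (Spec R).Modules}

/-- A map of quasi-coherent modules on an affine scheme which is a localization at `r` on global sections is
bijective inside `D(r)`. -/
theorem bijective_app_spec (hG : Coh.IsQCoh G) (hH : Coh.IsQCoh H) (φ : G ⟶ H) (r : Γ(Spec R, ⊤))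
    (hinj : ∀ t : Γ(G, ⊤), φ.app ⊤ t = 0 → ∃ L : ℕ, r ^ L • t = 0)
    (hsurj : ∀ h : Γ(H, ⊤), ∃ (L : ℕ) (t : Γ(G, ⊤)), φ.app ⊤ t = r ^ L • h)
    {V : (Spec R).Opens} (hV : V ≤ (Spec R).basicOpen r) : Function.Bijective (φ.app V) := by
  refine bijective_of_basis φ fun W hW x hx => ?_
  obtain ⟨_, ⟨_, ⟨a, rfl⟩, rfl⟩, hxa, haW⟩ := (isBasis_basicOpen (Spec R)).exists_subset_of_mem_open
    (show x ∈ (W : Set (Spec R)) from hx) W.isOpen
  refine ⟨(Spec R).basicOpen a, hxa, haW, ?_⟩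
  have hT := isAffineOpen_top (Spec R)
  have hu : IsUnit (resR ((Spec R).basicOpen_le a) a) := AModX.isUnit_resR _ _ le_rfl
  have hur : IsUnit (resR ((Spec R).basicOpen_le a) r) := AModX.isUnit_resR _ _ (haW.trans (hW.trans hV))
  constructor
  · rw [injective_iff_map_eq_zero]
    intro s hs
    obtain ⟨n, t, ht⟩ := QCoh.exists_pow_smul_eq_map hG hT a s
    change res G _ t = resR _ a ^ n • s at ht
    obtain ⟨m, hm⟩ := QCoh.exists_pow_smul_eq_zero hH hT a (φ.app ⊤ t) (by
      show res H _ (φ.app ⊤ t) = 0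
      rw [← AModX.app_res, ht, Scheme.Modules.Hom.app_smul, hs, smul_zero])
    obtain ⟨L, hL⟩ := hinj (a ^ m • t) (by rw [Scheme.Modules.Hom.app_smul, hm])
    have h0 : res G ((Spec R).basicOpen_le a) t = 0 := by
      have := congrArg (res G ((Spec R).basicOpen_le a)) hL
      rw [AModX.res_smul, AModX.res_smul, map_zero, map_pow, map_pow, smul_smul] at this
      exact ((hur.pow L).mul (hu.pow m)).smul_eq_zero.mp this
    rw [ht] at h0
    exact (hu.pow n).smul_eq_zero.mp h0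
  · intro h
    obtain ⟨n, h', hh'⟩ := QCoh.exists_pow_smul_eq_map hH hT a h
    change res H _ h' = resR _ a ^ n • h at hh'
    obtain ⟨L, t, ht⟩ := hsurj h'
    refine ⟨((((hur.pow L).mul (hu.pow n)).unit⁻¹ : Γ(Spec R, (Spec R).basicOpen a)ˣ) :
      Γ(Spec R, (Spec R).basicOpen a)) • res G ((Spec R).basicOpen_le a) t, ?_⟩
    rw [Scheme.Modules.Hom.app_smul, AModX.app_res, ht, AModX.res_smul, hh', map_pow,
      smul_smul (resR _ r ^ L), smul_smul, IsUnit.val_inv_mul, one_smul]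

end spec

variable {X S : Scheme.{u}} {f : X ⟶ S} [IsAffineHom f] (M : AMod (RelSpec.QCAlg.directImage f))

/-- The basic-open relation. -/
def BasicIn (U V : S.affineOpens) : Prop := ∃ r : Γ(S, U.1), S.basicOpen r = V.1

lemma BasicIn.le {U V : S.affineOpens} (h : BasicIn U V) : V.1 ≤ U.1 := by
  obtain ⟨r, hr⟩ := h
  exact hr ▸ S.basicOpen_le r

lemma affModel_supp (U : S.affineOpens) (W : X.Opens) :
    Function.Bijective (res (affModel M U) (inf_le_left : W ⊓ f ⁻¹ᵁ U.1 ≤ W)) := by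
  have e : (U.2.preimage f).fromSpec ⁻¹ᵁ (W ⊓ f ⁻¹ᵁ U.1) = (U.2.preimage f).fromSpec ⁻¹ᵁ W := by
    rw [Scheme.Hom.preimage_inf, (U.2.preimage f).fromSpec_preimage_self, inf_top_eq]
  have key : ∀ {O O' : (Spec (preRing f U.1)).Opens} (e : O' = O) (i : O' ⟶ O),
      Function.Bijective ((tilde (preMod M U.1)).presheaf.map i.op) := by
    rintro O O' rfl i
    rw [Subsingleton.elim i (𝟙 _)]
    exact ConcreteCategory.bijective_of_isIso _
  exact key e _

/-- Maps out of a model are determined by the sections from `M(U)`. -/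
lemma affModel_hom_ext {U : S.affineOpens} {Z : X.Modules}
    (hZ : ∀ W : X.Opens, Function.Injective (res Z (inf_le_left : W ⊓ f ⁻¹ᵁ U.1 ≤ W)))
    {φ φ' : affModel M U ⟶ Z}
    (h : ∀ m, φ.app (f ⁻¹ᵁ U.1) (affSec M U _ m) = φ'.app (f ⁻¹ᵁ U.1) (affSec M U _ m)) : φ = φ' := by
  refine Scheme.Modules.hom_ext _ _ fun W => ?_
  ext s
  refine hZ W (AModX.eq_of_locally _ _ fun p hp => ?_)
  have hA := U.2.preimage f
  obtain ⟨a, haW, hpa⟩ := hA.exists_basicOpen_le (V := W) ⟨p, hp.1⟩ hp.2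
  have hle : X.basicOpen a ≤ W ⊓ f ⁻¹ᵁ U.1 := le_inf haW (X.basicOpen_le a)
  refine ⟨X.basicOpen a, hle, hpa, ?_⟩
  rw [AModX.res_res, AModX.res_res, ← AModX.app_res, ← AModX.app_res]
  have e : hA.fromSpec ⁻¹ᵁ X.basicOpen a = (Spec (preRing f U.1)).basicOpen ((Scheme.ΓSpecIso _).inv a) := by
    rw [hA.fromSpec_preimage_basicOpen, ← basicOpen_eq_of_affine]
  have key : ∀ (O : (Spec (preRing f U.1)).Opens), O = (Spec (preRing f U.1)).basicOpen ((Scheme.ΓSpecIso _).inv a) →
      ∀ x : Γ(tilde (preMod M U.1), O), ∃ (n : ℕ) (m : M.val.obj (op U.1)),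
        (Spec (preRing f U.1)).presheaf.map (homOfLE (le_top : O ≤ ⊤)).op ((Scheme.ΓSpecIso _).inv a) ^ n • x =
          (tilde.toOpen (preMod M U.1) O).hom m := by
    rintro _ rfl x
    obtain ⟨n, t, ht⟩ := QCoh.exists_pow_smul_eq_map (QCoh.isQCoh_spec_iff.mpr ⟨_, ⟨Iso.refl _⟩⟩)
      (isAffineOpen_top _) _ x
    obtain ⟨m, rfl⟩ := ((ConcreteCategory.isIso_iff_bijective _).mp
      (tilde.isIso_toOpen_top (M := preMod M U.1))).2 t
    exact ⟨n, m, ht.symm.trans (congr(($(tilde.toOpen_res (preMod M U.1) ⊤ _ (homOfLE le_top))).hom m))⟩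
  obtain ⟨n, m, hm⟩ := key _ e (res (affModel M U) (hle.trans inf_le_left) s)
  have hm' : resR (X.basicOpen_le a) a ^ n • res (affModel M U) (hle.trans inf_le_left) s =
      affSec M U (X.basicOpen a) m := by
    refine Eq.trans ?_ hm
    show hA.fromSpec.app (X.basicOpen a) (resR (X.basicOpen_le a) a ^ n) •
      (show Γ(tilde (preMod M U.1), hA.fromSpec ⁻¹ᵁ X.basicOpen a) from
        res (affModel M U) (hle.trans inf_le_left) s) = _
    rw [map_pow]
    refine congrArg (fun t : Γ(Spec (preRing f U.1), hA.fromSpec ⁻¹ᵁ X.basicOpen a) =>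
      t ^ n • (show Γ(tilde (preMod M U.1), hA.fromSpec ⁻¹ᵁ X.basicOpen a) from
        res (affModel M U) (hle.trans inf_le_left) s)) ?_
    refine (congr(($(hA.fromSpec.naturality (homOfLE (X.basicOpen_le a)).op)).hom a)).trans ?_
    rw [hA.fromSpec_app_self, CommRingCat.comp_apply, CommRingCat.comp_apply,
      ← CommRingCat.comp_apply ((Spec _).presheaf.map _), ← Functor.map_comp]
    rfl
  refine (((AModX.isUnit_resR (X.basicOpen_le a) a le_rfl).pow n).smul_left_cancel).mp ?_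
  rw [← Scheme.Modules.Hom.app_smul, ← Scheme.Modules.Hom.app_smul, hm',
    ← res_affSec M U (X.basicOpen_le a) m, AModX.app_res, AModX.app_res, h]

lemma affTrans_bijective (hM : Coh.IsQCoh ((AMod.toOS (RelSpec.QCAlg.directImage f)).obj M))
    (U V : S.affineOpens) (h : BasicIn U V) (W : X.Opens) (hW : W ≤ f ⁻¹ᵁ V.1) :
    Function.Bijective ((affTrans M U V h.le).app W) := by
  obtain ⟨U, hU⟩ := U
  obtain ⟨V, hV⟩ := V
  obtain ⟨r, rfl : S.basicOpen r = V⟩ := h
  have h1 : Function.Bijective ((tildeRes M (S.basicOpen_le r)).app ((hU.preimage f).fromSpec ⁻¹ᵁ W)) := by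
    refine bijective_app_spec (QCoh.isQCoh_spec_iff.mpr ⟨_, ⟨Iso.refl _⟩⟩)
      (QCoh.isQCoh_pushforward _ (QCoh.isQCoh_spec_iff.mpr ⟨_, ⟨Iso.refl _⟩⟩)) _
      ((Scheme.ΓSpecIso _).inv (f.app U r)) (fun t ht => ?_) (fun t => ?_) ?_
    · obtain ⟨m, rfl⟩ := ((ConcreteCategory.isIso_iff_bijective _).mp
        (tilde.isIso_toOpen_top (M := preMod M U))).2 t
      have h0 := ((ConcreteCategory.isIso_iff_bijective _).mp
        (tilde.isIso_toOpen_top (M := preMod M (S.basicOpen r)))).1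
          (((tildeRes_top M (S.basicOpen_le r) m).symm.trans ht).trans (map_zero _).symm)
      obtain ⟨L, hL⟩ := QCoh.exists_pow_smul_eq_zero hM hU r
        (show Γ((AMod.toOS (RelSpec.QCAlg.directImage f)).obj M, U) from m) h0
      refine ⟨L, ?_⟩
      rw [← map_pow, ← map_pow]
      refine ((congrArg (fun t : Γ(Spec (preRing f U), ⊤) => t • (show Γ(tilde (preMod M U), ⊤) from
        (tilde.toOpen (preMod M U) ⊤).hom m)) ?_).trans
          (Scheme.Modules.smul_Spec_def (f.app U (r ^ L)) _).symm).trans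
        (((tilde.toOpen (preMod M U) ⊤).hom.map_smul (f.app U (r ^ L)) m).symm.trans ?_)
      · exact (congr(($((Spec (preRing f U)).presheaf.map_id (op ⊤))).hom _)).symm
      · exact (congrArg _ hL).trans (map_zero _)
    · obtain ⟨m', rfl⟩ := ((ConcreteCategory.isIso_iff_bijective _).mp
        (tilde.isIso_toOpen_top (M := preMod M (S.basicOpen r)))).2 t
      obtain ⟨L, m, hm⟩ := QCoh.exists_pow_smul_eq_map hM hU r
        (show Γ((AMod.toOS (RelSpec.QCAlg.directImage f)).obj M, S.basicOpen r) from m')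
      refine ⟨L, (tilde.toOpen (preMod M U) ⊤).hom m, ?_⟩
      refine (tildeRes_top M (S.basicOpen_le r) m).trans ?_
      let ρ := preRes f (S.basicOpen_le r)
      refine ((congrArg _ hm).trans ((tilde.toOpen (preMod M (S.basicOpen r)) ⊤).hom.map_smul
        (f.app (S.basicOpen r) (resR (S.basicOpen_le r) r ^ L)) m')).trans ?_
      refine (Scheme.Modules.smul_Spec_def _ _).trans ?_
      rw [← map_pow, ← map_pow, ← map_pow]
      refine congrArg (fun t : Γ(Spec (preRing f (S.basicOpen r)), ⊤) =>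
        t • (show Γ(tilde (preMod M (S.basicOpen r)), ⊤) from
          (tilde.toOpen (preMod M (S.basicOpen r)) ⊤).hom m'))
        (?_ : _ = (Spec.map ρ).app ⊤ ((Scheme.ΓSpecIso _).inv (f.app U (r ^ L))))
      refine ((congr(($((Spec (preRing f (S.basicOpen r))).presheaf.map_id (op ⊤))).hom _)).trans ?_)
      refine Eq.trans ?_ (QCoh.spec_appTop_scalar ρ _).symm
      exact congrArg (fun z => (Scheme.ΓSpecIso (preRing f (S.basicOpen r))).inv z)
        (congr(($(f.naturality (homOfLE (S.basicOpen_le r)).op)).hom (r ^ L)))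
    · refine ((hU.preimage f).fromSpec.preimage_mono hW).trans (le_of_eq ?_)
      rw [Scheme.preimage_basicOpen, (hU.preimage f).fromSpec_preimage_basicOpen, ← basicOpen_eq_of_affine]
  have hb : ∀ {A B : X.Modules} (φ : A ⟶ B) [IsIso φ], Function.Bijective (φ.app W) := fun φ _ => by
    have := Scheme.Modules.Hom.isIso_iff_isIso_app.mp (inferInstance : IsIso φ) W
    exact ConcreteCategory.bijective_of_isIso _
  simp only [affTrans, Scheme.Modules.Hom.comp_app, AddCommGrpCat.coe_comp]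
  exact ((hb ((Scheme.Modules.pushforwardCongr _).hom.app _)).comp
    (hb ((Scheme.Modules.pushforwardComp _ _).hom.app _))).comp h1

theorem exists_isQCoh_dirImg_iso (hM : Coh.IsQCoh ((AMod.toOS (RelSpec.QCAlg.directImage f)).obj M)) :
    ∃ F : X.Modules, Coh.IsQCoh F ∧ Nonempty ((AMod.dirImg f).obj F ≅ M) := by
  have hres : ∀ {U V E : S.Opens} (h : V ≤ U) (h' : E ≤ V) (m : M.val.obj (op U)),
      (M.val.map (homOfLE h').op).hom ((M.val.map (homOfLE h).op).hom m) =
        (M.val.map (homOfLE (h'.trans h)).op).hom m := fun h h' m =>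
    congr(($(M.val.map_comp (homOfLE h).op (homOfLE h').op)).hom m).symm
  have hsupp : ∀ U W, Function.Injective (res (affModel M U) (inf_le_left : W ⊓ f ⁻¹ᵁ U.1 ≤ W)) :=
    fun U W => (affModel_supp M U W).1
  obtain ⟨F, lam, hcomp, hbij⟩ : ∃ (F : X.Modules) (lam : ∀ U : S.affineOpens, F ⟶ affModel M U),
      (∀ U V (h : BasicIn U V), lam U ≫ affTrans M U V h.le = lam V) ∧
        ∀ (U : S.affineOpens) (W : X.Opens), W ≤ f ⁻¹ᵁ U.1 → Function.Bijective ((lam U).app W) := by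
    refine exists_glue (affModel M) (fun U => f ⁻¹ᵁ U.1) BasicIn (fun U V h => affTrans M U V h.le)
      (fun U V h => f.preimage_mono h.le) (affModel_supp M) (affTrans_bijective M hM) (fun U V x hU hV => ?_)
      (fun U V E h h' => ⟨?_, ?_⟩)
    · obtain ⟨r, r', e, hx⟩ := exists_basicOpen_le_affine_inter U.2 V.2 (f x) ⟨hU, hV⟩
      exact ⟨⟨_, U.2.basicOpen r⟩, ⟨r, rfl⟩, ⟨r', e.symm⟩, hx⟩
    · obtain ⟨U, hU⟩ := U
      obtain ⟨V, hV⟩ := V
      obtain ⟨r, rfl : S.basicOpen r = V⟩ := h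
      obtain ⟨r', hr'⟩ := h'
      obtain ⟨g, hg⟩ := hU.basicOpen_basicOpen_is_basicOpen r r'
      exact ⟨g, hg.trans hr'⟩
    · refine affModel_hom_ext M (fun W => ?_) fun m => ?_
      · intro a b hab
        refine hsupp E W ?_
        have hle : W ⊓ f ⁻¹ᵁ E.1 ≤ W ⊓ f ⁻¹ᵁ U.1 := inf_le_inf_left W (f.preimage_mono (h'.le.trans h.le))
        have := congrArg (res (affModel M E) hle) hab
        rwa [AModX.res_res, AModX.res_res] at this
      · rw [Scheme.Modules.Hom.comp_app, ConcreteCategory.comp_apply, affTrans_affSec, affTrans_affSec,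
          affTrans_affSec, hres]
  have hFq : Coh.IsQCoh F := by
    refine QCoh.isQCoh_of_isOpenCover (fun U : S.affineOpens => f ⁻¹ᵁ U.1)
      (top_le_iff.1 fun x _ => by
        obtain ⟨_, ⟨U, hU, rfl⟩, hxU, -⟩ := S.isBasis_affineOpens.exists_subset_of_mem_open
          (Set.mem_univ (f x)) isOpen_univ
        exact Opens.mem_iSup.2 ⟨⟨U, hU⟩, hxU⟩) fun U => ?_
    have hA := U.2.preimage f
    refine (QCoh.isQCoh_restrict_iff_of_iso (M := F.restrict (f ⁻¹ᵁ U.1).ι) hA.isoSpec.inv).1 ?_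
    refine (QCoh.isQCoh_iff_iso ((Scheme.Modules.restrictFunctorComp hA.isoSpec.inv (f ⁻¹ᵁ U.1).ι).app _)).1 ?_
    show Coh.IsQCoh (F.restrict hA.fromSpec)
    refine (QCoh.isQCoh_iff_iso (RelTildeX.chartIso hA.fromSpec (lam U) fun W hW => hbij U W ?_)).2
      (QCoh.isQCoh_spec_iff.mpr ⟨preMod M U.1, ⟨Iso.refl _⟩⟩)
    exact hW.trans hA.opensRange_fromSpec.le
  refine ⟨F, hFq, ?_⟩
  have hP : ∀ (V : S.Opens) (s : Γ(F, f ⁻¹ᵁ V)), ∃! m : M.val.obj (op V), ∀ (U : S.affineOpens) (h : U.1 ≤ V),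
      (lam U).app (f ⁻¹ᵁ U.1) (res F (f.preimage_mono h) s) =
        affSec M U _ ((M.val.map (homOfLE h).op).hom m) := by
    intro V s
    have hmu : ∀ U : {U : S.affineOpens // U.1 ≤ V}, ∃ mU : M.val.obj (op U.1.1),
        affSec M U.1 _ mU = (lam U.1).app (f ⁻¹ᵁ U.1.1) (res F (f.preimage_mono U.2) s) :=
      fun U => (affSec_bijective M U.1 le_rfl).2 _
    choose mU hmU using hmu
    have hdown : ∀ (U : {U : S.affineOpens // U.1 ≤ V}) (E : S.affineOpens) (h : BasicIn U.1 E) (hE : E.1 ≤ V),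
        (M.val.map (homOfLE h.le).op).hom (mU U) = mU ⟨E, hE⟩ := fun U E h hE => by
      apply (affSec_bijective M E le_rfl).1
      rw [hmU ⟨E, hE⟩, ← res_affSec M E (f.preimage_mono h.le), ← affTrans_affSec M U.1 E h.le, hmU U,
        ← AModX.app_res, ← AModX.app_res, AModX.res_res, ← hcomp U.1 E h]
      rfl
    have hagree : ∀ (U U' : {U : S.affineOpens // U.1 ≤ V}),
        M.val.presheaf.map (homOfLE (inf_le_left : U.1.1 ⊓ U'.1.1 ≤ U.1.1)).op (mU U) =
          M.val.presheaf.map (homOfLE (inf_le_right : U.1.1 ⊓ U'.1.1 ≤ U'.1.1)).op (mU U') := by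
      intro U U'
      refine AModX.amod_eq_of_locally M (V := U.1.1 ⊓ U'.1.1)
        (show M.val.obj (op (U.1.1 ⊓ U'.1.1)) from M.val.presheaf.map (homOfLE inf_le_left).op (mU U))
        (show M.val.obj (op (U.1.1 ⊓ U'.1.1)) from M.val.presheaf.map (homOfLE inf_le_right).op (mU U'))
        fun p hp => ?_
      obtain ⟨r, r', e, hx⟩ := exists_basicOpen_le_affine_inter U.1.2 U'.1.2 p hp
      have hle : S.basicOpen r ≤ U.1.1 ⊓ U'.1.1 := le_inf (S.basicOpen_le r) (e ▸ S.basicOpen_le r')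
      refine ⟨S.basicOpen r, hle, hx, ?_⟩
      refine (hres (U := U.1.1) (V := U.1.1 ⊓ U'.1.1) (E := S.basicOpen r) inf_le_left hle (mU U)).trans
        (Eq.trans ?_ (hres (U := U'.1.1) (V := U.1.1 ⊓ U'.1.1) (E := S.basicOpen r) inf_le_right hle (mU U')).symm)
      exact (hdown U ⟨_, U.1.2.basicOpen r⟩ ⟨r, rfl⟩ ((S.basicOpen_le r).trans U.2)).trans
        (hdown U' ⟨_, U.1.2.basicOpen r⟩ ⟨r', e.symm⟩ ((S.basicOpen_le r).trans U.2)).symm
    obtain ⟨m, hm, huniq⟩ := TopCat.Sheaf.existsUnique_gluing' ⟨M.val.presheaf, M.isSheaf⟩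
      (fun U : {U : S.affineOpens // U.1 ≤ V} => U.1.1) V (fun U => homOfLE U.2) (fun p hp => by
        obtain ⟨_, ⟨U, hU, rfl⟩, hpU, hUV⟩ := S.isBasis_affineOpens.exists_subset_of_mem_open
          (show p ∈ (V : Set S) from hp) V.isOpen
        exact Opens.mem_iSup.mpr ⟨⟨⟨U, hU⟩, hUV⟩, hpU⟩)
      (fun U => (show ToType (M.val.presheaf.obj (op U.1.1)) from mU U)) hagree
    refine ⟨m, fun U h => ?_, fun m' hm' => huniq m' fun U => ?_⟩
    · rw [← hmU ⟨U, h⟩]
      exact congrArg _ (hm ⟨U, h⟩).symm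
    · exact (affSec_bijective M U.1 le_rfl).1 ((hm' U.1 U.2).symm.trans (hmU U).symm)
  choose ψ hψ hψu using hP
  have hψadd : ∀ V (s t : Γ(F, f ⁻¹ᵁ V)), ψ V (s + t) = ψ V s + ψ V t := fun V s t =>
    (hψu V (s + t) _ fun U h => by
      simp only [affSec] at hψ ⊢
      rw [map_add, map_add, map_add]
      refine (congrArg₂ (· + ·) (hψ V s U h) (hψ V t U h)).trans ?_
      exact (map_add (tilde.toOpen (preMod M U.1) _).hom _ _).symm).symm
  have hψnat : ∀ {V V' : S.Opens} (i : V' ≤ V) (s : Γ(F, f ⁻¹ᵁ V)),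
      ψ V' (res F (f.preimage_mono i) s) = (M.val.map (homOfLE i).op).hom (ψ V s) := fun {V V'} i s =>
    (hψu V' _ _ fun U h => by rw [AModX.res_res, hres]; exact hψ V s U (h.trans i)).symm
  have hψsmul : ∀ (V : S.Opens) (a : Γ(X, f ⁻¹ᵁ V)) (s : Γ(F, f ⁻¹ᵁ V)),
      ψ V (a • s) = (show M.val.obj (op V) from a • (show preMod M V from ψ V s)) := fun V a s =>
    (hψu V (a • s) _ fun U h => by
      rw [AModX.res_smul, Scheme.Modules.Hom.app_smul, hψ V s U h]
      refine Eq.trans ?_ (congrArg (affSec M U (f ⁻¹ᵁ U.1)) (M.val.map_smul (homOfLE h).op a _).symm)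
      refine Eq.trans ?_ (affSec_smul M U le_rfl (resR (f.preimage_mono h) a) _).symm
      rw [AModX.resR_self]).symm
  have hinj : ∀ V, Function.Injective (ψ V) := fun V s t e => by
    refine AModX.eq_of_locally s t fun p hp => ?_
    obtain ⟨_, ⟨U, hU, rfl⟩, hpU, hUV⟩ := S.isBasis_affineOpens.exists_subset_of_mem_open
      (show f p ∈ (V : Set S) from hp) V.isOpen
    refine ⟨f ⁻¹ᵁ U, f.preimage_mono hUV, hpU, (hbij ⟨U, hU⟩ _ le_rfl).1 ?_⟩
    rw [hψ V s ⟨U, hU⟩ hUV, hψ V t ⟨U, hU⟩ hUV, e]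
  have hsurj : ∀ V, Function.Surjective (ψ V) := fun V m => by
    have hs : ∀ U : {U : S.affineOpens // U.1 ≤ V}, ∃ sU : Γ(F, f ⁻¹ᵁ U.1.1),
        (lam U.1).app (f ⁻¹ᵁ U.1.1) sU = affSec M U.1 _ ((M.val.map (homOfLE U.2).op).hom m) := fun U =>
      (hbij U.1 _ le_rfl).2 _
    choose sU hsU using hs
    have hψU : ∀ U, ψ U.1.1 (sU U) = (M.val.map (homOfLE U.2).op).hom m := fun U => by
      apply (affSec_bijective M U.1 le_rfl).1
      have := hψ U.1.1 (sU U) U.1 le_rfl
      rw [AModX.res_self, hsU] at this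
      refine (congrArg (affSec M U.1 _) ?_).trans this.symm
      exact congr(($(M.val.map_id (op U.1.1))).hom (ψ U.1.1 (sU U))).symm
    obtain ⟨s, hs, -⟩ := AModX.existsUnique_glue (M := F) (V := f ⁻¹ᵁ V)
      (fun U : {U : S.affineOpens // U.1 ≤ V} => f ⁻¹ᵁ U.1.1) (fun U => f.preimage_mono U.2) (fun p hp => by
        obtain ⟨_, ⟨U, hU, rfl⟩, hpU, hUV⟩ := S.isBasis_affineOpens.exists_subset_of_mem_open
          (show f p ∈ (V : Set S) from hp) V.isOpen
        exact ⟨⟨⟨U, hU⟩, hUV⟩, hpU⟩) sU fun a b => by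
      refine hinj (a.1.1 ⊓ b.1.1) ?_
      refine (hψnat (inf_le_left : a.1.1 ⊓ b.1.1 ≤ a.1.1) (sU a)).trans
        (Eq.trans ?_ (hψnat (inf_le_right : a.1.1 ⊓ b.1.1 ≤ b.1.1) (sU b)).symm)
      rw [hψU, hψU, hres, hres]
    refine ⟨s, (hψu V s m fun U h => ?_).symm⟩
    exact (congrArg _ (hs ⟨U, h⟩)).trans (hsU ⟨U, h⟩)
  let φ : (AMod.dirImg f).obj F ⟶ M :=
    { val := PresheafOfModules.homMk
        { app := fun V => AddCommGrpCat.ofHom (AddMonoidHom.mk' (ψ V.unop) (hψadd V.unop))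
          naturality := fun V V' i => by
            ext s
            exact hψnat i.unop.le s }
        fun V a s => hψsmul V.unop a s }
  have : IsIso φ := by
    have : IsIso ((SheafOfModules.forget _).map φ) := by
      refine (isIso_iff_of_reflects_iso _ (PresheafOfModules.toPresheaf _)).mp ?_
      rw [NatTrans.isIso_iff_isIso_app]
      intro V
      rw [ConcreteCategory.isIso_iff_bijective]
      exact ⟨hinj V.unop, hsurj V.unop⟩
    exact isIso_of_reflects_iso _ (SheafOfModules.forget _)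
  exact ⟨asIso φ⟩

end Groth.Agent.EgaQ
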