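import Groth.Agent.AModX.Res
import Groth.Agent.QCoh.Pullback
import Groth.Prelude.Def_RelSpec2

/-!
# Local models of the module attached to a module over the direct-image algebra
-/

noncomputable section

universe u

open CategoryTheory CategoryTheory.Limits AlgebraicGeometry TopologicalSpace Opposite

set_option backward.isDefEq.respectTransparency false
set_option linter.all false
set_option maxHeartbeats 400000

namespace Groth.Agent.EgaQ

variable {X S : Scheme.{u}} {f : X ⟶ S} [IsAffineHom f] (M : AMod (RelSpec.QCAlg.directImage f))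

/-- The functions over the preimage. -/
abbrev preRing (f : X ⟶ S) (U : S.Opens) : CommRingCat.{u} := Γ(X, f ⁻¹ᵁ U)

/-- The sections of `M` over `U`, over the functions on the preimage. -/
abbrev preMod (U : S.Opens) : ModuleCat.{u} (preRing f U) :=
  show ModuleCat.{u} (preRing f U) from M.val.obj (op U)

/-- Restriction of functions. -/
abbrev preRes (f : X ⟶ S) {U V : S.Opens} (h : V ≤ U) : preRing f U ⟶ preRing f V :=
  X.presheaf.map ((Opens.map f.base).map (homOfLE h)).op

/-- Restriction of sections. -/
def preMap {U V : S.Opens} (h : V ≤ U) :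
    preMod M U ⟶ (ModuleCat.restrictScalars (preRes f h).hom).obj (preMod M V) :=
  ModuleCat.ofHom
    (Y := (ModuleCat.restrictScalars (preRes f h).hom).obj (preMod M V))
    { toFun := fun m => (M.val.map (homOfLE h).op).hom m
      map_add' := fun a b => map_add _ a b
      map_smul' := fun a m => M.val.map_smul (homOfLE h).op a m }

/-- The tilde comparison. -/
def tildeRes {U V : S.Opens} (h : V ≤ U) :
    tilde (preMod M U) ⟶ (Scheme.Modules.pushforward (Spec.map (preRes f h))).obj (tilde (preMod M V)) :=
  ((tilde.adjunction (R := preRing f U)).homEquiv _ _).symm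
    (preMap M h ≫ (ModuleCat.restrictScalars (preRes f h).hom).map (tilde.adjunction.unit.app (preMod M V)) ≫
      (QCoh.ΓPushIso (preRes f h)).inv.app (tilde (preMod M V)))

lemma tildeRes_top {U V : S.Opens} (h : V ≤ U) (m : preMod M U) :
    (tildeRes M h).app ⊤ ((tilde.toOpen (preMod M U) ⊤).hom m) =
      (tilde.toOpen (preMod M V) ⊤).hom ((M.val.map (homOfLE h).op).hom m) := by
  have e := ((tilde.adjunction (R := preRing f U)).homEquiv (preMod M U) _).apply_symm_apply
    (preMap M h ≫ (ModuleCat.restrictScalars (preRes f h).hom).map (tilde.adjunction.unit.app (preMod M V)) ≫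
      (QCoh.ΓPushIso (preRes f h)).inv.app (tilde (preMod M V)))
  rw [Adjunction.homEquiv_unit] at e
  exact congr(($e).hom m)

/-- The model over an affine open. -/
def affModel (U : S.affineOpens) : X.Modules :=
  (Scheme.Modules.pushforward (U.2.preimage f).fromSpec).obj (tilde (preMod M U.1))

/-- Sections of the model coming from `M(U)`. -/
def affSec (U : S.affineOpens) (W : X.Opens) (m : M.val.obj (op U.1)) : Γ(affModel M U, W) :=
  (tilde.toOpen (preMod M U.1) ((U.2.preimage f).fromSpec ⁻¹ᵁ W)).hom m

lemma res_affSec (U : S.affineOpens) {W W' : X.Opens} (i : W' ≤ W) (m : M.val.obj (op U.1)) :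
    AModX.res (affModel M U) i (affSec M U W m) = affSec M U W' m :=
  congr(($(tilde.toOpen_res (preMod M U.1) _ _
    ((Opens.map (U.2.preimage f).fromSpec.base).map (homOfLE i)))).hom m)

lemma affSec_bijective (U : S.affineOpens) {W : X.Opens} (hW : f ⁻¹ᵁ U.1 ≤ W) :
    Function.Bijective (affSec M U W) := by
  have e : (U.2.preimage f).fromSpec ⁻¹ᵁ W = ⊤ :=
    eq_top_iff.mpr ((U.2.preimage f).fromSpec_preimage_self.ge.trans ((U.2.preimage f).fromSpec.preimage_mono hW))
  have key : ∀ O : (Spec (preRing f U.1)).Opens, O = ⊤ →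
      Function.Bijective (tilde.toOpen (preMod M U.1) O).hom := by
    rintro _ rfl
    exact (ConcreteCategory.isIso_iff_bijective _).mp tilde.isIso_toOpen_top
  exact key _ e

lemma affSec_smul (U : S.affineOpens) {W : X.Opens} (hW : W ≤ f ⁻¹ᵁ U.1) (a : preRing f U.1)
    (m : M.val.obj (op U.1)) :
    affSec M U W (show M.val.obj (op U.1) from a • (show preMod M U.1 from m)) =
      AModX.resR hW a • affSec M U W m := by
  refine ((tilde.toOpen (preMod M U.1) ((U.2.preimage f).fromSpec ⁻¹ᵁ W)).hom.map_smul a m).trans ?_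
  refine (Scheme.Modules.smul_Spec_def _ _).trans ?_
  refine Eq.trans (congrArg (fun t : Γ(Spec (preRing f U.1), (U.2.preimage f).fromSpec ⁻¹ᵁ W) =>
    t • (show Γ(tilde (preMod M U.1), (U.2.preimage f).fromSpec ⁻¹ᵁ W) from affSec M U W m))
    (?_ : _ = (U.2.preimage f).fromSpec.app W (AModX.resR hW a))) rfl
  have h1 := congr(($((U.2.preimage f).fromSpec.naturality (homOfLE hW).op)).hom a)
  refine Eq.trans ?_ h1.symm
  rw [(U.2.preimage f).fromSpec_app_self, CommRingCat.comp_apply, CommRingCat.comp_apply,
    ← CommRingCat.comp_apply ((Spec _).presheaf.map _), ← Functor.map_comp]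
  rfl

/-- The transition map. -/
def affTrans (U V : S.affineOpens) (h : V.1 ≤ U.1) : affModel M U ⟶ affModel M V :=
  (Scheme.Modules.pushforward (U.2.preimage f).fromSpec).map (tildeRes M h) ≫
    (Scheme.Modules.pushforwardComp (Spec.map (preRes f h)) (U.2.preimage f).fromSpec).hom.app
        (tilde (preMod M V.1)) ≫
      (Scheme.Modules.pushforwardCongr
        (IsAffineOpen.map_fromSpec (U.2.preimage f) (V.2.preimage f) _)).hom.app (tilde (preMod M V.1))

lemma affTrans_affSec (U V : S.affineOpens) (h : V.1 ≤ U.1) (W : X.Opens) (m : M.val.obj (op U.1)) :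
    (affTrans M U V h).app W (affSec M U W m) = affSec M V W ((M.val.map (homOfLE h).op).hom m) := by
  have h1 : affSec M U W m = (tilde (preMod M U.1)).presheaf.map
      (homOfLE (le_top : (U.2.preimage f).fromSpec ⁻¹ᵁ W ≤ ⊤)).op ((tilde.toOpen (preMod M U.1) ⊤).hom m) :=
    congr(($(tilde.toOpen_res (preMod M U.1) ⊤ _ (homOfLE le_top))).hom m).symm
  have h2 : (tildeRes M h).app ((U.2.preimage f).fromSpec ⁻¹ᵁ W) (affSec M U W m) =
      ((Scheme.Modules.pushforward (Spec.map (preRes f h))).obj (tilde (preMod M V.1))).presheaf.map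
        (homOfLE (le_top : (U.2.preimage f).fromSpec ⁻¹ᵁ W ≤ ⊤)).op
        ((tilde.toOpen (preMod M V.1) ⊤).hom ((M.val.map (homOfLE h).op).hom m)) := by
    rw [h1, QCoh.map_app_comm, tildeRes_top]
  rw [affTrans, Scheme.Modules.Hom.comp_app, Scheme.Modules.Hom.comp_app,
    Scheme.Modules.pushforwardComp_hom_app_app, Scheme.Modules.pushforwardCongr_hom_app_app]
  simp only [ConcreteCategory.comp_apply]
  have key : ∀ {O O' : (Spec (preRing f V.1)).Opens} (i : O ⟶ ⊤) (j : O' ⟶ O) (x : M.val.obj (op V.1)),
      (tilde (preMod M V.1)).presheaf.map j.op ((tilde (preMod M V.1)).presheaf.map i.op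
        ((tilde.toOpen (preMod M V.1) ⊤).hom x)) = (tilde.toOpen (preMod M V.1) O').hom x := fun i j x =>
    (QCoh.map_map j i _).trans (congr(($(tilde.toOpen_res (preMod M V.1) ⊤ _ (j ≫ i))).hom x))
  exact (congrArg _ h2).trans (key _ _ _)

end Groth.Agent.EgaQ
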