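import Groth.Agent.GrModX.Comap

/-!
# `M(n)~` along a localization in degree zero
-/

noncomputable section

universe u

open CategoryTheory CategoryTheory.Limits AlgebraicGeometry TopologicalSpace DirectSum Opposite Groth.Agent.QCoh
open scoped HomogeneousIdeal

set_option backward.isDefEq.respectTransparency false

namespace Groth.Agent.EgaQ

open Groth.Agent.GrModX

variable {A σ : Type u} [CommRing A] [SetLike σ A] [AddSubgroupClass σ A] {𝒜 : ℕ → σ} [GradedRing 𝒜]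
  {B σ' : Type u} [CommRing B] [SetLike σ' B] [AddSubgroupClass σ' B] {ℬ : ℕ → σ'} [GradedRing ℬ]
  {M : Type u} [AddCommGroup M] [Module A M] {ℳ : ℕ → AddSubgroup M}
  [SetLike.GradedSMul 𝒜 ℳ] [DirectSum.Decomposition ℳ]
  {N : Type u} [AddCommGroup N] [Module B N] {𝒩 : ℕ → AddSubgroup N}
  [SetLike.GradedSMul ℬ 𝒩] [DirectSum.Decomposition 𝒩]
  (ψ : 𝒜 →+*ᵍ ℬ) (hψ : ℬ₊ ≤ (𝒜₊).map ψ)
  (v : M →ₛₗ[ψ.toRingHom] N) (hv : ∀ (i : ℕ) (m : M), m ∈ ℳ i → v m ∈ 𝒩 i)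

/-- `v` is a localization at the degree-zero element `c`, as far as modules go. -/
structure IsLocAt (c : A) : Prop where
  mem : c ∈ 𝒜 0
  inj : ∀ m : M, v m = 0 → ∃ L : ℕ, c ^ L • m = 0
  surj : ∀ m' : N, ∃ (L : ℕ) (m : M), v m = ψ (c ^ L) • m'

include hv in
lemma decompose_map (z : M) (i : ℕ) : (decompose 𝒩 (v z) i : N) = v (decompose ℳ z i : M) := by
  classical
  induction z using Decomposition.inductionOn ℳ with
  | zero => simp
  | @homogeneous j x =>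
    rcases eq_or_ne j i with rfl | hne
    · rw [decompose_of_mem_same _ (hv j _ x.2), decompose_of_mem_same _ x.2]
    · rw [decompose_of_mem_ne _ (hv j _ x.2) hne, decompose_of_mem_ne _ x.2 hne, map_zero]
  | add a b ha hb =>
    simp only [map_add, decompose_add, DirectSum.add_apply, AddMemClass.coe_add, ha, hb]

include hv in
lemma exists_preimage_deg {c : A} (h : IsLocAt ψ v c) {z : ℤ} {m' : N} (hm : Deg 𝒩 z m') :
    ∃ (L : ℕ) (m : M), Deg ℳ z m ∧ v m = ψ (c ^ L) • m' := by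
  classical
  rcases hm with rfl | ⟨i, hi, hmem⟩
  · exact ⟨0, 0, Or.inl rfl, by rw [map_zero, smul_zero]⟩
  · obtain ⟨L, m, hm⟩ := h.surj m'
    refine ⟨L, (decompose ℳ m i : M), Or.inr ⟨i, hi, SetLike.coe_mem _⟩, ?_⟩
    rw [← decompose_map ψ v hv, hm]
    refine decompose_of_mem_same _ ?_
    have h0 : ψ (c ^ L) ∈ ℬ 0 := ψ.map_mem (by simpa using SetLike.pow_mem_graded L h.mem)
    simpa using SetLike.GradedSMul.smul_mem (A := ℬ) (B := 𝒩) h0 hmem

theorem comap_app_bijective_of_isLocAt {c : A} (h : IsLocAt ψ v c) (n : ℤ) {d : ℕ} (hd : 0 < d) {f : A}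
    (hf : f ∈ 𝒜 d) (hc : ∀ x : ProjectiveSpectrum 𝒜, f ∉ x.asHomogeneousIdeal → c ∉ x.asHomogeneousIdeal) :
    Function.Bijective ((GrMod.comap ψ hψ v hv n).app (Proj.basicOpen 𝒜 f)) := by
  have hψf : ψ f ∈ ℬ d := ψ.map_mem hf
  constructor
  · rw [injective_iff_map_eq_zero]
    intro w hw
    obtain ⟨k, m, hm, hval⟩ := exists_frac 𝒜 ℳ hd hf n w
    have hvm : Deg 𝒩 ((k : ℤ) * d + n) (v m) := by
      rcases hm with rfl | ⟨i, hi, hmem⟩
      · exact Or.inl (map_zero v)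
      · exact Or.inr ⟨i, hi, hv i m hmem⟩
    obtain ⟨K, hK⟩ := exists_pow_smul_eq_zero_of_mk ℬ hd hψf hvm fun y hy => by
      refine ⟨⟨ψ (f ^ k), ?_⟩, ?_⟩
      · rw [map_pow]; exact pow_notMem y.isPrime hy k
      · rw [← GrMod.locModMap_mk ψ hψ v y m ⟨f ^ k, pow_notMem (ProjectiveSpectrum.comap ψ hψ y).isPrime hy k⟩,
          ← hval ⟨ProjectiveSpectrum.comap ψ hψ y, hy⟩]
        refine (GrMod.comap_app_val ψ hψ v hv n _ w ⟨y, hy⟩).symm.trans ?_
        rw [hw]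
        rfl
    obtain ⟨L, hL⟩ := h.inj (f ^ K • m) (by
      rw [map_smulₛₗ]
      change ψ (f ^ K) • v m = 0
      rw [map_pow, hK])
    refine ext_val 𝒜 ℳ fun x => ?_
    refine (hval x).trans ((mk_eq_zero_iff 𝒜 x.1 _ _).mpr ⟨c ^ L * f ^ K, ?_, ?_⟩)
    · intro hx
      rcases x.1.isPrime.mem_or_mem hx with h1 | h1
      · exact pow_notMem x.1.isPrime (hc x.1 x.2) L h1
      · exact pow_notMem x.1.isPrime x.2 K h1
    · rw [mul_smul]; exact hL
  · intro w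
    obtain ⟨k, m', hm', hval⟩ := exists_frac ℬ 𝒩 hd hψf n w
    obtain ⟨L, m, hm, hvm⟩ := exists_preimage_deg ψ v hv h hm'
    refine ⟨fracSect 𝒜 ℳ n _ (j := k * d) (s := c ^ L * f ^ k) (by
        simpa using SetLike.mul_mem_graded (SetLike.pow_mem_graded L h.mem) (pow_mem_deg 𝒜 hf k))
      (fun y => fun hy => (y.1.isPrime.mem_or_mem hy).elim (pow_notMem y.1.isPrime (hc y.1 y.2) L)
        (pow_notMem y.1.isPrime y.2 k)) (hm.congr (by push_cast; ring)), ?_⟩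
    refine ext_val ℬ 𝒩 fun y => ?_
    refine (GrMod.comap_app_val ψ hψ v hv n _ _ y).trans ?_
    rw [val_fracSect, GrMod.locModMap_mk]
    refine Eq.trans ?_ (hval y).symm
    refine LocalizedModule.mk_eq.mpr ⟨1, ?_⟩
    simp only [one_smul, Submonoid.smul_def, map_mul, map_pow, hvm, smul_smul]
    rw [mul_comm]

/-- Bijectivity on every open avoiding `V(c)`. -/
theorem comap_app_bijective_of_le {c : A} (h : IsLocAt ψ v c) (n : ℤ) (V : (Proj 𝒜).Opens)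
    (hV : ∀ x : ProjectiveSpectrum 𝒜, x ∈ V → c ∉ x.asHomogeneousIdeal) :
    Function.Bijective ((GrMod.comap ψ hψ v hv n).app V) := by
  have hb : ∀ x ∈ V, ∃ (f : A) (d : ℕ), 0 < d ∧ f ∈ 𝒜 d ∧ x ∈ Proj.basicOpen 𝒜 f ∧ Proj.basicOpen 𝒜 f ≤ V ∧
      Function.Bijective ((GrMod.comap ψ hψ v hv n).app (Proj.basicOpen 𝒜 f)) := fun x hx => by
    obtain ⟨f, d, hd, hf, hxf, hfV⟩ := exists_basicOpen_le 𝒜 (y := x) hx
    exact ⟨f, d, hd, hf, hxf, hfV, comap_app_bijective_of_isLocAt ψ hψ v hv h n hd hf fun y hy => hV y (hfV hy)⟩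
  choose f d hd hf hxf hfV hbij using hb
  have hinj : ∀ (U : (Proj 𝒜).Opens), U ≤ V → Function.Injective ((GrMod.comap ψ hψ v hv n).app U) :=
    fun U hU => (injective_iff_map_eq_zero _).2 fun s hs => eq_zero_of_locally U s fun x hx => by
      obtain ⟨g, e, he, hg, hxg, hgU⟩ := exists_basicOpen_le 𝒜 (y := x) hx
      refine ⟨_, homOfLE hgU, hxg,
        (comap_app_bijective_of_isLocAt ψ hψ v hv h n he hg fun y hy => hV y (hU (hgU hy))).1 ?_⟩
      rw [map_app_comm, hs, map_zero, map_zero]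
  refine ⟨hinj V le_rfl, fun t => ?_⟩
  choose u hu using fun x : V => (hbij x.1 x.2).2
    (((Scheme.Modules.pushforward (Proj.map ψ hψ)).obj (GrMod.tilde ℬ 𝒩 n)).presheaf.map
      (homOfLE (hfV x.1 x.2)).op t)
  let T := GrMod.tilde 𝒜 ℳ n
  obtain ⟨s, hs, -⟩ := TopCat.Sheaf.existsUnique_gluing' ⟨T.presheaf, T.isSheaf⟩
    (fun x : V => Proj.basicOpen 𝒜 (f x.1 x.2)) V (fun x => homOfLE (hfV x.1 x.2))
    (fun x hx => Opens.mem_iSup.mpr ⟨⟨x, hx⟩, hxf x hx⟩) u (fun a b => by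
      refine hinj _ (inf_le_left.trans (hfV a.1 a.2)) ?_
      refine (map_app_comm _ _ _).trans (Eq.trans ?_ (map_app_comm _ _ _).symm)
      rw [hu, hu, QCoh.map_map, QCoh.map_map]
      rfl)
  refine ⟨s, sub_eq_zero.1 (eq_zero_of_locally V _ fun x hx => ⟨_, homOfLE (hfV x hx), hxf x hx, ?_⟩)⟩
  rw [map_sub, sub_eq_zero, ← hu ⟨x, hx⟩, ← hs ⟨x, hx⟩]
  exact (map_app_comm _ _ _).symm

end Groth.Agent.EgaQ
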