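import Groth.Agent.Eg2Gamma.Iso
import Groth.Agent.GrModX.QCohTilde
import Groth.Agent.QCoh.PullbackBC
import Groth.Agent.EgaQ.ComapLoc

/-!
# Base change of `M(n)~` along a graded homomorphism, degree one charts
-/

noncomputable section

universe u

open CategoryTheory AlgebraicGeometry TopologicalSpace Opposite HomogeneousLocalization DirectSum
open scoped HomogeneousIdeal

set_option backward.isDefEq.respectTransparency false
set_option backward.isDefEq.respectTransparency.types false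
set_option linter.all false
set_option maxHeartbeats 1600000

namespace Groth.Agent.EgaQ.BCModule

section chart

variable {A σ : Type u} [CommRing A] [SetLike σ A] [AddSubgroupClass σ A] (𝒜 : ℕ → σ) [GradedRing 𝒜]
  {g : A} (hg : g ∈ 𝒜 1)

/-- The functions on `D(g)` given by the homogeneous elements of degree `i`. -/
def fracHom (i : ℕ) : 𝒜 i →+ Γ(Proj 𝒜, Proj.basicOpen 𝒜 g) :=
  AddMonoidHom.mk' (fun a => Eg2Gamma.frac 𝒜 hg le_rfl a.2) fun a b => Eg2Gamma.frac_add 𝒜 hg le_rfl a.2 b.2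

/-- Dehomogenization with respect to `g`. -/
def dehom : A →+* Γ(Proj 𝒜, Proj.basicOpen 𝒜 g) :=
  (DirectSum.toSemiring (fracHom 𝒜 hg) (Eg2Gamma.frac_one 𝒜 hg le_rfl)
    (fun {i j} a b => Eg2Gamma.frac_mul 𝒜 hg le_rfl a.2 b.2)).comp
    (DirectSum.decomposeRingEquiv 𝒜).toRingHom

lemma dehom_of_mem {i : ℕ} {a : A} (ha : a ∈ 𝒜 i) : dehom 𝒜 hg a = Eg2Gamma.frac 𝒜 hg le_rfl ha := by
  simp only [dehom, RingHom.coe_comp, Function.comp_apply, RingEquiv.toRingHom_eq_coe, RingEquiv.coe_toRingHom]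
  change DFunLike.coe _ (DirectSum.decompose 𝒜 a) = _
  rw [DirectSum.decompose_of_mem 𝒜 ha, DirectSum.toSemiring_of]
  rfl

variable {M τ : Type u} [AddCommGroup M] [Module A M] [SetLike τ M] [AddSubgroupClass τ M] (ℳ : ℕ → τ)
  [SetLike.GradedSMul 𝒜 ℳ] (n : ℤ)

/-- The exponent above. -/
def up (n : ℤ) (i : ℕ) : ℕ := (n - i).toNat

/-- The exponent below. -/
def dn (n : ℤ) (i : ℕ) : ℕ := ((i : ℤ) - n).toNat

lemma up_sub_dn (i : ℕ) : (up n i : ℤ) - dn n i = n - i := by unfold up dn; omega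

lemma mem_pow (k : ℕ) (hg : g ∈ 𝒜 1) : g ^ k ∈ 𝒜 k := by simpa using SetLike.pow_mem_graded k hg

/-- The section of `M(n)~` on `D(g)` given by an element of degree `i`. -/
def qSect (i : ℕ) : ℳ i →+ Γ(GrMod.tilde 𝒜 ℳ n, Proj.basicOpen 𝒜 g) where
  toFun m :=
    ⟨fun y => ⟨LocalizedModule.mk (g ^ up n i • (m : M)) ⟨g ^ dn n i, GrModX.pow_notMem y.1.isPrime y.2 _⟩,
      Submodule.subset_span ⟨up n i + i, dn n i, ⟨g ^ up n i • (m : M),
        SetLike.GradedSMul.smul_mem (mem_pow 𝒜 (up n i) hg) m.2⟩, ⟨g ^ dn n i, mem_pow 𝒜 _ hg⟩, _,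
          by have := up_sub_dn n i; push_cast; omega, rfl⟩⟩,
    fun y => ⟨Proj.basicOpen 𝒜 g, y.2, 𝟙 _, up n i + i, dn n i, ⟨g ^ up n i • (m : M),
        SetLike.GradedSMul.smul_mem (mem_pow 𝒜 (up n i) hg) m.2⟩, ⟨g ^ dn n i, mem_pow 𝒜 _ hg⟩,
        fun z => GrModX.pow_notMem z.1.isPrime z.2 _,
          Or.inl (by have := up_sub_dn n i; push_cast; omega), fun _ => rfl⟩⟩
  map_zero' := GrModX.ext_val 𝒜 ℳ fun y => by
    show LocalizedModule.mk (g ^ up n i • ((0 : ℳ i) : M)) _ = (0 : GrMod.LocMod 𝒜 (M := M) y.1)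
    rw [ZeroMemClass.coe_zero, smul_zero, LocalizedModule.zero_mk]
  map_add' m m' := GrModX.ext_val 𝒜 ℳ fun y => by
    show LocalizedModule.mk (g ^ up n i • ((m + m' : ℳ i) : M)) _ =
      LocalizedModule.mk (g ^ up n i • (m : M)) _ + LocalizedModule.mk (g ^ up n i • (m' : M)) _
    rw [AddMemClass.coe_add, smul_add]
    rw [LocalizedModule.mk_add_mk, LocalizedModule.mk_eq]
    refine ⟨1, ?_⟩
    simp only [one_smul, Submonoid.smul_def, Submonoid.coe_mul, smul_add, smul_smul, mul_assoc]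

lemma val_qSect (i : ℕ) (m : ℳ i) (y : Proj.basicOpen 𝒜 g) :
    GrMod.val (qSect 𝒜 hg ℳ n i m) y =
      LocalizedModule.mk (g ^ up n i • (m : M)) ⟨g ^ dn n i, GrModX.pow_notMem y.1.isPrime y.2 _⟩ := rfl

variable [DirectSum.Decomposition ℳ]

/-- The sum over the components. -/
def qAll : M →+ Γ(GrMod.tilde 𝒜 ℳ n, Proj.basicOpen 𝒜 g) :=
  (DirectSum.toAddMonoid (qSect 𝒜 hg ℳ n)).comp (DirectSum.decomposeAddEquiv ℳ).toAddMonoidHom

lemma qAll_of_mem {i : ℕ} {m : M} (hm : m ∈ ℳ i) : qAll 𝒜 hg ℳ n m = qSect 𝒜 hg ℳ n i ⟨m, hm⟩ := by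
  show DirectSum.toAddMonoid (qSect 𝒜 hg ℳ n) (DirectSum.decompose ℳ m) = _
  rw [DirectSum.decompose_of_mem ℳ hm, DirectSum.toAddMonoid_of]

lemma qAll_smul (a : A) (m : M) : qAll 𝒜 hg ℳ n (a • m) = dehom 𝒜 hg a • qAll 𝒜 hg ℳ n m := by
  classical
  induction a using DirectSum.Decomposition.inductionOn 𝒜 with
  | zero => rw [zero_smul, map_zero, map_zero, zero_smul]
  | add a b ha hb => rw [add_smul, map_add, ha, hb, map_add, add_smul]
  | @homogeneous j a =>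
    induction m using DirectSum.Decomposition.inductionOn ℳ with
    | zero => rw [smul_zero, map_zero, smul_zero]
    | add a b ha hb => rw [smul_add, map_add, ha, hb, map_add, smul_add]
    | @homogeneous i m =>
      have ham : (a : A) • (m : M) ∈ ℳ (j + i) := SetLike.GradedSMul.smul_mem a.2 m.2
      rw [qAll_of_mem 𝒜 hg ℳ n ham, qAll_of_mem 𝒜 hg ℳ n m.2, dehom_of_mem 𝒜 hg a.2]
      refine GrModX.ext_val 𝒜 ℳ fun y => ?_
      refine Eq.trans ?_ (GrMod.coe_smul_val n y.1 _ _).symm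
      have h1 := Eg2Gamma.val_frac 𝒜 hg (le_refl (Proj.basicOpen 𝒜 g)) a.2 y
      refine Eq.trans ?_ (congr_arg₂ (fun (u : GrTwist.Loc 𝒜 y.1) (w : GrMod.LocMod 𝒜 (M := M) y.1) => u • w) h1 (val_qSect 𝒜 hg ℳ n i m y)).symm
      show GrMod.val (qSect 𝒜 hg ℳ n (j + i) ⟨_, ham⟩) y = _
      rw [val_qSect, LocalizedModule.mk_smul_mk, LocalizedModule.mk_eq]
      refine ⟨1, ?_⟩
      simp only [one_smul, Submonoid.smul_def, Submonoid.coe_mul, smul_smul]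
      have e1 := up_sub_dn n i
      have e2 := up_sub_dn n (j + i)
      push_cast at e2
      have e3 : up n (j + i) + (j + dn n i) = up n i + dn n (j + i) := by omega
      congr 1
      calc g ^ j * g ^ dn n i * (g ^ up n (j + i) * (a : A))
          = g ^ (up n (j + i) + (j + dn n i)) * a := by rw [pow_add, pow_add]; ring
        _ = g ^ dn n (j + i) * ((a : A) * g ^ up n i) := by rw [e3, pow_add]; ring

lemma exists_qAll_eq (t : Γ(GrMod.tilde 𝒜 ℳ n, Proj.basicOpen 𝒜 g)) : ∃ m, qAll 𝒜 hg ℳ n m = t := by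
  obtain ⟨k, m, hm, hval⟩ := GrModX.exists_frac 𝒜 ℳ Nat.one_pos hg n t
  rcases hm with rfl | ⟨i, hi, hmem⟩
  · exact ⟨0, GrModX.ext_val 𝒜 ℳ fun y => by
      rw [hval y, map_zero, LocalizedModule.zero_mk]; rfl⟩
  · refine ⟨m, GrModX.ext_val 𝒜 ℳ fun y => ?_⟩
    rw [qAll_of_mem 𝒜 hg ℳ n hmem, val_qSect, hval y, LocalizedModule.mk_eq]
    refine ⟨1, ?_⟩
    have e1 := up_sub_dn n i
    simp only [one_smul, Submonoid.smul_def, smul_smul, ← pow_add]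
    congr 2
    push_cast at hi
    omega

omit [DirectSum.Decomposition ℳ] in
lemma frac_pow_smul (k : ℕ) (x : Γ(GrMod.tilde 𝒜 ℳ n, Proj.basicOpen 𝒜 g)) :
    dehom 𝒜 hg (g ^ k) • x = x := by
  rw [dehom_of_mem 𝒜 hg (mem_pow 𝒜 k hg), Eg2Gamma.frac_pow_self, one_smul]

include hg in
/-- An element killed by a power of `g` after shifting into one degree. -/
lemma exists_homogeneous (z : M) :
    ∃ (D : ℕ) (z' : M), z' ∈ ℳ D ∧ n ≤ D ∧
      ∀ {G : Type u} [AddCommGroup G] (Φ : M →+ G), (∀ k m, Φ (g ^ k • m) = Φ m) → Φ z' = Φ z := by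
  classical
  let S := (DirectSum.decompose ℳ z).support
  let D := max n.toNat (S.sup id)
  refine ⟨D, ∑ i ∈ S, g ^ (D - i) • (DirectSum.decompose ℳ z i : M), ?_, ?_, fun Φ hΦ => ?_⟩
  · refine sum_mem fun i hi => ?_
    have hiD : i ≤ D := le_max_of_le_right (Finset.le_sup (f := id) hi)
    have := SetLike.GradedSMul.smul_mem (A := 𝒜) (mem_pow 𝒜 (D - i) hg) (DirectSum.decompose ℳ z i).2
    rwa [vadd_eq_add, Nat.sub_add_cancel hiD] at this
  · have : n.toNat ≤ D := le_max_left _ _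
    omega
  · simp only [map_sum, hΦ]
    rw [← map_sum, DirectSum.sum_support_decompose]

end chart

variable {A σ : Type u} [CommRing A] [SetLike σ A] [AddSubgroupClass σ A] {𝒜 : ℕ → σ} [GradedRing 𝒜]
  {B σ' : Type u} [CommRing B] [SetLike σ' B] [AddSubgroupClass σ' B] {ℬ : ℕ → σ'} [GradedRing ℬ]
  (ψ : 𝒜 →+*ᵍ ℬ) (hψ : ℬ₊ ≤ (𝒜₊).map ψ)

lemma oval_app {U : (Proj 𝒜).Opens} (r : Γ(Proj 𝒜, U)) (y : (Proj.map ψ hψ ⁻¹ᵁ U : (Proj ℬ).Opens)) :
    (GrModX.oval ℬ ((Proj.map ψ hψ).app U r) y).val =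
      GrTwist.locMap ψ hψ y.1 (GrModX.oval 𝒜 r ⟨ProjectiveSpectrum.comap ψ hψ y.1, y.2⟩).val :=
  HomogeneousLocalization.val_localRingHom (x := GrModX.oval 𝒜 r ⟨ProjectiveSpectrum.comap ψ hψ y.1, y.2⟩)

lemma app_dehom {g : A} (hg : g ∈ 𝒜 1) (a : A) :
    (Proj.map ψ hψ).app (Proj.basicOpen 𝒜 g) (dehom 𝒜 hg a) =
      (show Γ(Proj ℬ, Proj.map ψ hψ ⁻¹ᵁ Proj.basicOpen 𝒜 g) from dehom ℬ (ψ.map_mem hg) (ψ a)) := by
  classical
  induction a using DirectSum.Decomposition.inductionOn 𝒜 with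
  | zero => simp only [map_zero]
  | add a b ha hb => simp only [map_add, ha, hb]
  | @homogeneous j a =>
    rw [dehom_of_mem 𝒜 hg a.2]
    refine Eq.trans ?_ (dehom_of_mem ℬ (ψ.map_mem hg) (ψ.map_mem a.2)).symm
    refine Eg2Gamma.oext ℬ fun y => ?_
    rw [oval_app, Eg2Gamma.val_frac, GrTwist.locMap_mk]
    refine Eq.trans ?_ (Eg2Gamma.val_frac ℬ (ψ.map_mem hg) le_rfl (ψ.map_mem a.2) y).symm
    congr 1
    exact Subtype.ext (map_pow ψ g j)

variable {M τ : Type u} [AddCommGroup M] [Module A M] [SetLike τ M] [AddSubgroupClass τ M] (ℳ : ℕ → τ)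
  [SetLike.GradedSMul 𝒜 ℳ] [DirectSum.Decomposition ℳ]
  {N τ' : Type u} [AddCommGroup N] [Module B N] [SetLike τ' N] [AddSubgroupClass τ' N] (𝒩 : ℕ → τ')
  [SetLike.GradedSMul ℬ 𝒩] [DirectSum.Decomposition 𝒩]
  (v : M →ₛₗ[ψ.toRingHom] N) (hv : ∀ (i : ℕ) (m : M), m ∈ ℳ i → v m ∈ 𝒩 i)
  (hbc : ∀ (Q : Type u) [AddCommGroup Q] [Module B Q] (w : M →ₛₗ[ψ.toRingHom] Q),
    ∃! g : N →ₗ[B] Q, ∀ m : M, g (v m) = w m)
  (n : ℤ)

include hbc in
theorem isIso_adjunct (hgen : (𝒜₊).toIdeal = Ideal.span (𝒜 1 : Set A)) :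
    IsIso (((Scheme.Modules.pullbackPushforwardAdjunction (Proj.map ψ hψ)).homEquiv _ _).symm
      (GrMod.comap ψ hψ v hv n)) := by
  classical
  let p := Proj.map ψ hψ
  let P := (Scheme.Modules.pullback p).obj (GrMod.tilde 𝒜 ℳ n)
  let θ : P ⟶ GrMod.tilde ℬ 𝒩 n := ((Scheme.Modules.pullbackPushforwardAdjunction p).homEquiv _ _).symm
    (GrMod.comap ψ hψ v hv n)
  change IsIso θ
  let I := { x : A // x ∈ 𝒜 1 }
  refine Eg2Gamma.isIso_of_bijective_cover (QCoh.isQCoh_pullback p (GrModX.isQCoh_tilde 𝒜 ℳ n))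
    (GrModX.isQCoh_tilde ℬ 𝒩 n) θ (fun x : I => p ⁻¹ᵁ Proj.basicOpen 𝒜 x.1) (fun x => ?_) (fun y => ?_) ?_
  · exact Proj.isAffineOpen_basicOpen ℬ (ψ x.1) (ψ.map_mem x.2) Nat.one_pos
  · by_contra! hall
    refine (ProjectiveSpectrum.comap ψ hψ y).not_irrelevant_le
      (show (𝒜₊).toIdeal ≤ _ from hgen ▸ Ideal.span_le.mpr fun a ha => ?_)
    by_contra ha'
    exact hall ⟨a, ha⟩ ha'
  rintro ⟨f, hf⟩
  let V : (Proj 𝒜).Opens := Proj.basicOpen 𝒜 f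
  let W : (Proj ℬ).Opens := Proj.basicOpen ℬ (ψ f)
  have hf' : ψ f ∈ ℬ 1 := ψ.map_mem hf
  let ε := dehom ℬ hf'
  let η : Γ(GrMod.tilde 𝒜 ℳ n, V) →+ Γ(P, W) :=
    (((Scheme.Modules.pullbackPushforwardAdjunction p).unit.app (GrMod.tilde 𝒜 ℳ n)).app V).hom
  have ηsmul : ∀ (r : Γ(Proj 𝒜, V)) s, η (r • s) = (show Γ(Proj ℬ, W) from p.app V r) • η s := fun r s =>
    Scheme.Modules.Hom.app_smul ((Scheme.Modules.pullbackPushforwardAdjunction p).unit.app (GrMod.tilde 𝒜 ℳ n)) r s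
  have hθη : ∀ s : Γ(GrMod.tilde 𝒜 ℳ n, V), θ.app W (η s) = (GrMod.comap ψ hψ v hv n).app V s := fun s => by
    have h := ((Scheme.Modules.pullbackPushforwardAdjunction p).homEquiv_unit (f := θ)).symm.trans
      (Equiv.apply_symm_apply _ _)
    exact congr(($h).app V s)
  letI modP : Module B Γ(P, W) := Module.compHom Γ(P, W) ε
  letI modN : Module B Γ(GrMod.tilde ℬ 𝒩 n, W) := Module.compHom Γ(GrMod.tilde ℬ 𝒩 n, W) ε
  let w : M →ₛₗ[ψ.toRingHom] Γ(P, W) :=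
    { toFun := fun m => η (qAll 𝒜 hf ℳ n m)
      map_add' := fun a b => by rw [map_add, map_add]
      map_smul' := fun a m => by
        show η (qAll 𝒜 hf ℳ n (a • m)) = ε (ψ a) • η (qAll 𝒜 hf ℳ n m)
        rw [qAll_smul, ηsmul, app_dehom ψ hψ hf a]
        rfl }
  obtain ⟨Φ, hΦ, -⟩ := hbc Γ(P, W) w
  have hΦs : ∀ (b : B) (z : N), Φ (b • z) = ε b • Φ z := fun b z => map_smul Φ b z
  let Ψ : N →ₗ[B] Γ(GrMod.tilde ℬ 𝒩 n, W) :=
    { toFun := qAll ℬ hf' 𝒩 n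
      map_add' := map_add _
      map_smul' := fun b z => qAll_smul ℬ hf' 𝒩 n b z }
  let θ' : Γ(P, W) →ₗ[B] Γ(GrMod.tilde ℬ 𝒩 n, W) :=
    { toFun := θ.app W
      map_add' := map_add _
      map_smul' := fun b z => Scheme.Modules.Hom.app_smul θ (ε b) z }
  have hθv : ∀ m : M, θ' (Φ (v m)) = Ψ (v m) := fun m => by
    induction m using DirectSum.Decomposition.inductionOn ℳ with
    | zero => simp only [map_zero]
    | add a b ha hb => simp only [map_add, ha, hb]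
    | @homogeneous i m =>
      rw [hΦ]
      show θ.app W (η (qAll 𝒜 hf ℳ n m)) = qAll ℬ hf' 𝒩 n (v m)
      rw [hθη, qAll_of_mem 𝒜 hf ℳ n m.2, qAll_of_mem ℬ hf' 𝒩 n (hv i m m.2)]
      refine GrModX.ext_val ℬ 𝒩 fun y => ?_
      refine (GrMod.comap_app_val ψ hψ v hv n V _ y).trans ?_
      refine (congrArg _ (val_qSect 𝒜 hf ℳ n i m ⟨_, y.2⟩)).trans ?_
      refine Eq.trans ?_ (val_qSect ℬ hf' 𝒩 n i ⟨v m, hv i m m.2⟩ y).symm
      rw [GrMod.locModMap_mk]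
      congr 1
      · rw [LinearMap.map_smulₛₗ]
        show ψ (f ^ up n i) • v (m : M) = _
        rw [map_pow]
      · exact Subtype.ext (map_pow ψ f _)
  have hθΦ : ∀ z, θ.app W (Φ z) = qAll ℬ hf' 𝒩 n z := fun z => by
    let wN : M →ₛₗ[ψ.toRingHom] Γ(GrMod.tilde ℬ 𝒩 n, W) :=
      { toFun := fun m => Ψ (v m)
        map_add' := fun a b => by rw [map_add, map_add]
        map_smul' := fun a m => by rw [LinearMap.map_smulₛₗ, map_smul] }
    obtain ⟨G, -, hG⟩ := hbc _ wN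
    have := (hG (θ'.comp Φ) hθv).trans (hG Ψ fun m => rfl).symm
    exact LinearMap.congr_fun this z
  have hall : ∀ z : Γ(P, W), ∃ a, Φ a = z := by
    let ψV := p.appLE V W le_rfl
    letI : Algebra Γ(Proj 𝒜, V) Γ(Proj ℬ, W) := ψV.hom.toAlgebra
    letI : Module Γ(Proj 𝒜, V) Γ(P, W) := Module.compHom _ ψV.hom
    haveI : IsScalarTower Γ(Proj 𝒜, V) Γ(Proj ℬ, W) Γ(P, W) :=
      IsScalarTower.of_algebraMap_smul fun _ _ => rfl
    let l : Γ(GrMod.tilde 𝒜 ℳ n, V) →ₗ[Γ(Proj 𝒜, V)] Γ(P, W) :=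
      { toFun := QCoh.pullSec p _ le_rfl
        map_add' := QCoh.pullSec_add p _ le_rfl
        map_smul' := QCoh.pullSec_smul p _ le_rfl }
    have hbc' := QCoh.isBaseChange_pullback (Proj.isAffineOpen_basicOpen 𝒜 f hf Nat.one_pos) p
      (Proj.isAffineOpen_basicOpen ℬ (ψ f) hf' Nat.one_pos) (GrModX.isQCoh_tilde 𝒜 ℳ n) le_rfl (fun _ => rfl) l
      (fun _ => rfl)
    intro z
    refine hbc'.inductionOn z (fun z => ∃ a, Φ a = z) ⟨0, map_zero _⟩ (fun s => ?_) (fun r x hx => ?_) (fun x x' hx hx' => ?_)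
    · obtain ⟨m, rfl⟩ := exists_qAll_eq 𝒜 hf ℳ n s
      refine ⟨v m, ?_⟩
      rw [hΦ]
      exact ((QCoh.map_id' (M := P) _ _) :).symm
    · obtain ⟨a, rfl⟩ := hx
      obtain ⟨x, rfl⟩ := (ConcreteCategory.bijective_of_isIso (Proj.basicOpenIsoAway ℬ (ψ f) hf' Nat.one_pos).hom).2 r
      obtain ⟨k, b, hb, rfl⟩ := x.mk_surjective ℬ hf'
      have hb' : b ∈ ℬ k := by simpa using hb
      refine ⟨b • a, ?_⟩
      rw [hΦs, Proj.basicOpenIsoAway_hom]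
      congr 1
      show dehom ℬ hf' b = _
      rw [dehom_of_mem ℬ hf' hb', Eg2Gamma.frac, AModX.resR_self]
    · obtain ⟨a, rfl⟩ := hx
      obtain ⟨a', rfl⟩ := hx'
      exact ⟨a + a', map_add _ _ _⟩
  show Function.Bijective (θ.app W)
  refine ⟨(injective_iff_map_eq_zero _).2 fun z hz => ?_, fun t => ?_⟩
  · obtain ⟨a, rfl⟩ := hall z
    have hpow : ∀ k x, Φ ((ψ f) ^ k • x) = Φ x := fun k x => by
      rw [hΦs]
      show dehom ℬ hf' ((ψ f) ^ k) • Φ x = Φ x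
      rw [dehom_of_mem ℬ hf' (mem_pow ℬ k hf'), Eg2Gamma.frac_pow_self, one_smul]
    obtain ⟨D, a', ha', hnD, hsame⟩ := exists_homogeneous ℬ hf' 𝒩 n a
    have hΦa : Φ a' = Φ a := hsame Φ.toAddMonoidHom hpow
    rw [← hΦa] at hz ⊢
    rw [hθΦ, qAll_of_mem ℬ hf' 𝒩 n ha'] at hz
    obtain ⟨m, hm⟩ := GrModX.exists_pow_smul_eq_zero_of_mk (ℳ := 𝒩) ℬ Nat.one_pos hf'
      (GrModX.deg_of_mem ha') fun y hy => by
        have h0 := congrArg (fun s => GrMod.val s ⟨y, hy⟩) hz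
        refine ⟨⟨(ψ f) ^ dn n D, GrModX.pow_notMem y.isPrime hy _⟩, ?_⟩
        have h1 := (val_qSect ℬ hf' 𝒩 n D ⟨a', ha'⟩ ⟨y, hy⟩).symm.trans h0
        rw [show up n D = 0 by unfold up; omega] at h1
        simp only [pow_zero, one_smul] at h1
        exact h1
    rw [← hpow m, hm, map_zero]
  · obtain ⟨a, rfl⟩ := exists_qAll_eq ℬ hf' 𝒩 n t
    exact ⟨Φ a, hθΦ a⟩

end Groth.Agent.EgaQ.BCModule
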