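import Groth.Agent.EgaQ.AwayBC
import Groth.Agent.EgaQ.TwistExist
import Groth.Agent.Eg2Gamma.Frac
import Groth.Agent.GrModX.QCohTilde

/-!
# Sections of twists on standard opens commute with base change
-/

noncomputable section

universe u

open CategoryTheory AlgebraicGeometry TopologicalSpace Opposite HomogeneousLocalization DirectSum
open scoped HomogeneousIdeal

set_option backward.isDefEq.respectTransparency false
set_option backward.isDefEq.respectTransparency.types false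
set_option linter.all false
set_option maxHeartbeats 1600000

namespace Groth.Agent.EgaQ.BCTwist

section chart

variable {R A σ : Type u} [CommRing R] [CommRing A] [SetLike σ A] [AddSubgroupClass σ A] (𝒜 : ℕ → σ)
  [GradedRing 𝒜] (rA : R →+* 𝒜 0)

/-- Projection to an integral degree. -/
def pd (z : ℤ) : A →+ A := if 0 ≤ z then GradedRing.proj 𝒜 z.toNat else 0

lemma deg_pd (z : ℤ) (a : A) : GrModX.Deg 𝒜 z (pd 𝒜 z a) := by
  unfold pd
  split_ifs with h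
  · exact Or.inr ⟨z.toNat, Int.toNat_of_nonneg h, Proj16.proj_mem 𝒜 _ a⟩
  · exact Or.inl rfl

lemma pd_of_deg {z : ℤ} {a : A} (h : GrModX.Deg 𝒜 z a) : pd 𝒜 z a = a := by
  rcases h with rfl | ⟨i, rfl, hi⟩
  · exact map_zero _
  · simp only [pd, Int.natCast_nonneg, if_true, Int.toNat_natCast]
    exact Proj16.proj_of_mem 𝒜 hi

lemma pd_mul {e : ℕ} {x : A} (hx : x ∈ 𝒜 e) (z : ℤ) (a : A) : pd 𝒜 (z + e) (x * a) = x * pd 𝒜 z a := by
  classical
  unfold pd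
  split_ifs with h1 h2 h2
  · rw [GradedRing.proj_apply, GradedRing.proj_apply,
      DirectSum.coe_decompose_mul_of_left_mem_of_le 𝒜 hx (show e ≤ (z + e).toNat by omega)]
    rw [show (z + e).toNat - e = z.toNat by omega]
  · rw [GradedRing.proj_apply, DirectSum.coe_decompose_mul_of_left_mem_of_not_le 𝒜 hx
      (show ¬ e ≤ (z + e).toNat by omega), AddMonoidHom.zero_apply, mul_zero]
  · omega
  · rw [AddMonoidHom.zero_apply, AddMonoidHom.zero_apply, mul_zero]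

lemma pd_smul (z : ℤ) (r : R) (a : A) : pd 𝒜 z ((rA r : A) * a) = (rA r : A) * pd 𝒜 z a := by
  have h := pd_mul 𝒜 (rA r).2 z a
  rwa [Nat.cast_zero, add_zero] at h

variable (n : ℤ) {f : A} {d : ℕ} (hf : f ∈ 𝒜 d)

/-- The degree of the numerators. -/
abbrev dg (d k : ℕ) : ℤ := ((k * d : ℕ) : ℤ) + n

/-- `a ↦ a / f ^ k`. -/
def q (k : ℕ) : A →+ Γ(GrMod.tilde 𝒜 𝒜 n, Proj.basicOpen 𝒜 f) :=
  AddMonoidHom.mk' (fun a => GrModX.fracSect 𝒜 𝒜 n _ (GrModX.pow_mem_deg 𝒜 hf k)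
      (fun y => GrModX.pow_notMem y.1.isPrime y.2 k) (deg_pd 𝒜 (dg n d k) a)) fun a a' =>
    GrModX.ext_val 𝒜 𝒜 fun y => by
      refine (LocalizedModule.mk_eq.mpr ⟨1, ?_⟩).trans
        (LocalizedModule.mk_add_mk (S := y.1.asHomogeneousIdeal.toIdeal.primeCompl)
          (m1 := pd 𝒜 (dg n d k) a) (m2 := pd 𝒜 (dg n d k) a')
          (s1 := ⟨f ^ k, GrModX.pow_notMem y.1.isPrime y.2 k⟩)
          (s2 := ⟨f ^ k, GrModX.pow_notMem y.1.isPrime y.2 k⟩)).symm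
      simp only [map_add, one_smul, Submonoid.smul_def, Submonoid.coe_mul, smul_eq_mul]
      ring

lemma val_q (k : ℕ) (a : A) (y : Proj.basicOpen 𝒜 f) :
    GrMod.val (q 𝒜 n hf k a) y =
      LocalizedModule.mk (pd 𝒜 (dg n d k) a) ⟨f ^ k, GrModX.pow_notMem y.1.isPrime y.2 k⟩ := rfl

lemma q_shift (k m : ℕ) (a : A) : q 𝒜 n hf (k + m) (f ^ m * a) = q 𝒜 n hf k a :=
  GrModX.ext_val 𝒜 𝒜 fun y => by
    rw [val_q, val_q]
    refine LocalizedModule.mk_eq.mpr ⟨1, ?_⟩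
    have e : pd 𝒜 (dg n d (k + m)) (f ^ m * a) = f ^ m * pd 𝒜 (dg n d k) a := by
      rw [← pd_mul 𝒜 (GrModX.pow_mem_deg 𝒜 hf m) (dg n d k) a]
      congr 1
      congr 1
      simp only [dg]; push_cast; ring
    simp only [one_smul, Submonoid.smul_def, smul_eq_mul, e, pow_add]
    ring

/-- `a ↦ a / f ^ m` in degree zero. -/
def c (m : ℕ) : A →+ Γ(Proj 𝒜, Proj.basicOpen 𝒜 f) :=
  AddMonoidHom.mk' (fun a => Proj.awayToSection 𝒜 f
      (Away.mk 𝒜 hf m (GradedRing.proj 𝒜 (m • d) a) (Proj16.proj_mem 𝒜 _ a))) fun a a' => by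
    rw [← map_add]
    congr 1
    apply HomogeneousLocalization.val_injective
    simp [Away.val_mk, HomogeneousLocalization.val_add, Localization.add_mk_self]

lemma val_c (m : ℕ) (a : A) (y : Proj.basicOpen 𝒜 f) :
    (GrModX.oval 𝒜 (c 𝒜 hf m a) y).val =
      Localization.mk (GradedRing.proj 𝒜 (m • d) a) ⟨f ^ m, GrModX.pow_notMem y.1.isPrime y.2 m⟩ := rfl

lemma c_smul_q (k m : ℕ) (a' a : A) :
    c 𝒜 hf m a' • q 𝒜 n hf k a = q 𝒜 n hf (k + m) (GradedRing.proj 𝒜 (m • d) a' * a) :=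
  GrModX.ext_val 𝒜 𝒜 fun y => by
    refine (GrMod.coe_smul_val n y.1 _ _).trans ?_
    refine Eq.trans (congrArg₂ (fun (a : GrTwist.Loc 𝒜 y.1) (b : GrMod.LocMod 𝒜 (M := A) y.1) => a • b)
      (val_c 𝒜 hf m a' y) (val_q 𝒜 n hf k a y)) ?_
    rw [LocalizedModule.mk_smul_mk, val_q]
    refine LocalizedModule.mk_eq.mpr ⟨1, ?_⟩
    have e : pd 𝒜 (dg n d (k + m)) (GradedRing.proj 𝒜 (m • d) a' * a) =
        GradedRing.proj 𝒜 (m • d) a' * pd 𝒜 (dg n d k) a := by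
      rw [← pd_mul 𝒜 (Proj16.proj_mem 𝒜 (m • d) a') (dg n d k) a]
      congr 1
      congr 1
      simp only [dg, smul_eq_mul]; push_cast; ring
    rw [e]
    simp only [one_smul, Submonoid.smul_def, Submonoid.coe_mul, smul_eq_mul, pow_add]
    ring

/-- The scalars on a basic open. -/
def rho (f : A) : R →+* Γ(Proj 𝒜, Proj.basicOpen 𝒜 f) :=
  (Proj.awayToSection 𝒜 f).hom.comp ((fromZeroRingHom 𝒜 (Submonoid.powers f)).comp rA)

lemma val_rho (r : R) (y : Proj.basicOpen 𝒜 f) :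
    (GrModX.oval 𝒜 (rho 𝒜 rA f r) y).val = Localization.mk (rA r : A) 1 := rfl

lemma c_smul (m : ℕ) (r : R) (a : A) : c 𝒜 hf m ((rA r : A) * a) = rho 𝒜 rA f r * c 𝒜 hf m a :=
  Eg2Gamma.oext 𝒜 fun y => by
    classical
    rw [val_c, Eg2Gamma.oval_mul, val_rho, val_c, Localization.mk_mul, one_mul, GradedRing.proj_apply,
      GradedRing.proj_apply, DirectSum.coe_decompose_mul_of_left_mem_of_le 𝒜 (rA r).2 (Nat.zero_le _), tsub_zero]

lemma q_smul (k : ℕ) (r : R) (a : A) :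
    q 𝒜 n hf k ((rA r : A) * a) = rho 𝒜 rA f r • q 𝒜 n hf k a :=
  GrModX.ext_val 𝒜 𝒜 fun y => by
    refine Eq.trans ?_ (GrMod.coe_smul_val n y.1 _ _).symm
    refine Eq.trans ?_ (congrArg₂ (fun (a : GrTwist.Loc 𝒜 y.1) (b : GrMod.LocMod 𝒜 (M := A) y.1) => a • b)
      (val_rho 𝒜 rA r y) (val_q 𝒜 n hf k a y)).symm
    rw [val_q, LocalizedModule.mk_smul_mk, one_mul, pd_smul, smul_eq_mul]

end chart

variable {R R' A B σ τ : Type u} [CommRing R] [CommRing R'] [CommRing A] [CommRing B]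
  [SetLike σ A] [AddSubgroupClass σ A] [SetLike τ B] [AddSubgroupClass τ B]
  {𝒜 : ℕ → σ} [GradedRing 𝒜] {ℬ : ℕ → τ} [GradedRing ℬ]
  {φ : R →+* R'} {rA : R →+* 𝒜 0} {rB : R' →+* ℬ 0} {ψ : 𝒜 →+*ᵍ ℬ}

lemma pd_map (z : ℤ) (a : A) : pd ℬ z (ψ a) = ψ (pd 𝒜 z a) := by
  unfold pd
  split_ifs
  · exact (Proj16.proj_map_commutes ψ _ a).symm
  · exact (map_zero ψ).symm

variable (hψ : ℬ₊ ≤ (𝒜₊).map ψ) (n : ℤ) {f : A} {d : ℕ} (hf : f ∈ 𝒜 d)

lemma oval_app {U : (Proj 𝒜).Opens} (r : Γ(Proj 𝒜, U)) (y : (Proj.map ψ hψ ⁻¹ᵁ U : (Proj ℬ).Opens)) :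
    (GrModX.oval ℬ ((Proj.map ψ hψ).app U r) y).val =
      GrTwist.locMap ψ hψ y.1 (GrModX.oval 𝒜 r ⟨ProjectiveSpectrum.comap ψ hψ y.1, y.2⟩).val :=
  HomogeneousLocalization.val_localRingHom (x := GrModX.oval 𝒜 r ⟨ProjectiveSpectrum.comap ψ hψ y.1, y.2⟩)

lemma app_rho (h : IsGradedBC φ rA rB ψ) (r : R) :
    (Proj.map ψ hψ).app (Proj.basicOpen 𝒜 f) (rho 𝒜 rA f r) =
      (show Γ(Proj ℬ, Proj.map ψ hψ ⁻¹ᵁ Proj.basicOpen 𝒜 f) from rho ℬ rB (ψ f) (φ r)) :=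
  Eg2Gamma.oext ℬ fun y => by
    rw [oval_app, val_rho, GrTwist.locMap_mk]
    refine Eq.trans ?_ (val_rho (f := ψ f) ℬ rB (φ r) y).symm
    have e : ψ (rA r : A) = (rB (φ r) : B) := (congr($(h.w).hom r)).symm
    rw [e]
    congr 1
    exact Subtype.ext (map_one ψ)

/-- The comparison of the sections of twists on a standard open. -/
def comapSect (U : (Proj 𝒜).Opens) :
    Γ(GrMod.tilde 𝒜 𝒜 n, U) →+ Γ(GrMod.tilde ℬ ℬ n, Proj.map ψ hψ ⁻¹ᵁ U) :=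
  ((GrMod.comap ψ hψ (TwistGlue.selfMap ψ) (fun i m (hm : m ∈ 𝒜 i) => ψ.map_mem hm) n).app U).hom

lemma comapSect_q (k : ℕ) (a : A) :
    comapSect hψ n (Proj.basicOpen 𝒜 f) (q 𝒜 n hf k a) =
      (show Γ(GrMod.tilde ℬ ℬ n, Proj.map ψ hψ ⁻¹ᵁ Proj.basicOpen 𝒜 f) from q ℬ n (ψ.map_mem hf) k (ψ a)) := by
  refine GrModX.ext_val ℬ ℬ fun y => ?_
  refine (GrMod.comap_app_val ψ hψ (TwistGlue.selfMap ψ) (fun i m (hm : m ∈ 𝒜 i) => ψ.map_mem hm) n _ _ y).trans ?_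
  refine (congrArg _ (val_q 𝒜 n hf k a ⟨_, y.2⟩)).trans ?_
  refine Eq.trans ?_ (val_q ℬ n (ψ.map_mem hf) k (ψ a) y).symm
  rw [GrMod.locModMap_mk, pd_map]
  simp only [TwistGlue.selfMap_apply, map_pow]
  rfl

variable (hd : 0 < d)

include hd in
lemma exists_q_eq {C ρ : Type u} [CommRing C] [SetLike ρ C] [AddSubgroupClass ρ C] {𝒞 : ℕ → ρ} [GradedRing 𝒞]
    {g : C} (hg : g ∈ 𝒞 d) (t : Γ(GrMod.tilde 𝒞 𝒞 n, Proj.basicOpen 𝒞 g)) : ∃ k a, q 𝒞 n hg k a = t := by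
  obtain ⟨k, a, ha, hval⟩ := GrModX.exists_frac 𝒞 𝒞 hd hg n t
  refine ⟨k, a, GrModX.ext_val 𝒞 𝒞 fun y => ?_⟩
  rw [val_q, hval y, pd_of_deg 𝒞 (show GrModX.Deg 𝒞 (dg n d k) a by simpa [dg] using ha)]

include hf hd in
/-- The sections of the base change are generated by the sections. -/
theorem sect_induction (h : IsGradedBC φ rA rB ψ)
    {motive : Γ(GrMod.tilde ℬ ℬ n, Proj.map ψ hψ ⁻¹ᵁ Proj.basicOpen 𝒜 f) → Prop}
    (t : Γ(GrMod.tilde ℬ ℬ n, Proj.map ψ hψ ⁻¹ᵁ Proj.basicOpen 𝒜 f)) (h0 : motive 0)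
    (hs : ∀ s, motive (comapSect hψ n (Proj.basicOpen 𝒜 f) s))
    (hr : ∀ (c : Γ(Proj ℬ, Proj.map ψ hψ ⁻¹ᵁ Proj.basicOpen 𝒜 f)) t, motive t → motive (c • t))
    (ha : ∀ t t', motive t → motive t' → motive (t + t')) : motive t := by
  letI := φ.toAlgebra
  letI := ((SetLike.GradeZero.subring 𝒜).subtype.comp rA).toAlgebra
  letI := ((SetLike.GradeZero.subring ℬ).subtype.comp rB).toAlgebra
  letI := (((SetLike.GradeZero.subring ℬ).subtype.comp rB).comp φ).toAlgebra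
  haveI : IsScalarTower R R' B := IsScalarTower.of_algebraMap_eq' rfl
  obtain ⟨l, hl, hbc⟩ := h.isBaseChange
  obtain ⟨k, b, rfl⟩ := exists_q_eq n hd (ψ.map_mem hf)
    (show Γ(GrMod.tilde ℬ ℬ n, Proj.basicOpen ℬ (ψ f)) from t)
  refine hbc.inductionOn b (motive := fun b => motive (q ℬ n (ψ.map_mem hf) k b)) (by rw [map_zero]; exact h0)
    (fun a => ?_) (fun r x hx => ?_) (fun x y hx hy => by rw [map_add]; exact ha _ _ hx hy)
  · rw [hl]
    have := hs (q 𝒜 n hf k a)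
    rw [comapSect_q hψ n hf k a] at this
    exact this
  · rw [Algebra.smul_def]
    show motive (q ℬ n (ψ.map_mem hf) k ((rB r : B) * x))
    rw [q_smul ℬ rB]
    exact hr _ _ hx

include hf hd in
/-- Semilinear maps extend to the sections of the base change. -/
theorem exists_lift (h : IsGradedBC φ rA rB ψ) {Q : Type u} [AddCommGroup Q]
    [Module Γ(Proj ℬ, Proj.map ψ hψ ⁻¹ᵁ Proj.basicOpen 𝒜 f) Q]
    (g : Γ(GrMod.tilde 𝒜 𝒜 n, Proj.basicOpen 𝒜 f) →+ Q)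
    (hg : ∀ (c : Γ(Proj 𝒜, Proj.basicOpen 𝒜 f)) (s : Γ(GrMod.tilde 𝒜 𝒜 n, Proj.basicOpen 𝒜 f)),
      g (c • s) = (show Γ(Proj ℬ, Proj.map ψ hψ ⁻¹ᵁ Proj.basicOpen 𝒜 f) from (Proj.map ψ hψ).app (Proj.basicOpen 𝒜 f) c) • g s) :
    ∃ G : Γ(GrMod.tilde ℬ ℬ n, Proj.map ψ hψ ⁻¹ᵁ Proj.basicOpen 𝒜 f) →+ Q,
      (∀ (c : Γ(Proj ℬ, Proj.map ψ hψ ⁻¹ᵁ Proj.basicOpen 𝒜 f)) (t : Γ(GrMod.tilde ℬ ℬ n, Proj.map ψ hψ ⁻¹ᵁ Proj.basicOpen 𝒜 f)), G (c • t) = c • G t) ∧ ∀ s, G (comapSect hψ n (Proj.basicOpen 𝒜 f) s) = g s := by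
  classical
  letI := φ.toAlgebra
  letI := ((SetLike.GradeZero.subring 𝒜).subtype.comp rA).toAlgebra
  letI := ((SetLike.GradeZero.subring ℬ).subtype.comp rB).toAlgebra
  letI := (((SetLike.GradeZero.subring ℬ).subtype.comp rB).comp φ).toAlgebra
  haveI : IsScalarTower R R' B := IsScalarTower.of_algebraMap_eq' rfl
  obtain ⟨l, hl, hbc⟩ := h.isBaseChange
  have hf' : ψ f ∈ ℬ d := ψ.map_mem hf
  let ρ : R' →+* Γ(Proj ℬ, Proj.map ψ hψ ⁻¹ᵁ Proj.basicOpen 𝒜 f) := rho ℬ rB (ψ f)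
  letI : Module R' Q := Module.compHom Q ρ
  letI : Module R Q := Module.compHom Q (ρ.comp φ)
  haveI : IsScalarTower R R' Q := IsScalarTower.of_algebraMap_smul fun _ _ => rfl
  let gk : ℕ → A →ₗ[R] Q := fun k =>
    { toFun := fun a => g (q 𝒜 n hf k a)
      map_add' := fun a b => by rw [map_add, map_add]
      map_smul' := fun r a => by
        show g (q 𝒜 n hf k ((rA r : A) * a)) = ρ (φ r) • g (q 𝒜 n hf k a)
        rw [q_smul 𝒜 rA, hg, app_rho hψ h]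
        rfl }
  let Φ : ℕ → B →+ Q := fun k => (hbc.lift (gk k)).toAddMonoidHom
  have hΦb : ∀ k a, Φ k (ψ a) = g (q 𝒜 n hf k a) := fun k a => by
    show hbc.lift (gk k) (ψ a) = _
    rw [← hl, hbc.lift_eq]
    rfl
  have hΦr : ∀ k (r : R') (b : B), Φ k ((rB r : B) * b) = ρ r • Φ k b := fun k r b =>
    (hbc.lift (gk k)).map_smul r b
  have hsmul : ∀ (r : R') (b : B), r • b = (rB r : B) * b := fun r b => Algebra.smul_def r b
  have hshift : ∀ k m b, Φ (k + m) (ψ f ^ m * b) = Φ k b := fun k m b => by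
    refine hbc.inductionOn b (motive := fun b => Φ (k + m) (ψ f ^ m * b) = Φ k b)
      (by simp only [mul_zero, map_zero]) (fun a => ?_) (fun r x hx => ?_)
      (fun x y hx hy => by rw [mul_add, map_add, map_add, hx, hy])
    · rw [hl, ← map_pow, ← map_mul, hΦb, hΦb, q_shift]
    · rw [hsmul, mul_left_comm, hΦr, hΦr, hx]
  have hpd : ∀ k b, Φ k (pd ℬ (dg n d k) b) = Φ k b := fun k b => by
    refine hbc.inductionOn b (motive := fun b => Φ k (pd ℬ (dg n d k) b) = Φ k b)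
      (by simp only [map_zero]) (fun a => ?_) (fun r x hx => ?_)
      (fun x y hx hy => by simp only [map_add, hx, hy])
    · rw [hl, pd_map, hΦb, hΦb]
      congr 1
      exact GrModX.ext_val 𝒜 𝒜 fun y => by rw [val_q, val_q]; simp only [pd_of_deg 𝒜 (deg_pd 𝒜 (dg n d k) a)]
    · rw [hsmul, pd_smul ℬ rB, hΦr, hΦr, hx]
  let cW : ℕ → B →+ Γ(Proj ℬ, Proj.map ψ hψ ⁻¹ᵁ Proj.basicOpen 𝒜 f) := fun m => c ℬ hf' m
  have hmul : ∀ k m b' b, cW m b' • Φ k b = Φ (k + m) (GradedRing.proj ℬ (m • d) b' * b) := by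
    intro k m b' b
    refine hbc.inductionOn b' (motive := fun b' => cW m b' • Φ k b = Φ (k + m) (GradedRing.proj ℬ (m • d) b' * b))
      (by simp only [map_zero, zero_smul, zero_mul]) (fun a' => ?_) (fun r x hx => ?_)
      (fun x y hx hy => by simp only [map_add, add_smul, add_mul, hx, hy])
    · refine hbc.inductionOn b (motive := fun b => cW m (l a') • Φ k b = Φ (k + m) (GradedRing.proj ℬ (m • d) (l a') * b))
        (by simp only [map_zero, smul_zero, mul_zero]) (fun a => ?_) (fun r x hx => ?_)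
        (fun x y hx hy => by simp only [map_add, smul_add, mul_add, hx, hy])
      · rw [hl, hl, hΦb, ← Proj16.proj_map_commutes ψ, ← map_mul, hΦb, ← c_smul_q, hg]
        congr 1
        refine Eg2Gamma.oext ℬ fun y => ?_
        refine Eq.trans ?_ (oval_app hψ _ y).symm
        refine Eq.trans ?_ (congrArg (GrTwist.locMap ψ hψ y.1) (val_c 𝒜 hf m a' ⟨_, y.2⟩)).symm
        refine (val_c ℬ hf' m (ψ a') y).trans ?_
        rw [GrTwist.locMap_mk]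
        simp only [Proj16.proj_map_commutes, map_pow]
      · rw [hsmul, hΦr, smul_comm, hx, mul_left_comm, hΦr]
    · rw [hsmul, show cW m ((rB r : B) * x) = ρ r * cW m x from c_smul ℬ rB hf' m r x, mul_smul, hx]
      show ρ r • _ = _
      rw [← hΦr]
      congr 1
      rw [GradedRing.proj_apply, GradedRing.proj_apply,
        DirectSum.coe_decompose_mul_of_left_mem_of_le ℬ (rB r).2 (Nat.zero_le _), tsub_zero, mul_assoc]
  have hwd : ∀ k m b b', q ℬ n hf' k b = q ℬ n hf' m b' → Φ k b = Φ m b' := by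
    intro k m b b' heq
    rw [← q_shift ℬ n hf' k m, ← q_shift ℬ n hf' m k, add_comm m k, ← sub_eq_zero, ← map_sub] at heq
    obtain ⟨L, hL⟩ := GrModX.exists_pow_smul_eq_zero_of_mk (ℳ := ℬ) ℬ hd hf'
      (deg_pd ℬ (dg n d (k + m)) (ψ f ^ m * b - ψ f ^ k * b')) fun y hy => ⟨_, by
        have := (val_q ℬ n hf' (k + m) _ ⟨y, hy⟩).symm.trans (congrArg (fun s => GrMod.val s ⟨y, hy⟩) heq)
        exact this⟩
    have h0 : Φ (k + m) (ψ f ^ m * b - ψ f ^ k * b') = 0 := by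
      rw [← hpd, ← hshift (k + m) L, ← smul_eq_mul, hL, map_zero]
    rw [map_sub, hshift, add_comm k m, hshift, sub_eq_zero] at h0
    exact h0
  choose kk bb hkb using fun t : Γ(GrMod.tilde ℬ ℬ n, Proj.map ψ hψ ⁻¹ᵁ Proj.basicOpen 𝒜 f) =>
    exists_q_eq n hd hf' (show Γ(GrMod.tilde ℬ ℬ n, Proj.basicOpen ℬ (ψ f)) from t)
  have hG : ∀ (t : Γ(GrMod.tilde ℬ ℬ n, Proj.map ψ hψ ⁻¹ᵁ Proj.basicOpen 𝒜 f)) k b,
      q ℬ n hf' k b = t → Φ (kk t) (bb t) = Φ k b := fun t k b e => hwd _ _ _ _ ((hkb t).trans e.symm)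
  let G : Γ(GrMod.tilde ℬ ℬ n, Proj.map ψ hψ ⁻¹ᵁ Proj.basicOpen 𝒜 f) →+ Q :=
    AddMonoidHom.mk' (fun t => Φ (kk t) (bb t)) fun s t => by
      have e : q ℬ n hf' (kk s + kk t) (ψ f ^ kk t * bb s + ψ f ^ kk s * bb t) = s + t := by
        rw [map_add, q_shift, add_comm (kk s), q_shift, hkb, hkb]
      rw [hG _ _ _ e, map_add, hshift, add_comm (kk s), hshift]
  refine ⟨G, fun c' t => ?_, fun s => ?_⟩
  · obtain ⟨x, rfl⟩ := (ConcreteCategory.bijective_of_isIso (Proj.basicOpenIsoAway ℬ (ψ f) hf' hd).hom).2 c'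
    obtain ⟨m, b', hb', rfl⟩ := x.mk_surjective ℬ hf'
    rw [Proj.basicOpenIsoAway_hom, show (Proj.awayToSection ℬ (ψ f)) (Away.mk ℬ hf' m b' hb') = c ℬ hf' m b' from
      Eg2Gamma.oext ℬ fun y => by rw [val_c, GrModX.oval_awayToSection]; simp only [Proj16.proj_of_mem ℬ hb']]
    show Φ _ _ = cW m b' • Φ (kk t) (bb t)
    rw [hmul]
    refine hG _ _ _ ?_
    rw [← c_smul_q, hkb]
  · obtain ⟨k, a, rfl⟩ := exists_q_eq n hd hf s
    rw [comapSect_q hψ n hf k a]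
    exact (hG _ k (ψ a) rfl).trans (hΦb k a)

end Groth.Agent.EgaQ.BCTwist
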