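import Groth.Agent.EgaQ.DomMap

/-!
# One variable of degree one adjoined to a graded ring
-/

universe u

open SetLike AlgebraicGeometry HomogeneousLocalization CategoryTheory CategoryTheory.Limits
open scoped HomogeneousIdeal Polynomial

set_option backward.isDefEq.respectTransparency false

set_option linter.all false

namespace Groth.Agent.EgaQ

variable {A σ B τ : Type u} [CommRing A] [SetLike σ A] [AddSubgroupClass σ A]
variable [CommRing B] [SetLike τ B] [AddSubgroupClass τ B]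
variable {𝒜 : ℕ → σ} [GradedRing 𝒜] {ℬ : ℕ → τ} [GradedRing ℬ]

/-- `ℬ` is `𝒜[z]` with `z` of degree one. -/
structure IsPolyExt (ι : 𝒜 →+*ᵍ ℬ) (z : B) : Prop where
  mem : z ∈ ℬ 1
  bij : Function.Bijective (Polynomial.eval₂RingHom (ι.toRingHom : A →+* B) z)

namespace IsPolyExt

variable {ι : 𝒜 →+*ᵍ ℬ} {z : B} (h : IsPolyExt ι z)
include h

lemma induction {motive : B → Prop} (mono : ∀ (a : A) (j : ℕ), motive (ι a * z ^ j))
    (add : ∀ x y, motive x → motive y → motive (x + y)) (b : B) : motive b := by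
  obtain ⟨p, rfl⟩ := h.bij.2 b
  induction p using Polynomial.induction_on' with
  | add p q hp hq => rw [map_add]; exact add _ _ hp hq
  | monomial j a =>
    simp only [Polynomial.coe_eval₂RingHom, Polynomial.eval₂_monomial]
    exact mono a j

lemma proj_mono (n : ℕ) (a : A) (j : ℕ) :
    GradedRing.proj ℬ n (ι a * z ^ j) =
      if j ≤ n then ι (GradedRing.proj 𝒜 (n - j) a) * z ^ j else 0 := by
  have hzj : z ^ j ∈ ℬ j := by simpa using SetLike.pow_mem_graded j h.mem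
  rw [GradedRing.proj_apply]
  split_ifs with hj
  · rw [DirectSum.coe_decompose_mul_of_right_mem_of_le ℬ hzj hj, ← GradedRing.proj_apply,
      Proj16.proj_map_commutes]
  · exact DirectSum.coe_decompose_mul_of_right_mem_of_not_le ℬ hzj hj

/-- Homogeneous elements are homogeneous polynomials. -/
lemma exists_repr (b : B) (n : ℕ) :
    ∃ a : ℕ → A, (∀ j, a j ∈ 𝒜 (n - j)) ∧
      GradedRing.proj ℬ n b = ∑ j ∈ Finset.range (n + 1), ι (a j) * z ^ j := by
  refine h.induction (motive := fun b ↦ ∃ a : ℕ → A, (∀ j, a j ∈ 𝒜 (n - j)) ∧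
      GradedRing.proj ℬ n b = ∑ j ∈ Finset.range (n + 1), ι (a j) * z ^ j) (fun c i ↦ ?_)
    (fun x y hx hy ↦ ?_) b
  · refine ⟨fun j ↦ if j = i then GradedRing.proj 𝒜 (n - j) c else 0, fun j ↦ ?_, ?_⟩
    · dsimp only
      split_ifs
      · exact SetLike.coe_mem _
      · exact zero_mem _
    · simp only [apply_ite ι, map_zero, ite_mul, zero_mul, Finset.sum_ite_eq', Finset.mem_range]
      rw [h.proj_mono]
      simp only [Nat.lt_succ_iff]
  · obtain ⟨a, ha, ea⟩ := hx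
    obtain ⟨c, hc, ec⟩ := hy
    exact ⟨a + c, fun j ↦ add_mem (ha j) (hc j), by
      rw [map_add, ea, ec, ← Finset.sum_add_distrib]; simp [add_mul]⟩

lemma exists_repr_of_mem {b : B} {n : ℕ} (hb : b ∈ ℬ n) :
    ∃ a : ℕ → A, (∀ j, a j ∈ 𝒜 (n - j)) ∧ b = ∑ j ∈ Finset.range (n + 1), ι (a j) * z ^ j := by
  obtain ⟨a, ha, e⟩ := h.exists_repr b n
  exact ⟨a, ha, by rw [← e, Proj16.proj_of_mem ℬ hb]⟩

variable {e : B →+* A} (hι : ∀ a, e (ι a) = a)
include hι

lemma injOn_of_eval_one (he : e z = 1) {n : ℕ} {b : B} (hb : b ∈ ℬ n) (h0 : e b = 0) : b = 0 := by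
  obtain ⟨a, ha, rfl⟩ := h.exists_repr_of_mem hb
  simp only [map_sum, map_mul, hι, map_pow, he, one_pow, mul_one] at h0
  refine Finset.sum_eq_zero fun i hi ↦ ?_
  have key := congrArg (GradedRing.proj 𝒜 (n - i)) h0
  rw [map_sum, map_zero, Finset.sum_eq_single i (fun j hj hji ↦ ?_) (fun hni ↦ absurd hi hni),
    Proj16.proj_of_mem 𝒜 (ha i)] at key
  · rw [key, map_zero, zero_mul]
  · refine Proj16.proj_of_mem_ne 𝒜 (ha j) fun he' ↦ hji ?_
    simp only [Finset.mem_range] at hi hj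
    omega

lemma mem_of_eval_zero (he : e z = 0) {n : ℕ} {b : B} (hb : b ∈ ℬ n) : e b ∈ 𝒜 n := by
  obtain ⟨a, ha, rfl⟩ := h.exists_repr_of_mem hb
  simp only [map_sum, map_mul, hι, map_pow, he]
  rw [Finset.sum_eq_single 0 (fun j _ hj ↦ by rw [zero_pow hj, mul_zero])
    (fun h0 ↦ absurd (Finset.mem_range.mpr (Nat.succ_pos n)) h0), pow_zero, mul_one]
  exact ha 0

lemma sub_mem_span (he : e z = 0) (b : B) : b - ι (e b) ∈ Ideal.span {z} := by
  refine h.induction (motive := fun b ↦ b - ι (e b) ∈ Ideal.span {z}) (fun a j ↦ ?_)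
    (fun x y hx hy ↦ ?_) b
  · cases j with
    | zero => simp [hι]
    | succ j =>
      rw [map_mul, map_pow, he, zero_pow (Nat.succ_ne_zero j), mul_zero, map_zero, sub_zero, pow_succ,
        ← mul_assoc]
      exact Ideal.mul_mem_left _ _ (Ideal.subset_span rfl)
  · rw [map_add, map_add, add_sub_add_comm]
    exact Ideal.add_mem _ hx hy

omit hι in
/-- The irrelevant ideal is generated by the one of `𝒜` and `z`. -/
lemma irrelevant_le :
    (ℬ₊).toIdeal ≤ Ideal.span (ι '' ((𝒜₊).toIdeal : Set A) ∪ {z}) := by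
  intro b hb
  have key : b - GradedRing.proj ℬ 0 b ∈ Ideal.span (ι '' ((𝒜₊).toIdeal : Set A) ∪ {z}) := by
    refine h.induction (motive := fun b ↦ b - GradedRing.proj ℬ 0 b ∈
      Ideal.span (ι '' ((𝒜₊).toIdeal : Set A) ∪ {z})) (fun a j ↦ ?_) (fun x y hx hy ↦ ?_) b
    · rw [h.proj_mono]
      cases j with
      | zero =>
        rw [if_pos le_rfl, pow_zero, mul_one, mul_one, Nat.sub_zero, ← map_sub]
        refine Ideal.subset_span (Or.inl ⟨_, ?_, rfl⟩)
        show GradedRing.proj 𝒜 0 (a - GradedRing.proj 𝒜 0 a) = 0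
        rw [map_sub, Proj16.proj_of_mem 𝒜 (Proj16.proj_mem 𝒜 0 a), sub_self]
      | succ j =>
        rw [if_neg (Nat.not_succ_le_zero j), sub_zero, pow_succ, ← mul_assoc]
        exact Ideal.mul_mem_left _ _ (Ideal.subset_span (Or.inr rfl))
    · rw [map_add, add_sub_add_comm]
      exact Ideal.add_mem _ hx hy
  rwa [show GradedRing.proj ℬ 0 b = 0 from hb, sub_zero] at key

omit hι in
lemma not_mem_of_forall {x : Proj ℬ} (hx : ∀ a ∈ (𝒜₊).toIdeal, ι a ∈ x.asHomogeneousIdeal) :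
    z ∉ x.asHomogeneousIdeal := fun hzx ↦
  x.not_irrelevant_le (show (ℬ₊).toIdeal ≤ x.asHomogeneousIdeal.toIdeal from le_trans h.irrelevant_le (Ideal.span_le.mpr (Set.union_subset
    (Set.image_subset_iff.mpr hx) (Set.singleton_subset_iff.mpr hzx))))

omit hι in
/-- The image of `Proj` of the retraction `z ↦ 0` is `V₊(z)`. -/
lemma range_map (θ : ℬ →+*ᵍ 𝒜) (hθι : ∀ a, θ (ι a) = a) (hθz : θ z = 0) (hθ : 𝒜₊ ≤ (ℬ₊).map θ) :
    Set.range (Proj.map θ hθ) = ((Proj.basicOpen ℬ z : (Proj ℬ).Opens) : Set (Proj ℬ))ᶜ := by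
  ext x
  constructor
  · rintro ⟨y, rfl⟩ hzy
    exact hzy (show θ z ∈ y.asHomogeneousIdeal by rw [hθz]; exact zero_mem _)
  · intro hx
    have hzx : z ∈ x.asHomogeneousIdeal := not_not.mp hx
    have hiff : ∀ b, b ∈ x.asHomogeneousIdeal ↔ ι (θ b) ∈ x.asHomogeneousIdeal := fun b ↦ by
      have h1 : b - ι (θ b) ∈ x.asHomogeneousIdeal.toIdeal :=
        Ideal.span_le.mpr (Set.singleton_subset_iff.mpr hzx)
          (h.sub_mem_span (e := θ.toRingHom) hθι hθz b)
      exact ⟨fun hb ↦ by simpa using Ideal.sub_mem _ hb h1, fun hb ↦ by simpa using Ideal.add_mem _ h1 hb⟩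
    let q : HomogeneousIdeal 𝒜 := x.asHomogeneousIdeal.comap ι
    have hnirr : ¬ 𝒜₊ ≤ q := fun hle ↦ h.not_mem_of_forall (fun a ha ↦ hle ha) hzx
    refine ⟨(⟨q, x.isPrime.comap ι, hnirr⟩ : ProjectiveSpectrum 𝒜), ?_⟩
    apply ProjectiveSpectrum.ext
    apply SetLike.ext
    intro b
    exact (hiff b).symm

variable (he : e z = 1) {ρ : Away ℬ z →+* A}
  (hρ : ∀ (k : ℕ) (b : B) (hb : b ∈ ℬ (k • 1)), ρ (Away.mk ℬ h.mem k b hb) = e b)
include he hρ

lemma bijective_awayZero : Function.Bijective ρ := by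
  classical
  refine ⟨(injective_iff_map_eq_zero ρ).mpr fun x hx ↦ ?_, fun a ↦ ?_⟩
  · obtain ⟨k, b, hb, rfl⟩ := x.mk_surjective ℬ h.mem
    rw [hρ] at hx
    apply HomogeneousLocalization.val_injective
    rw [Away.val_mk, h.injOn_of_eval_one hι he hb hx, Localization.mk_zero,
      HomogeneousLocalization.val_zero]
  · rw [← DirectSum.sum_support_decompose 𝒜 a]
    suffices ∀ i, (DirectSum.decompose 𝒜 a i : A) ∈ ρ.range from
      (ρ.range).sum_mem fun i _ ↦ this i
    intro i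
    exact ⟨Away.mk ℬ h.mem i (ι (DirectSum.decompose 𝒜 a i : A))
      (by simpa using ι.map_mem (SetLike.coe_mem _)), by rw [hρ, hι]⟩

omit hι he in
lemma mem_awayι (w : Spec (CommRingCat.of A)) {k : ℕ} {b : B} (hb : b ∈ ℬ k) (hk : 0 < k) :
    b ∈ (Proj.awayι ℬ z h.mem one_pos (Spec.map (CommRingCat.ofHom ρ) w)).asHomogeneousIdeal ↔
      e b ∈ w.asIdeal := by
  have e1 := Proj.awayι_preimage_basicOpen ℬ h.mem one_pos hb hk
  have h2 : Proj.awayι ℬ z h.mem one_pos (Spec.map (CommRingCat.ofHom ρ) w) ∈ Proj.basicOpen ℬ b ↔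
      Away.isLocalizationElem h.mem hb ∉ (Spec.map (CommRingCat.ofHom ρ) w).asIdeal :=
    (SetLike.ext_iff.mp e1 (Spec.map (CommRingCat.ofHom ρ) w))
  have h3 : ρ (Away.isLocalizationElem h.mem hb) = e b := by
    rw [Away.isLocalizationElem, hρ, pow_one]
  have h4 : Away.isLocalizationElem h.mem hb ∈ (Spec.map (CommRingCat.ofHom ρ) w).asIdeal ↔
      e b ∈ w.asIdeal := by
    rw [← h3]; rfl
  rw [← h4]
  exact not_iff_not.mp h2

end IsPolyExt

end Groth.Agent.EgaQ
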