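import Groth.Agent.EgaQ.Rel2
import Groth.Agent.EgaQ.PolyExt
import Groth.Agent.ConeX.Vertex

/-!
# The projective cone over a general base
-/

universe u

open CategoryTheory CategoryTheory.Limits AlgebraicGeometry TopologicalSpace Opposite
open scoped HomogeneousIdeal

noncomputable section

set_option backward.isDefEq.respectTransparency false
set_option linter.all false

namespace Groth.Agent.EgaQ

variable {Y : Scheme.{u}} {𝒮 𝒮h : RelProj.QCGrAlg Y} {ι : 𝒮.toQCAlg ⟶ 𝒮h.toQCAlg}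
  {z : 𝒮h.presheaf.obj (op ⊤)} (hz : RelCone.IsPolyOver 𝒮 𝒮h ι z)
  {PC : Scheme.{u}} {pC : PC ⟶ Y}
  {chartC : ∀ (U : Y.Opens) (hU : IsAffineOpen U),
    (((pC ⁻¹ᵁ U : PC.Opens) : Scheme.{u}) ≅ Proj (𝒮h.deg U hU))}

lemma isPolyExt (U : Y.Opens) (hU : IsAffineOpen U) :
    IsPolyExt (RelProj.gradedHomAt ι hz.graded U hU) (RelCone.restrictTop 𝒮h z U) :=
  ⟨hz.deg_z U hU, hz.bij U hU⟩

lemma awayZToBase_mk (U : Y.Opens) (hU : IsAffineOpen U) (k : ℕ) (b : 𝒮h.presheaf.obj (op U))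
    (hb : b ∈ 𝒮h.deg U hU (k • 1)) :
    hz.awayZToBase U hU (HomogeneousLocalization.Away.mk _ (hz.deg_z U hU) k b hb) =
      hz.evalOne U hU b :=
  hz.awayZToBase_of_val U hU _ b k (HomogeneousLocalization.Away.val_mk ..)

lemma bijective_awayZToBase (U : Y.Opens) (hU : IsAffineOpen U) :
    Function.Bijective (hz.awayZToBase U hU) :=
  (isPolyExt hz U hU).bijective_awayZero (e := hz.evalOne U hU) (hz.evalOne_ι U hU)
    (hz.evalOne_z U hU) (awayZToBase_mk hz U hU)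

lemma theta_z {θ : 𝒮h.toQCAlg ⟶ 𝒮.toQCAlg} (hθz : (θ.hom.app (op ⊤)).hom z = 0) (U : Y.Opens) :
    (θ.hom.app (op U)).hom (RelCone.restrictTop 𝒮h z U) = 0 := by
  rw [← CommRingCat.comp_apply, θ.hom.naturality, CommRingCat.comp_apply, hθz, map_zero]

lemma theta_ι {θ : 𝒮h.toQCAlg ⟶ 𝒮.toQCAlg} (hιθ : ι ≫ θ = 𝟙 _) (U : Y.Opens)
    (a : 𝒮.presheaf.obj (op U)) :
    (θ.hom.app (op U)).hom ((ι.hom.app (op U)).hom a) = a :=
  congr(($(NatTrans.congr_app (congrArg RelSpec.QCAlg.Hom.hom hιθ) (op U))).hom a)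

lemma pointedProjCone_eq_domQ (hPC : RelProj.IsRelProj 𝒮h pC chartC) :
    RelCone.pointedProjCone 𝒮 hz pC chartC =
      RelProj.domQ (RelProj.QGrHom.ofHom ι hz.graded) pC chartC := by
  refine le_antisymm (iSup_le fun U ↦ ?_) fun x hx ↦ ?_
  · rw [← domQ_ofHom_inf ι hz.graded hPC U.1 U.2]
    exact inf_le_left
  · obtain ⟨_, ⟨U, hU, rfl⟩, hy, -⟩ := Y.isBasis_affineOpens.exists_subset_of_mem_open
      (Set.mem_univ (pC x)) isOpen_univ
    have : x ∈ RelProj.domQ (RelProj.QGrHom.ofHom ι hz.graded) pC chartC ⊓ pC ⁻¹ᵁ U := ⟨hx, hy⟩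
    rw [domQ_ofHom_inf ι hz.graded hPC U hU] at this
    exact Opens.mem_iSup.mpr ⟨⟨U, hU⟩, this⟩

lemma emb_mem_pointedProjCone (hPC : RelProj.IsRelProj 𝒮h pC chartC) (U : Y.Opens)
    (hU : IsAffineOpen U) (y : Proj (𝒮h.deg U hU)) :
    RelProj.emb pC chartC U hU y ∈ RelCone.pointedProjCone 𝒮 hz pC chartC ↔
      y ∈ RelCone.domOpen (RelProj.gradedHomAt ι hz.graded U hU) := by
  rw [pointedProjCone_eq_domQ hz hPC, ← uAt_ofHom ι hz.graded U hU]
  exact emb_mem_domQ_iff _ hPC (idPair U hU) y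

variable {i : 𝒮.toQCAlg.spec ⟶ PC} (hi : RelCone.IsConeImm 𝒮 hz pC chartC i)
include hi

lemma coneImm_comp (hPC : RelProj.IsRelProj 𝒮h pC chartC) : i ≫ pC = 𝒮.toQCAlg.π := by
  refine 𝒮.toQCAlg.glueData.cover.hom_ext _ _ fun U ↦ ?_
  show 𝒮.toQCAlg.ι U.1 U.2 ≫ i ≫ pC = 𝒮.toQCAlg.ι U.1 U.2 ≫ 𝒮.toQCAlg.π
  rw [reassoc_of% (hi U.1 U.2), 𝒮.toQCAlg.ι_π, emb_π hPC, Proj.awayι_toSpecZero_assoc,
    ← Spec.map_comp_assoc, ← Spec.map_comp_assoc]
  congr 2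
  ext r
  show hz.awayZToBase U.1 U.2 (HomogeneousLocalization.fromZeroRingHom _ _
    ((𝒮h.strZero U.1 U.2).hom r)) = _
  refine (hz.awayZToBase_of_val U.1 U.2 _ ((𝒮h.str.app (op U.1)).hom r) 0 ?_).trans ?_
  · exact congr_arg (Localization.mk _) (Subtype.ext (pow_zero _).symm)
  · rw [← show (ι.hom.app (op U.1)).hom ((𝒮.str.app (op U.1)).hom r) = (𝒮h.str.app (op U.1)).hom r
      from congr(($(NatTrans.congr_app ι.comm (op U.1))).hom r), hz.evalOne_ι]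

lemma emb_mem_range_coneImm (hPC : RelProj.IsRelProj 𝒮h pC chartC) (U : Y.Opens)
    (hU : IsAffineOpen U) (y : Proj (𝒮h.deg U hU)) :
    RelProj.emb pC chartC U hU y ∈ Set.range i.base ↔
      y ∈ Proj.basicOpen (𝒮h.deg U hU) (RelCone.restrictTop 𝒮h z U) := by
  rw [← Proj.opensRange_awayι _ _ (hz.deg_z U hU) one_pos]
  constructor
  · rintro ⟨c, hc⟩
    have hcU : 𝒮.toQCAlg.π c ∈ U := by
      rw [← coneImm_comp hz hi hPC, Scheme.Hom.comp_apply, hc]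
      exact π_emb_mem U hU y
    obtain ⟨w, rfl⟩ := (𝒮.toQCAlg.π_preimage U hU).le hcU
    rw [← Scheme.Hom.comp_apply, hi U hU] at hc
    exact ⟨_, (RelProj.emb pC chartC U hU).isOpenEmbedding.injective hc⟩
  · rintro ⟨s, rfl⟩
    have : IsIso (CommRingCat.ofHom (hz.awayZToBase U hU)) :=
      (ConcreteCategory.isIso_iff_bijective _).mpr (bijective_awayZToBase hz U hU)
    obtain ⟨w, rfl⟩ := (ConcreteCategory.bijective_of_isIso
      (Spec.map (CommRingCat.ofHom (hz.awayZToBase U hU))).base).2 s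
    exact ⟨𝒮.toQCAlg.ι U hU w, by rw [← Scheme.Hom.comp_apply, hi U hU]; rfl⟩

lemma coneImm_mem_pointedProjCone (hPC : RelProj.IsRelProj 𝒮h pC chartC) (U : Y.Opens)
    (hU : IsAffineOpen U) (w : Spec (𝒮.presheaf.obj (op U))) :
    i (𝒮.toQCAlg.ι U hU w) ∈ RelCone.pointedProjCone 𝒮 hz pC chartC ↔
      w ∈ RelCone.vertexCompl (𝒮.deg U hU) := by
  classical
  rw [← Scheme.Hom.comp_apply, hi U hU, Scheme.Hom.comp_apply, Scheme.Hom.comp_apply,
    emb_mem_pointedProjCone hz hPC, mem_domOpen_iff_exists, ConeX.mem_vertexCompl]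
  have hmem : ∀ (d : ℕ) (a : 𝒮.presheaf.obj (op U)), 0 < d → a ∈ 𝒮.deg U hU d →
      (RelProj.gradedHomAt ι hz.graded U hU a ∈ (Proj.awayι (𝒮h.deg U hU) _ (hz.deg_z U hU) one_pos
        (Spec.map (CommRingCat.ofHom (hz.awayZToBase U hU)) w)).asHomogeneousIdeal ↔ a ∈ w.asIdeal) := by
    intro d a hd ha
    refine ((isPolyExt hz U hU).mem_awayι (e := hz.evalOne U hU) (awayZToBase_mk hz U hU) w
      ((RelProj.gradedHomAt ι hz.graded U hU).map_mem ha) hd).trans ?_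
    show hz.evalOne U hU ((ι.hom.app (op U)).hom a) ∈ _ ↔ _
    rw [hz.evalOne_ι]
  constructor
  · rintro ⟨d, a, hd, ha, hax⟩
    exact ⟨a, HomogeneousIdeal.mem_irrelevant_of_mem _ hd ha, fun h ↦ hax ((hmem d a hd ha).mpr h)⟩
  · rintro ⟨a, ha, haw⟩
    by_contra hne
    refine haw ?_
    have h1 : ((𝒮.deg U hU)₊).toIdeal ≤ w.asIdeal := by
      rw [HomogeneousIdeal.irrelevant_eq_span, Ideal.span_le]
      simp only [Set.iUnion_subset_iff]
      intro d hd b hb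
      by_contra hbw
      exact hne ⟨d, b, hd, hb, fun h ↦ hbw ((hmem d b hd hb).mp h)⟩
    exact h1 ha

end Groth.Agent.EgaQ
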