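import Groth.Agent.EgaQ.DomMap

/-!
# Composition of the partially defined morphisms
-/

universe u

open SetLike AlgebraicGeometry HomogeneousLocalization CategoryTheory CategoryTheory.Limits
open scoped HomogeneousIdeal

set_option backward.isDefEq.respectTransparency false
set_option linter.all false

namespace Groth.Agent.EgaQ

variable {A σ B τ C υ : Type u} [CommRing A] [SetLike σ A] [AddSubgroupClass σ A]
variable [CommRing B] [SetLike τ B] [AddSubgroupClass τ B]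
variable [CommRing C] [SetLike υ C] [AddSubgroupClass υ C]
variable {𝒜 : ℕ → σ} [GradedRing 𝒜] {ℬ : ℕ → τ} [GradedRing ℬ] {𝒞 : ℕ → υ} [GradedRing 𝒞]
variable (ψ : 𝒜 →+*ᵍ ℬ) (χ : ℬ →+*ᵍ 𝒞)

lemma domOpen_comp_le : RelCone.domOpen (χ.comp ψ) ≤ RelCone.domOpen χ := fun x hx ↦ by
  obtain ⟨d, f, hd, hf, hfx⟩ := exists_mem_of_mem_domOpen _ hx
  exact basicOpen_le_domOpen χ (ψ.map_mem hf) hd hfx

lemma mem_domOpen_comp' (x : (RelCone.domOpen χ : (Proj 𝒞).Opens).toScheme) :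
    (RelCone.domOpen χ).ι x ∈ RelCone.domOpen (χ.comp ψ) ↔ domMap χ x ∈ RelCone.domOpen ψ := by
  simp only [mem_domOpen_iff_exists]
  refine exists_congr fun d ↦ exists_congr fun f ↦ and_congr_right fun hd ↦ and_congr_right fun hf ↦ ?_
  exact (SetLike.ext_iff.mp (domMap_preimage_basicOpen χ (ψ.map_mem hf) hd) x).symm

/-- The morphism of the composite factors through both. -/
lemma exists_domMap_comp :
    ∃ (l : (RelCone.domOpen (χ.comp ψ) : (Proj 𝒞).Opens).toScheme ⟶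
        (RelCone.domOpen χ : (Proj 𝒞).Opens).toScheme)
      (m : (RelCone.domOpen (χ.comp ψ) : (Proj 𝒞).Opens).toScheme ⟶
        (RelCone.domOpen ψ : (Proj ℬ).Opens).toScheme),
      l ≫ (RelCone.domOpen χ).ι = (RelCone.domOpen (χ.comp ψ)).ι ∧
      m ≫ (RelCone.domOpen ψ).ι = l ≫ domMap χ ∧
      m ≫ domMap ψ = domMap (χ.comp ψ) := by
  let l := (Proj 𝒞).homOfLE (domOpen_comp_le ψ χ)
  have hl : l ≫ (RelCone.domOpen χ).ι = (RelCone.domOpen (χ.comp ψ)).ι := Scheme.homOfLE_ι _ _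
  let m := IsOpenImmersion.lift (RelCone.domOpen ψ).ι (l ≫ domMap χ) (by
    rw [Scheme.Opens.range_ι]
    rintro _ ⟨y, rfl⟩
    refine (mem_domOpen_comp' ψ χ (l y)).mp ?_
    rw [← Scheme.Hom.comp_apply, hl]
    exact y.2)
  have hm : m ≫ (RelCone.domOpen ψ).ι = l ≫ domMap χ := IsOpenImmersion.lift_fac _ _ _
  refine ⟨l, m, hl, hm, dom_hom_ext (χ.comp ψ) fun {d f} hf hd ↦ ?_⟩
  have e : awayDom (χ.comp ψ) hf hd ≫ l = awayDom χ (ψ.map_mem hf) hd := by
    rw [← cancel_mono (RelCone.domOpen χ).ι, Category.assoc, hl, awayDom_ι, awayDom_ι]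
    rfl
  have e2 : awayDom (χ.comp ψ) hf hd ≫ m =
      Spec.map (CommRingCat.ofHom (Away.map χ (ψ f))) ≫ awayDom ψ hf hd := by
    rw [← cancel_mono (RelCone.domOpen ψ).ι, Category.assoc, hm, reassoc_of% e, awayDom_domMap,
      Category.assoc, awayDom_ι]
    rfl
  rw [reassoc_of% e2, awayDom_domMap, awayDom_domMap, ← Spec.map_comp_assoc, awayMap_comp ψ χ hf]
  rfl

end Groth.Agent.EgaQ
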