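import Groth.Agent.EgaQ.Rel2
import Groth.Agent.EgaQ.DomComp

/-!
# Composition of `Proj(u)`
-/

universe u

open CategoryTheory CategoryTheory.Limits AlgebraicGeometry TopologicalSpace Opposite
open scoped HomogeneousIdeal

noncomputable section

set_option backward.isDefEq.respectTransparency false
set_option linter.all false

namespace Groth.Agent.EgaQ

section ops

variable {S S' : Scheme.{u}} {g : S' ⟶ S}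

/-- A graded `g`-morphism preceded by a graded homomorphism. -/
def preHom {𝒯 𝒮 : RelProj.QCGrAlg S} {𝒮' : RelProj.QCGrAlg S'} (φ : 𝒯.toQCAlg ⟶ 𝒮.toQCAlg)
    (hφ : RelProj.IsGradedHom φ) (u : RelProj.QGrHom g 𝒮 𝒮') : RelProj.QGrHom g 𝒯 𝒮' where
  app U := φ.hom.app (op U) ≫ u.app U
  naturality i := by
    rw [Category.assoc, u.naturality i, ← Category.assoc, ← φ.hom.naturality, Category.assoc]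
  str_app U := by
    rw [← Category.assoc, ← NatTrans.comp_app, φ.comm, u.str_app]
  map_mem U hU U' hU' hle _ x hx := u.map_mem U hU U' hU' hle (hφ U hU _ x hx)

/-- A graded `g`-morphism followed by a graded homomorphism. -/
def postHom {𝒮 : RelProj.QCGrAlg S} {𝒮' ℬ : RelProj.QCGrAlg S'} (u : RelProj.QGrHom g 𝒮 𝒮')
    (φ : 𝒮'.toQCAlg ⟶ ℬ.toQCAlg) (hφ : RelProj.IsGradedHom φ) : RelProj.QGrHom g 𝒮 ℬ where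
  app U := u.app U ≫ φ.hom.app (op (g ⁻¹ᵁ U))
  naturality i := by
    rw [Category.assoc, ← φ.hom.naturality, ← Category.assoc, u.naturality i, Category.assoc]
  str_app U := by
    rw [← Category.assoc, u.str_app, Category.assoc, ← NatTrans.comp_app, φ.comm]
  map_mem U hU U' hU' hle d x hx := by
    have e : u.app U ≫ φ.hom.app (op (g ⁻¹ᵁ U)) ≫ ℬ.presheaf.map (homOfLE hle).op =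
        u.appLE U U' hle ≫ φ.hom.app (op U') := by
      rw [RelSpec.QHom.appLE, Category.assoc, φ.hom.naturality]
    have h2 := hφ U' hU' d _ (u.map_mem U hU U' hU' hle hx)
    exact (congr($(e).hom x)) ▸ h2

lemma preHom_appLE {𝒯 𝒮 : RelProj.QCGrAlg S} {𝒮' : RelProj.QCGrAlg S'} (φ : 𝒯.toQCAlg ⟶ 𝒮.toQCAlg)
    (hφ : RelProj.IsGradedHom φ) (u : RelProj.QGrHom g 𝒮 𝒮') (U₀ U₁ : S.Opens) (U₂ : S'.Opens)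
    (h₁ : U₁ ≤ U₀) (h₂ : U₂ ≤ g ⁻¹ᵁ U₁) :
    (preHom φ hφ u).appLE U₀ U₂ (h₂.trans (g.preimage_mono h₁)) =
      (RelProj.QGrHom.ofHom φ hφ).appLE U₀ U₁ h₁ ≫ u.appLE U₁ U₂ h₂ := by
  show (φ.hom.app (op U₀) ≫ u.app U₀) ≫ _ =
    (φ.hom.app (op U₀) ≫ 𝒮.presheaf.map (homOfLE h₁).op) ≫ _
  rw [Category.assoc, Category.assoc, u.map_appLE h₁ h₂]
  rfl

lemma postHom_appLE {𝒮 : RelProj.QCGrAlg S} {𝒮' ℬ : RelProj.QCGrAlg S'} (u : RelProj.QGrHom g 𝒮 𝒮')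
    (φ : 𝒮'.toQCAlg ⟶ ℬ.toQCAlg) (hφ : RelProj.IsGradedHom φ) (U₀ : S.Opens) (U₁ U₂ : S'.Opens)
    (h₁ : U₁ ≤ g ⁻¹ᵁ U₀) (h₂ : U₂ ≤ U₁) :
    (postHom u φ hφ).appLE U₀ U₂ (h₂.trans h₁) =
      u.appLE U₀ U₁ h₁ ≫ (RelProj.QGrHom.ofHom φ hφ).appLE U₁ U₂ h₂ := by
  show (u.app U₀ ≫ φ.hom.app _) ≫ _ = _ ≫ (φ.hom.app (op U₁) ≫ ℬ.presheaf.map (homOfLE h₂).op)
  rw [RelSpec.QHom.appLE, Category.assoc, Category.assoc, φ.hom.naturality_assoc, ← Functor.map_comp]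
  rfl

lemma qgrHom_ext {𝒮 : RelProj.QCGrAlg S} {𝒮' : RelProj.QCGrAlg S'} {u v : RelProj.QGrHom g 𝒮 𝒮'}
    (h : ∀ U, u.app U = v.app U) : u = v := by
  obtain ⟨⟨a, _, _⟩, _⟩ := u
  obtain ⟨⟨b, _, _⟩, _⟩ := v
  obtain rfl : a = b := funext h
  rfl

end ops

variable {S₀ S₁ S₂ : Scheme.{u}} {g₁ : S₁ ⟶ S₀} {g₂ : S₂ ⟶ S₁} {g₃ : S₂ ⟶ S₀}
  {𝒮₀ : RelProj.QCGrAlg S₀} {𝒮₁ : RelProj.QCGrAlg S₁} {𝒮₂ : RelProj.QCGrAlg S₂}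

/-- `u₃` is the composite of `u₁` and `u₂`. -/
def IsQComp (u₁ : RelProj.QGrHom g₁ 𝒮₀ 𝒮₁) (u₂ : RelProj.QGrHom g₂ 𝒮₁ 𝒮₂)
    (u₃ : RelProj.QGrHom g₃ 𝒮₀ 𝒮₂) : Prop :=
  g₃ = g₂ ≫ g₁ ∧ ∀ (U₀ : S₀.Opens) (U₁ : S₁.Opens) (U₂ : S₂.Opens), IsAffineOpen U₀ →
    IsAffineOpen U₁ → IsAffineOpen U₂ → ∀ (h₁ : U₁ ≤ g₁ ⁻¹ᵁ U₀)
    (h₂ : U₂ ≤ g₂ ⁻¹ᵁ U₁) (h₃ : U₂ ≤ g₃ ⁻¹ᵁ U₀),
    u₃.appLE U₀ U₂ h₃ = u₁.appLE U₀ U₁ h₁ ≫ u₂.appLE U₁ U₂ h₂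

lemma isQComp_preHom {S S' : Scheme.{u}} {g : S' ⟶ S} {𝒯 𝒮 : RelProj.QCGrAlg S}
    {𝒮' : RelProj.QCGrAlg S'} (φ : 𝒯.toQCAlg ⟶ 𝒮.toQCAlg)
    (hφ : RelProj.IsGradedHom φ) (u : RelProj.QGrHom g 𝒮 𝒮') :
    IsQComp (RelProj.QGrHom.ofHom φ hφ) u (preHom φ hφ u) :=
  ⟨(Category.comp_id g).symm, fun U₀ U₁ U₂ _ _ _ h₁ h₂ _ ↦ preHom_appLE φ hφ u U₀ U₁ U₂ h₁ h₂⟩

lemma isQComp_postHom {S S' : Scheme.{u}} {g : S' ⟶ S} {𝒮 : RelProj.QCGrAlg S}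
    {𝒮' ℬ : RelProj.QCGrAlg S'} (u : RelProj.QGrHom g 𝒮 𝒮') (φ : 𝒮'.toQCAlg ⟶ ℬ.toQCAlg)
    (hφ : RelProj.IsGradedHom φ) :
    IsQComp u (RelProj.QGrHom.ofHom φ hφ) (postHom u φ hφ) :=
  ⟨(Category.id_comp g).symm, fun U₀ U₁ U₂ _ _ _ h₁ h₂ _ ↦ postHom_appLE u φ hφ U₀ U₁ U₂ h₁ h₂⟩

variable {u₁ : RelProj.QGrHom g₁ 𝒮₀ 𝒮₁} {u₂ : RelProj.QGrHom g₂ 𝒮₁ 𝒮₂}
  {u₃ : RelProj.QGrHom g₃ 𝒮₀ 𝒮₂}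

/-- Three affine opens adapted to a composite. -/
structure Triple (g₁ : S₁ ⟶ S₀) (g₂ : S₂ ⟶ S₁) (g₃ : S₂ ⟶ S₀) where
  π₁ : APair g₁
  π₂ : APair g₂
  π₃ : APair g₃
  e₀ : π₃.U = π₁.U
  e₁ : π₂.U = π₁.U'
  e₂ : π₃.U' = π₂.U'

lemma exists_triple (h : IsQComp u₁ u₂ u₃) (y : S₂) :
    ∃ (U₀ : S₀.Opens) (U₁ : S₁.Opens) (U₂ : S₂.Opens) (_ : IsAffineOpen U₀) (_ : IsAffineOpen U₁)
      (_ : IsAffineOpen U₂) (_ : U₁ ≤ g₁ ⁻¹ᵁ U₀) (_ : U₂ ≤ g₂ ⁻¹ᵁ U₁) (_ : U₂ ≤ g₃ ⁻¹ᵁ U₀),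
      y ∈ U₂ := by
  obtain ⟨_, ⟨U, hU, rfl⟩, hy, -⟩ := S₀.isBasis_affineOpens.exists_subset_of_mem_open
    (Set.mem_univ (g₁ (g₂ y))) isOpen_univ
  obtain ⟨_, ⟨U', hU', rfl⟩, hy', hle⟩ := S₁.isBasis_affineOpens.exists_subset_of_mem_open
    (show g₂ y ∈ ((g₁ ⁻¹ᵁ U : S₁.Opens) : Set S₁) from hy) (g₁ ⁻¹ᵁ U).isOpen
  obtain ⟨_, ⟨U'', hU'', rfl⟩, hy'', hle'⟩ := S₂.isBasis_affineOpens.exists_subset_of_mem_open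
    (show y ∈ ((g₂ ⁻¹ᵁ U' : S₂.Opens) : Set S₂) from hy') (g₂ ⁻¹ᵁ U').isOpen
  refine ⟨U, U', U'', hU, hU', hU'', hle, hle', ?_, hy''⟩
  rw [h.1]
  exact fun x hx ↦ hle (hle' hx)

lemma IsQComp.uAt_eq (h : IsQComp u₁ u₂ u₃) {U₀ : S₀.Opens} {U₁ : S₁.Opens} {U₂ : S₂.Opens}
    (hU₀ : IsAffineOpen U₀) (hU₁ : IsAffineOpen U₁) (hU₂ : IsAffineOpen U₂)
    (h₁ : U₁ ≤ g₁ ⁻¹ᵁ U₀) (h₂ : U₂ ≤ g₂ ⁻¹ᵁ U₁) (h₃ : U₂ ≤ g₃ ⁻¹ᵁ U₀) :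
    uAt u₃ ⟨U₀, hU₀, U₂, hU₂, h₃⟩ =
      (uAt u₂ ⟨U₁, hU₁, U₂, hU₂, h₂⟩).comp (uAt u₁ ⟨U₀, hU₀, U₁, hU₁, h₁⟩) := by
  ext x
  exact congr(($(h.2 U₀ U₁ U₂ hU₀ hU₁ hU₂ h₁ h₂ h₃)).hom x)

variable {P₀ : Scheme.{u}} {p₀ : P₀ ⟶ S₀}
  {c₀ : ∀ (U : S₀.Opens) (hU : IsAffineOpen U),
    (((p₀ ⁻¹ᵁ U : P₀.Opens) : Scheme.{u}) ≅ Proj (𝒮₀.deg U hU))}
  {P₁ : Scheme.{u}} {p₁ : P₁ ⟶ S₁}
  {c₁ : ∀ (U : S₁.Opens) (hU : IsAffineOpen U),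
    (((p₁ ⁻¹ᵁ U : P₁.Opens) : Scheme.{u}) ≅ Proj (𝒮₁.deg U hU))}
  {P₂ : Scheme.{u}} {p₂ : P₂ ⟶ S₂}
  {c₂ : ∀ (U : S₂.Opens) (hU : IsAffineOpen U),
    (((p₂ ⁻¹ᵁ U : P₂.Opens) : Scheme.{u}) ≅ Proj (𝒮₂.deg U hU))}
  (hc₁ : RelProj.IsRelProj 𝒮₁ p₁ c₁) (hc₂ : RelProj.IsRelProj 𝒮₂ p₂ c₂)
  (h : IsQComp u₁ u₂ u₃)
  {v₂ : (RelProj.domQ u₂ p₂ c₂ : P₂.Opens).toScheme ⟶ P₁}
  (hv₂ : RelProj.IsProjQMapOn u₂ p₁ c₁ p₂ c₂ (RelProj.domQ u₂ p₂ c₂) v₂)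

include hc₁ hc₂ h hv₂

/-- `G(u₃)` consists of the points of `G(u₂)` whose image lies in `G(u₁)`. -/
lemma mem_domQ_comp (x : P₂) : x ∈ RelProj.domQ u₃ p₂ c₂ ↔
    ∃ hx : x ∈ RelProj.domQ u₂ p₂ c₂, v₂ ⟨x, hx⟩ ∈ RelProj.domQ u₁ p₁ c₁ := by
  obtain ⟨U₀, U₁, U₂, hU₀, hU₁, hU₂, h₁, h₂, h₃, hy⟩ := exists_triple h (p₂ x)
  obtain ⟨t, rfl⟩ := mem_range_emb (p := p₂) (chart := c₂) U₂ hU₂ x hy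
  let π₁ : APair g₁ := ⟨U₀, hU₀, U₁, hU₁, h₁⟩
  let π₂ : APair g₂ := ⟨U₁, hU₁, U₂, hU₂, h₂⟩
  have e3 : RelProj.emb p₂ c₂ U₂ hU₂ t ∈ RelProj.domQ u₃ p₂ c₂ ↔
      t ∈ RelCone.domOpen ((uAt u₂ π₂).comp (uAt u₁ π₁)) := by
    rw [← h.uAt_eq hU₀ hU₁ hU₂ h₁ h₂ h₃]
    exact emb_mem_domQ_iff u₃ hc₂ ⟨U₀, hU₀, U₂, hU₂, h₃⟩ t
  have hv : ∀ ht : t ∈ RelCone.domOpen (uAt u₂ π₂),
      ∀ hx : RelProj.emb p₂ c₂ U₂ hU₂ t ∈ RelProj.domQ u₂ p₂ c₂,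
      v₂ ⟨RelProj.emb p₂ c₂ U₂ hU₂ t, hx⟩ =
        RelProj.emb p₁ c₁ U₁ hU₁ (domMap (uAt u₂ π₂) ⟨t, ht⟩) := by
    intro ht hx
    have e : domι u₂ (p' := p₂) (chart' := c₂) π₂ ⟨t, ht⟩ = ⟨RelProj.emb p₂ c₂ U₂ hU₂ t, hx⟩ := by
      apply (RelProj.domQ u₂ p₂ c₂).ι.isOpenEmbedding.injective
      rw [← Scheme.Hom.comp_apply, domι_ι]
      rfl
    rw [← e, ← Scheme.Hom.comp_apply, (isProjQMapOn_iff v₂).mp hv₂ π₂]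
    rfl
  rw [e3]
  constructor
  · intro ht
    have ht₂ := domOpen_comp_le _ _ ht
    refine ⟨emb_mem_domQ u₂ π₂ ht₂, ?_⟩
    rw [hv ht₂]
    exact emb_mem_domQ u₁ π₁ ((mem_domOpen_comp' _ _ ⟨t, ht₂⟩).mp ht)
  · rintro ⟨hx, hx'⟩
    have ht₂ := (emb_mem_domQ_iff u₂ hc₂ π₂ t).mp hx
    rw [hv ht₂] at hx'
    exact (mem_domOpen_comp' _ _ ⟨t, ht₂⟩).mpr ((emb_mem_domQ_iff u₁ hc₁ π₁ _).mp hx')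

/-- `Proj` of a composite is the composite. -/
theorem projQMapOn_functorial
    {v₁ : (RelProj.domQ u₁ p₁ c₁ : P₁.Opens).toScheme ⟶ P₀}
    (hv₁ : RelProj.IsProjQMapOn u₁ p₀ c₀ p₁ c₁ (RelProj.domQ u₁ p₁ c₁) v₁)
    {v₃ : (RelProj.domQ u₃ p₂ c₂ : P₂.Opens).toScheme ⟶ P₀}
    (hv₃ : RelProj.IsProjQMapOn u₃ p₀ c₀ p₂ c₂ (RelProj.domQ u₃ p₂ c₂) v₃)
    {T : Scheme.{u}} (a : T ⟶ (RelProj.domQ u₃ p₂ c₂ : P₂.Opens).toScheme)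
    (b : T ⟶ (RelProj.domQ u₂ p₂ c₂ : P₂.Opens).toScheme)
    (c : T ⟶ (RelProj.domQ u₁ p₁ c₁ : P₁.Opens).toScheme)
    (hab : a ≫ (RelProj.domQ u₃ p₂ c₂).ι = b ≫ (RelProj.domQ u₂ p₂ c₂).ι)
    (hbc : b ≫ v₂ = c ≫ (RelProj.domQ u₁ p₁ c₁).ι) : a ≫ v₃ = c ≫ v₁ := by
  refine Scheme.hom_ext_of_forall _ _ fun t₀ ↦ ?_
  obtain ⟨U₀, U₁, U₂, hU₀, hU₁, hU₂, h₁, h₂, h₃, hy⟩ :=
    exists_triple h (p₂ ((RelProj.domQ u₃ p₂ c₂).ι (a t₀)))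
  let π₁ : APair g₁ := ⟨U₀, hU₀, U₁, hU₁, h₁⟩
  let π₂ : APair g₂ := ⟨U₁, hU₁, U₂, hU₂, h₂⟩
  let π₃ : APair g₃ := ⟨U₀, hU₀, U₂, hU₂, h₃⟩
  refine ⟨a ⁻¹ᵁ (domι u₃ (p' := p₂) (chart' := c₂) π₃).opensRange, ?_, ?_⟩
  · show a t₀ ∈ (domι u₃ (p' := p₂) (chart' := c₂) π₃).opensRange
    rw [opensRange_domι hc₂]
    exact hy
  set W := a ⁻¹ᵁ (domι u₃ (p' := p₂) (chart' := c₂) π₃).opensRange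
  let n := IsOpenImmersion.lift (domι u₃ (p' := p₂) (chart' := c₂) π₃) (W.ι ≫ a) (by
    rintro _ ⟨w, rfl⟩; exact w.2)
  have hn : n ≫ domι u₃ π₃ = W.ι ≫ a := IsOpenImmersion.lift_fac _ _ _
  have e := h.uAt_eq hU₀ hU₁ hU₂ h₁ h₂ h₃
  obtain ⟨l, m, hl, hm, hlm⟩ := exists_domMap_comp (uAt u₁ π₁) (uAt u₂ π₂)
  let q := ((Proj (𝒮₂.deg U₂ hU₂)).isoOfEq (congrArg RelCone.domOpen e)).hom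
  have hq : q ≫ (RelCone.domOpen ((uAt u₂ π₂).comp (uAt u₁ π₁))).ι =
      (RelCone.domOpen (uAt u₃ π₃)).ι := Scheme.isoOfEq_hom_ι _ _
  have h3' : domMap (uAt u₃ π₃) = q ≫ domMap ((uAt u₂ π₂).comp (uAt u₁ π₁)) := by
    have := domMap_congr (uAt u₃ π₃) e (𝟙 _) q (by rw [hq]; exact Category.id_comp _)
    rwa [Category.id_comp] at this
  have hb : W.ι ≫ b = n ≫ q ≫ l ≫ domι u₂ π₂ := by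
    rw [← cancel_mono (RelProj.domQ u₂ p₂ c₂).ι, Category.assoc, ← hab, ← Category.assoc, ← hn]
    simp only [Category.assoc, domι_ι]
    rw [reassoc_of% hl, reassoc_of% hq]
  have hc : W.ι ≫ c = n ≫ q ≫ m ≫ domι u₁ π₁ := by
    rw [← cancel_mono (RelProj.domQ u₁ p₁ c₁).ι, Category.assoc, ← hbc, reassoc_of% hb,
      (isProjQMapOn_iff v₂).mp hv₂ π₂]
    simp only [Category.assoc, domι_ι, locMap]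
    rw [reassoc_of% hm]
  rw [← Category.assoc, ← hn, Category.assoc, (isProjQMapOn_iff v₃).mp hv₃ π₃, reassoc_of% hc,
    (isProjQMapOn_iff v₁).mp hv₁ π₁, locMap, locMap, h3']
  simp only [Category.assoc]
  rw [reassoc_of% hlm]

end Groth.Agent.EgaQ
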