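import Groth.Agent.EgaQ.ConeP
import Groth.Agent.EgaQ.RelComp

/-!
# Functoriality of projective cones
-/

universe u

open CategoryTheory CategoryTheory.Limits AlgebraicGeometry TopologicalSpace Opposite
open scoped HomogeneousIdeal

noncomputable section

set_option backward.isDefEq.respectTransparency false
set_option linter.all false

namespace Groth.Agent.EgaQ

variable {Y Y' : Scheme.{u}} {q : Y' ⟶ Y} {𝒮 𝒮h : RelProj.QCGrAlg Y} {𝒮' 𝒮h' : RelProj.QCGrAlg Y'}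
  {u : RelProj.QGrHom q 𝒮 𝒮'} {uh : RelProj.QGrHom q 𝒮h 𝒮h'}
  {ι : 𝒮.toQCAlg ⟶ 𝒮h.toQCAlg} {z : 𝒮h.presheaf.obj (op ⊤)}
  {ι' : 𝒮'.toQCAlg ⟶ 𝒮h'.toQCAlg} {z' : 𝒮h'.presheaf.obj (op ⊤)}

lemma uh_z (huhz : (uh.app ⊤).hom z = RelCone.restrictTop 𝒮h' z' (q ⁻¹ᵁ ⊤))
    (U : Y.Opens) (U' : Y'.Opens) (hle : U' ≤ q ⁻¹ᵁ U) :
    (uh.appLE U U' hle).hom (RelCone.restrictTop 𝒮h z U) = RelCone.restrictTop 𝒮h' z' U' := by
  show ((𝒮h.presheaf.map (homOfLE le_top).op) ≫ uh.appLE U U' hle).hom z = _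
  rw [uh.map_appLE le_top hle, RelSpec.QHom.appLE, CommRingCat.comp_apply, huhz,
    ← CommRingCat.comp_apply, ← Functor.map_comp]
  rfl

lemma uh_ι (huh : ∀ U : Y.Opens, ι.hom.app (op U) ≫ uh.app U = u.app U ≫ ι'.hom.app (op (q ⁻¹ᵁ U)))
    (U : Y.Opens) (U' : Y'.Opens) (hle : U' ≤ q ⁻¹ᵁ U) :
    ι.hom.app (op U) ≫ uh.appLE U U' hle = u.appLE U U' hle ≫ ι'.hom.app (op U') := by
  rw [RelSpec.QHom.appLE, RelSpec.QHom.appLE, ← Category.assoc, huh, Category.assoc, Category.assoc,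
    ← ι'.hom.naturality]

lemma preHom_eq_postHom (hι : RelProj.IsGradedHom ι) (hι' : RelProj.IsGradedHom ι')
    (huh : ∀ U : Y.Opens, ι.hom.app (op U) ≫ uh.app U = u.app U ≫ ι'.hom.app (op (q ⁻¹ᵁ U))) :
    preHom ι hι uh = postHom u ι' hι' :=
  qgrHom_ext huh

lemma theta_comm (hz : RelCone.IsPolyOver 𝒮 𝒮h ι z)
    (huh : ∀ U : Y.Opens, ι.hom.app (op U) ≫ uh.app U = u.app U ≫ ι'.hom.app (op (q ⁻¹ᵁ U)))
    (huhz : (uh.app ⊤).hom z = RelCone.restrictTop 𝒮h' z' (q ⁻¹ᵁ ⊤))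
    {θ : 𝒮h.toQCAlg ⟶ 𝒮.toQCAlg} (hθι : ι ≫ θ = 𝟙 _) (hθz : (θ.hom.app (op ⊤)).hom z = 0)
    {θ' : 𝒮h'.toQCAlg ⟶ 𝒮'.toQCAlg} (hθι' : ι' ≫ θ' = 𝟙 _) (hθz' : (θ'.hom.app (op ⊤)).hom z' = 0)
    (U : Y.Opens) (hU : IsAffineOpen U) (U' : Y'.Opens) (hle : U' ≤ q ⁻¹ᵁ U) :
    θ.hom.app (op U) ≫ u.appLE U U' hle = uh.appLE U U' hle ≫ θ'.hom.app (op U') := by
  refine CommRingCat.hom_ext ((RingHom.cancel_right (g₁ := (θ.hom.app (op U) ≫ u.appLE U U' hle).hom)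
    (hz.bij U hU).2).mp (Polynomial.ringHom_ext (fun a ↦ ?_) ?_))
  · simp only [CommRingCat.hom_comp, RingHom.comp_apply, Polynomial.coe_eval₂RingHom,
      Polynomial.eval₂_C]
    rw [theta_ι hθι]
    have := congr(($(uh_ι huh U U' hle)).hom a)
    simp only [CommRingCat.hom_comp, RingHom.comp_apply] at this
    rw [this]
    exact (theta_ι hθι' U' _).symm
  · simp only [CommRingCat.hom_comp, RingHom.comp_apply, Polynomial.coe_eval₂RingHom,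
      Polynomial.eval₂_X]
    rw [theta_z hθz, map_zero, uh_z huhz, theta_z hθz']

lemma isQComp_theta (hz : RelCone.IsPolyOver 𝒮 𝒮h ι z)
    (huh : ∀ U : Y.Opens, ι.hom.app (op U) ≫ uh.app U = u.app U ≫ ι'.hom.app (op (q ⁻¹ᵁ U)))
    (huhz : (uh.app ⊤).hom z = RelCone.restrictTop 𝒮h' z' (q ⁻¹ᵁ ⊤))
    {θ : 𝒮h.toQCAlg ⟶ 𝒮.toQCAlg} (hθ : RelProj.IsGradedHom θ) (hθι : ι ≫ θ = 𝟙 _)
    (hθz : (θ.hom.app (op ⊤)).hom z = 0)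
    {θ' : 𝒮h'.toQCAlg ⟶ 𝒮'.toQCAlg} (hθ' : RelProj.IsGradedHom θ') (hθι' : ι' ≫ θ' = 𝟙 _)
    (hθz' : (θ'.hom.app (op ⊤)).hom z' = 0) :
    IsQComp uh (RelProj.QGrHom.ofHom θ' hθ') (preHom θ hθ u) := by
  refine ⟨(Category.id_comp q).symm, fun U₀ U₁ U₂ hU₀ _ _ h₁ h₂ _ ↦ ?_⟩
  show (θ.hom.app (op U₀) ≫ u.app U₀) ≫ _ =
    uh.appLE U₀ U₁ h₁ ≫ (θ'.hom.app (op U₁) ≫ 𝒮'.presheaf.map (homOfLE h₂).op)
  rw [← θ'.hom.naturality, ← Category.assoc (uh.appLE U₀ U₁ h₁), uh.appLE_map h₁ h₂,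
    ← theta_comm hz huh huhz hθι hθz hθι' hθz' U₀ hU₀ U₂ (h₂.trans h₁), Category.assoc]
  rfl

lemma evalOne_comm (hz : RelCone.IsPolyOver 𝒮 𝒮h ι z) (hz' : RelCone.IsPolyOver 𝒮' 𝒮h' ι' z')
    (huh : ∀ U : Y.Opens, ι.hom.app (op U) ≫ uh.app U = u.app U ≫ ι'.hom.app (op (q ⁻¹ᵁ U)))
    (huhz : (uh.app ⊤).hom z = RelCone.restrictTop 𝒮h' z' (q ⁻¹ᵁ ⊤))
    (U : Y.Opens) (hU : IsAffineOpen U) (U' : Y'.Opens) (hU' : IsAffineOpen U') (hle : U' ≤ q ⁻¹ᵁ U) :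
    (hz'.evalOne U' hU').comp (uh.appLE U U' hle).hom =
      (u.appLE U U' hle).hom.comp (hz.evalOne U hU) := by
  refine (RingHom.cancel_right (hz.bij U hU).2).mp (Polynomial.ringHom_ext (fun a ↦ ?_) ?_)
  · simp only [RingHom.comp_apply, Polynomial.coe_eval₂RingHom, Polynomial.eval₂_C]
    rw [hz.evalOne_ι]
    have := congr(($(uh_ι huh U U' hle)).hom a)
    simp only [CommRingCat.hom_comp, RingHom.comp_apply] at this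
    rw [this, hz'.evalOne_ι]
  · simp only [RingHom.comp_apply, Polynomial.coe_eval₂RingHom, Polynomial.eval₂_X]
    rw [uh_z huhz, hz'.evalOne_z, hz.evalOne_z, map_one]

variable {PC' : Scheme.{u}} {pC' : PC' ⟶ Y'}
  {chartC' : ∀ (U : Y'.Opens) (hU : IsAffineOpen U),
    (((pC' ⁻¹ᵁ U : PC'.Opens) : Scheme.{u}) ≅ Proj (𝒮h'.deg U hU))}

lemma basicOpen_z_le_domQ (hz : RelCone.IsPolyOver 𝒮 𝒮h ι z)
    (huhz : (uh.app ⊤).hom z = RelCone.restrictTop 𝒮h' z' (q ⁻¹ᵁ ⊤)) (π : APair q)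
    {t : Proj (𝒮h'.deg π.U' π.hU')}
    (ht : t ∈ Proj.basicOpen (𝒮h'.deg π.U' π.hU') (RelCone.restrictTop 𝒮h' z' π.U')) :
    RelProj.emb pC' chartC' π.U' π.hU' t ∈ RelProj.domQ uh pC' chartC' := by
  refine emb_mem_domQ uh π (basicOpen_le_domOpen _ (hz.deg_z π.U π.hU) one_pos ?_)
  show t ∈ Proj.basicOpen _ ((uh.appLE π.U π.U' π.le).hom (RelCone.restrictTop 𝒮h z π.U))
  rwa [uh_z huhz]

end Groth.Agent.EgaQ
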