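import Groth.Agent.EgaQ.PolyExt

/-!
# Degree one charts of cones
-/

universe u

open SetLike AlgebraicGeometry HomogeneousLocalization CategoryTheory CategoryTheory.Limits
open scoped HomogeneousIdeal

noncomputable section

set_option backward.isDefEq.respectTransparency false
set_option linter.all false

namespace Groth.Agent.EgaQ

variable {A σ B τ : Type u} [CommRing A] [SetLike σ A] [AddSubgroupClass σ A]
variable [CommRing B] [SetLike τ B] [AddSubgroupClass τ B]
variable (𝒜 : ℕ → σ) [GradedRing 𝒜] {ℬ : ℕ → τ} [GradedRing ℬ]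
variable {f : A} (hf : f ∈ 𝒜 1)

/-- `a / f ^ i`. -/
def awayFrac (i : ℕ) : 𝒜 i →+ Away 𝒜 f where
  toFun a := Away.mk 𝒜 hf i (a : A) (by simp [smul_eq_mul])
  map_zero' := by
    apply val_injective
    rw [Away.val_mk, val_zero]
    exact Localization.mk_zero _
  map_add' a b := by
    apply val_injective
    rw [Away.val_mk, val_add, Away.val_mk, Away.val_mk, Localization.add_mk_self]
    rfl

lemma val_awayFrac (i : ℕ) (a : 𝒜 i) :
    (awayFrac 𝒜 hf i a).val = Localization.mk (a : A) (⟨f ^ i, i, rfl⟩ : Submonoid.powers f) := rfl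

/-- Ring homomorphisms out of a graded ring agreeing on homogeneous elements are equal. -/
lemma gradedRingHom_ext {S : Type u} [CommRing S] {F G : A →+* S}
    (h : ∀ (i : ℕ) (a : A), a ∈ 𝒜 i → F a = G a) : F = G := by
  classical
  refine RingHom.ext fun a => ?_
  rw [← DirectSum.sum_support_decompose 𝒜 a, map_sum, map_sum]
  exact Finset.sum_congr rfl fun i _ => h i _ (SetLike.coe_mem _)

/-- Dehomogenization. -/
def awayDehom : A →+* Away 𝒜 f :=
  (DirectSum.toSemiring (awayFrac 𝒜 hf)
    (by
      apply val_injective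
      rw [val_awayFrac, val_one, ← Localization.mk_one]
      congr 1
      exact Subtype.ext (pow_zero f))
    (fun {i j} a b => by
      apply val_injective
      rw [val_awayFrac, val_mul, val_awayFrac, val_awayFrac, Localization.mk_mul]
      congr 1
      exact Subtype.ext (pow_add f i j))).comp
    (DirectSum.decomposeRingEquiv 𝒜).toRingHom

lemma awayDehom_of_mem {i : ℕ} {a : A} (ha : a ∈ 𝒜 i) :
    awayDehom 𝒜 hf a = awayFrac 𝒜 hf i ⟨a, ha⟩ := by
  simp only [awayDehom, RingHom.coe_comp, Function.comp_apply, RingEquiv.toRingHom_eq_coe, RingEquiv.coe_toRingHom]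
  change DFunLike.coe _ (DirectSum.decompose 𝒜 a) = _
  rw [DirectSum.decompose_of_mem 𝒜 ha, DirectSum.toSemiring_of]

lemma awayDehom_self : awayDehom 𝒜 hf f = 1 := by
  rw [awayDehom_of_mem 𝒜 hf hf]
  apply val_injective
  rw [val_awayFrac, val_one, Localization.mk_eq_mk', IsLocalization.mk'_eq_iff_eq_mul]
  simp

lemma mk_eq_awayDehom (n : ℕ) (a : A) (ha : a ∈ 𝒜 (n • 1)) :
    Away.mk 𝒜 hf n a ha = awayDehom 𝒜 hf a := by
  have ha' : a ∈ 𝒜 n := by simpa [smul_eq_mul] using ha
  rw [awayDehom_of_mem 𝒜 hf ha']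
  rfl

/-- A ring homomorphism inverting `f`, restricted to `A_(f)`. -/
def awayExtend {S : Type u} [CommRing S] (e : A →+* S) (hu : IsUnit (e f)) : Away 𝒜 f →+* S :=
  (Localization.awayLift e f hu).comp (algebraMap (Away 𝒜 f) (Localization.Away f))

omit hf in
lemma awayExtend_mul {S : Type u} [CommRing S] (e : A →+* S) (hu : IsUnit (e f)) {d : ℕ} (hfd : f ∈ 𝒜 d)
    (n : ℕ) (a : A) (ha : a ∈ 𝒜 (n • d)) :
    awayExtend 𝒜 e hu (Away.mk 𝒜 hfd n a ha) * e f ^ n = e a := by
  have h : (Away.mk 𝒜 hfd n a ha).val * algebraMap A (Localization.Away f) (f ^ n) = algebraMap A _ a := by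
    rw [Away.val_mk, Localization.mk_eq_mk']
    exact IsLocalization.mk'_spec (Localization.Away f) a (⟨f ^ n, n, rfl⟩ : Submonoid.powers f)
  have h' := congrArg (Localization.awayLift e f hu) h
  simp only [map_mul, Localization.awayLift, IsLocalization.Away.lift, IsLocalization.lift_eq] at h'
  rw [← map_pow]
  exact h'

/-- `A_(f)[T, T⁻¹] → A_f`. -/
def laurentToLoc : LaurentPolynomial (Away 𝒜 f) →+* Localization.Away f :=
  LaurentPolynomial.eval₂ (algebraMap (Away 𝒜 f) (Localization.Away f))
    (IsLocalization.Away.algebraMap_isUnit f).unit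

include hf

theorem laurentToLoc_bijective : Function.Bijective (laurentToLoc 𝒜 (f := f)) := by
  let pre : A →+* LaurentPolynomial (Away 𝒜 f) :=
    (DirectSum.toSemiring
      (fun i => AddMonoidHom.mk' (fun a : 𝒜 i => LaurentPolynomial.C (awayFrac 𝒜 hf i a) * LaurentPolynomial.T (i : ℤ))
        fun a b => by rw [map_add, map_add, add_mul])
      (by
        show LaurentPolynomial.C (awayFrac 𝒜 hf 0 _) * LaurentPolynomial.T ((0 : ℕ) : ℤ) = 1
        rw [Nat.cast_zero, LaurentPolynomial.T_zero, mul_one]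
        convert map_one (LaurentPolynomial.C (R := Away 𝒜 f))
        apply val_injective
        rw [val_awayFrac, val_one, ← Localization.mk_one]
        congr 1
        exact Subtype.ext (pow_zero f))
      (fun {i j} a b => by
        show LaurentPolynomial.C (awayFrac 𝒜 hf (i + j) _) * LaurentPolynomial.T ((i + j : ℕ) : ℤ) =
          LaurentPolynomial.C (awayFrac 𝒜 hf i a) * LaurentPolynomial.T (i : ℤ) *
            (LaurentPolynomial.C (awayFrac 𝒜 hf j b) * LaurentPolynomial.T (j : ℤ))
        rw [mul_mul_mul_comm, ← map_mul, ← LaurentPolynomial.T_add, Nat.cast_add]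
        congr 2
        apply val_injective
        rw [val_awayFrac, val_mul, val_awayFrac, val_awayFrac, Localization.mk_mul]
        congr 1
        exact Subtype.ext (pow_add f i j))).comp
      (DirectSum.decomposeRingEquiv 𝒜).toRingHom
  have hpre : ∀ (i : ℕ) (a : A) (ha : a ∈ 𝒜 i),
      pre a = LaurentPolynomial.C (awayDehom 𝒜 hf a) * LaurentPolynomial.T (i : ℤ) := by
    intro i a ha
    rw [awayDehom_of_mem 𝒜 hf ha]
    simp only [pre, RingHom.coe_comp, Function.comp_apply, RingEquiv.toRingHom_eq_coe, RingEquiv.coe_toRingHom]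
    change DFunLike.coe _ (DirectSum.decompose 𝒜 a) = _
    rw [DirectSum.decompose_of_mem 𝒜 ha, DirectSum.toSemiring_of]
    rfl
  have hpref : pre f = LaurentPolynomial.T 1 := by
    rw [hpre 1 f hf, awayDehom_self, map_one, one_mul, Nat.cast_one]
  have hu : IsUnit (pre f) := hpref ▸ LaurentPolynomial.isUnit_T 1
  let η : Localization.Away f →+* LaurentPolynomial (Away 𝒜 f) := Localization.awayLift pre f hu
  have hη : ∀ a, η (algebraMap A _ a) = pre a := fun a => IsLocalization.lift_eq _ a
  have hspec : ∀ (n : ℕ) (a : A) (ha : a ∈ 𝒜 n),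
      (algebraMap (Away 𝒜 f) (Localization.Away f) (awayDehom 𝒜 hf a)) * algebraMap A _ f ^ n =
        algebraMap A (Localization.Away f) a := fun n a ha => by
    rw [awayDehom_of_mem 𝒜 hf ha, HomogeneousLocalization.algebraMap_apply, val_awayFrac,
      Localization.mk_eq_mk', ← map_pow]
    exact IsLocalization.mk'_spec (Localization.Away f) a (⟨f ^ n, n, rfl⟩ : Submonoid.powers f)
  have h1 : (laurentToLoc 𝒜).comp η = RingHom.id _ := by
    refine IsLocalization.ringHom_ext (Submonoid.powers f) (gradedRingHom_ext 𝒜 fun i a ha => ?_)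
    simp only [RingHom.comp_apply, RingHom.id_apply, hη, hpre i a ha, map_mul]
    rw [laurentToLoc, LaurentPolynomial.eval₂_C, LaurentPolynomial.eval₂_T, zpow_natCast,
      Units.val_pow_eq_pow_val, IsUnit.unit_spec]
    exact hspec i a ha
  have h2 : η.comp (laurentToLoc 𝒜) = RingHom.id _ := by
    refine IsLocalization.ringHom_ext (Submonoid.powers (Polynomial.X : Polynomial (Away 𝒜 f)))
      (Polynomial.ringHom_ext (fun c => ?_) ?_)
    · simp only [RingHom.comp_apply, RingHom.id_apply, LaurentPolynomial.algebraMap_eq_toLaurent,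
        Polynomial.toLaurent_C, laurentToLoc, LaurentPolynomial.eval₂_C]
      obtain ⟨n, a, ha, rfl⟩ := c.mk_surjective 𝒜 hf
      have ha' : a ∈ 𝒜 n := by simpa [smul_eq_mul] using ha
      rw [mk_eq_awayDehom 𝒜 hf n a ha]
      refine ((LaurentPolynomial.isUnit_T (n : ℤ)).mul_left_inj).mp ?_
      rw [← hpre n a ha', ← hη a, ← hspec n a ha', map_mul]
      congr 1
      rw [map_pow, hη, hpref, LaurentPolynomial.T_pow, mul_one]
    · simp only [RingHom.comp_apply, RingHom.id_apply, LaurentPolynomial.algebraMap_eq_toLaurent,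
        Polynomial.toLaurent_X, laurentToLoc, LaurentPolynomial.eval₂_T, zpow_one, IsUnit.unit_spec,
        hη, hpref]
  exact ⟨Function.LeftInverse.injective (g := η) fun x => RingHom.congr_fun h2 x,
    Function.RightInverse.surjective (g := η) fun x => RingHom.congr_fun h1 x⟩

variable {𝒜} {ι : 𝒜 →+*ᵍ ℬ} {z : B} (h : IsPolyExt ι z)

omit hf in
/-- `A_(f)[T] → B_(ι f)`, `T ↦ z / ι f`. -/
def polyToAway (ι : 𝒜 →+*ᵍ ℬ) (z : B) (hf : f ∈ 𝒜 1) : Polynomial (Away 𝒜 f) →+* Away ℬ (ι f) :=
  Polynomial.eval₂RingHom (Away.map ι f) (awayDehom ℬ (ι.map_mem hf) z)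

include h

theorem polyToAway_bijective : Function.Bijective (polyToAway ι z hf) := by
  let e : Polynomial A ≃+* B := RingEquiv.ofBijective _ h.bij
  let D : B →+* Polynomial (Away 𝒜 f) :=
    (Polynomial.mapRingHom (awayDehom 𝒜 hf)).comp e.symm.toRingHom
  have hDι : ∀ a : A, D (ι a) = Polynomial.C (awayDehom 𝒜 hf a) := by
    intro a
    show Polynomial.map (awayDehom 𝒜 hf) (e.symm (ι a)) = _
    rw [show ι a = e (Polynomial.C a) by simp [e], e.symm_apply_apply, Polynomial.map_C]
  have hDz : D z = Polynomial.X := by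
    show Polynomial.map (awayDehom 𝒜 hf) (e.symm z) = _
    rw [show z = e Polynomial.X by simp [e], e.symm_apply_apply, Polynomial.map_X]
  have hDf : D (ι f) = 1 := by rw [hDι, awayDehom_self, map_one]
  let η : Away ℬ (ι f) →+* Polynomial (Away 𝒜 f) := awayExtend ℬ D (hDf ▸ isUnit_one)
  have hη : ∀ b : B, ∀ (n : ℕ) (hb : b ∈ ℬ n), η (awayDehom ℬ (ι.map_mem hf) b) = D b := by
    intro b n hb
    rw [← mk_eq_awayDehom ℬ (ι.map_mem hf) n b (by simpa using hb)]
    have := awayExtend_mul ℬ D (hDf ▸ isUnit_one) (ι.map_mem hf) n b (by simpa using hb)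
    simpa [η, hDf] using this
  have hmap : ∀ a : A, Away.map ι f (awayDehom 𝒜 hf a) = awayDehom ℬ (ι.map_mem hf) (ι a) := by
    intro a
    have : (Away.map ι f).comp (awayDehom 𝒜 hf) = (awayDehom ℬ (ι.map_mem hf)).comp ι.toRingHom := by
      refine gradedRingHom_ext 𝒜 fun i a ha => ?_
      show Away.map ι f (awayDehom 𝒜 hf a) = awayDehom ℬ (ι.map_mem hf) (ι a)
      rw [awayDehom_of_mem 𝒜 hf ha]
      exact (Away.map_mk ι f hf i a _).trans (awayDehom_of_mem ℬ _ (ι.map_mem ha)).symm
    exact RingHom.congr_fun this a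
  constructor
  · have : η.comp (polyToAway ι z hf) = RingHom.id _ := by
      refine Polynomial.ringHom_ext (fun c => ?_) ?_
      · obtain ⟨n, a, ha, rfl⟩ := c.mk_surjective 𝒜 hf
        have ha' : a ∈ 𝒜 n := by simpa [smul_eq_mul] using ha
        rw [RingHom.comp_apply, mk_eq_awayDehom 𝒜 hf n a ha]
        simp only [polyToAway, Polynomial.coe_eval₂RingHom, Polynomial.eval₂_C, RingHom.id_apply]
        rw [hmap]
        exact (hη _ n (ι.map_mem ha')).trans (hDι a)
      · simp only [RingHom.comp_apply, polyToAway, Polynomial.coe_eval₂RingHom, Polynomial.eval₂_X,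
          RingHom.id_apply]
        rw [hη _ 1 h.mem, hDz]
    exact Function.LeftInverse.injective (g := η) fun x => RingHom.congr_fun this x
  · intro y
    obtain ⟨n, b, hb, rfl⟩ := y.mk_surjective ℬ (ι.map_mem hf)
    rw [mk_eq_awayDehom ℬ (ι.map_mem hf) n b hb]
    show awayDehom ℬ (ι.map_mem hf) b ∈ (polyToAway ι z hf).range
    obtain ⟨P, rfl⟩ := e.surjective b
    clear hb
    induction P using Polynomial.induction_on' with
    | add P Q hP hQ => rw [map_add, map_add]; exact add_mem hP hQ
    | monomial k a =>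
      rw [← Polynomial.C_mul_X_pow_eq_monomial, map_mul, map_pow, map_mul, map_pow,
        show e (Polynomial.C a) = ι a by simp [e], show e Polynomial.X = z by simp [e]]
      exact ⟨Polynomial.C (awayDehom 𝒜 hf a) * Polynomial.X ^ k, by simp [polyToAway, hmap]⟩

end Groth.Agent.EgaQ
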