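import Groth.Agent.KFlatLib.Scheme.PushCoprod
import Groth.Agent.SiteBase.ModColim
import Groth.Agent.QcqsColim.Rpush
import Groth.Agent.QCoh.RpushAbGod
import Groth.Prelude.Def_RelSpec2

/-!
# Direct images over the direct-image algebra and colimits
-/

set_option autoImplicit false
set_option backward.isDefEq.respectTransparency false

universe u

open CategoryTheory CategoryTheory.Limits AlgebraicGeometry TopologicalSpace Opposite

namespace Groth.Agent.EgaQ

variable {X S : Scheme.{u}} (f : X ⟶ S) [QuasiCompact f] [QuasiSeparated f]

theorem preservesColimitsOfShape_dirImg_discrete (ι : Type u) :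
    PreservesColimitsOfShape (Discrete ι) (AMod.dirImg f) := by
  have := SiteBase.preservesColimitsOfSize_restrictScalars (AMod.strHom (RelSpec.QCAlg.directImage f))
  have := SiteBase.reflectsIsomorphisms_restrictScalars (AMod.strHom (RelSpec.QCAlg.directImage f))
  have : PreservesColimitsOfSize.{u, u} (AMod.toOS (RelSpec.QCAlg.directImage f)) :=
    SiteBase.preservesColimitsOfSize_restrictScalars _
  have : (AMod.toOS (RelSpec.QCAlg.directImage f)).ReflectsIsomorphisms :=
    SiteBase.reflectsIsomorphisms_restrictScalars _
  have : ReflectsColimitsOfSize.{u, u} (AMod.toOS (RelSpec.QCAlg.directImage f)) :=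
    reflectsColimits_of_reflectsIsomorphisms
  have : PreservesColimitsOfShape (Discrete ι) (AMod.dirImg f ⋙ AMod.toOS (RelSpec.QCAlg.directImage f)) :=
    KFlatLib.preservesColimitsOfShape_push_discrete f
  exact preservesColimitsOfShape_of_reflects_of_preserves _ (AMod.toOS (RelSpec.QCAlg.directImage f))

theorem preservesColimitsOfShape_dirImg_filtered (J : Type u) [SmallCategory J] [IsFiltered J] :
    PreservesColimitsOfShape J (AMod.dirImg f) := by
  have := SiteBase.preservesColimitsOfSize_toSheaf X.ringCatSheaf
  have := SiteBase.preservesColimitsOfSize_toSheaf (AMod.ringSheaf (RelSpec.QCAlg.directImage f))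
  have : PreservesColimitsOfShape J (Coh.pushAb f) := by
    have := QcqsColim.preservesColimitsOfShape_RpushAb f 0 J
    have := QCoh.preservesFiniteLimits_pushAb f
    exact preservesColimitsOfShape_of_natIso (Coh.pushAb f).rightDerivedZeroIsoSelf
  have h : PreservesColimitsOfShape J (SheafOfModules.toSheaf.{u} X.ringCatSheaf ⋙ Coh.pushAb f) :=
    comp_preservesColimitsOfShape _ _
  have : PreservesColimitsOfShape J
      (AMod.dirImg f ⋙ SheafOfModules.toSheaf.{u} (AMod.ringSheaf (RelSpec.QCAlg.directImage f))) := h
  have : ReflectsColimitsOfSize.{u, u} (SheafOfModules.toSheaf.{u} (AMod.ringSheaf (RelSpec.QCAlg.directImage f))) :=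
    reflectsColimits_of_reflectsIsomorphisms
  exact preservesColimitsOfShape_of_reflects_of_preserves _
    (SheafOfModules.toSheaf.{u} (AMod.ringSheaf (RelSpec.QCAlg.directImage f)))

end Groth.Agent.EgaQ
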