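import Groth.Agent.FDescent.ModEpi
import Groth.Agent.QCoh.FT
import Groth.Agent.AModX.Exact

/-!
# Finite type for modules over the direct-image algebra
-/

set_option autoImplicit false
set_option backward.isDefEq.respectTransparency false
set_option backward.isDefEq.respectTransparency.types false
set_option linter.all false
set_option maxHeartbeats 800000

universe u

open CategoryTheory CategoryTheory.Limits AlgebraicGeometry Opposite TopologicalSpace

noncomputable section

namespace Groth.Agent.EgaQ

open AModX (res resR)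

section gen

variable {S : Scheme.{u}} {B : RelSpec.QCAlg S} (M : AMod B) {V : S.Opens}

/-- `t` generates `M` locally on `V`. -/
def LocGen {ι : Type u} (t : ι → M.val.obj (op V)) : Prop :=
  ∀ (W : S.Opens) (h : W ≤ V) (m : M.val.obj (op W)) (q : S), q ∈ W →
    ∃ (W' : S.Opens) (h' : W' ≤ W), q ∈ W' ∧ (M.val.map (homOfLE h').op).hom m ∈
      Submodule.span ((AMod.ringSheaf B).obj.obj (op W'))
        (Set.range fun i => (show M.val.obj (op W') from (M.val.map (homOfLE (h'.trans h)).op).hom (t i)))

/-- A finite locally generating family gives generating sections. -/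
theorem exists_generatingSections_of_locGen {ι : Type u} [Finite ι] (t : ι → M.val.obj (op V))
    (h : LocGen M t) : ∃ G : (SheafOfModules.over M V).GeneratingSections, G.IsFiniteType := by
  let s : ι → (SheafOfModules.over M V).sections := fun i =>
    PresheafOfModules.sectionsMk (fun W => (M.val.map W.unop.hom.op).hom (t i)) fun W₁ W₂ g => by
      show (M.val.map g.unop.left.op).hom ((M.val.map W₁.unop.hom.op).hom (t i)) = _
      rw [show W₂.unop.hom.op = W₁.unop.hom.op ≫ g.unop.left.op from rfl]
      exact (congr(($(M.val.map_comp W₁.unop.hom.op g.unop.left.op)).hom (t i))).symm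
  have hepi : Epi ((SheafOfModules.over M V).freeHomEquiv.symm s) := by
    constructor
    intro Z g g' e
    have hs : ∀ i W, g.val.app W ((s i).eval W) = g'.val.app W ((s i).eval W) := fun i W => by
      have h1 := congrArg (fun q => (SheafOfModules.freeHomEquiv Z q i).eval W) e
      simp only [SheafOfModules.freeHomEquiv_comp_apply, Equiv.apply_symm_apply] at h1
      exact h1
    refine SheafOfModules.hom_ext (PresheafOfModules.Hom.ext (funext fun W => ModuleCat.hom_ext
      (LinearMap.ext fun m => ?_)))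
    have hZ : Presieve.IsSheaf ((Opens.grothendieckTopology S).over V) (Z.val.presheaf ⋙ forget AddCommGrpCat) :=
      (CategoryTheory.isSheaf_iff_isSheaf_of_type _ _).1
        ((Presheaf.isSheaf_iff_isSheaf_forget _ _ (forget AddCommGrpCat)).1 Z.isSheaf)
    let T : Sieve W.unop :=
      { arrows := fun W' i => g.val.app (op W') ((SheafOfModules.over M V).val.map i.op m) =
          g'.val.app (op W') ((SheafOfModules.over M V).val.map i.op m)
        downward_closed := fun {A B} f hf k => by
          show g.val.app (op B) ((SheafOfModules.over M V).val.map (k ≫ f).op m) =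
            g'.val.app (op B) ((SheafOfModules.over M V).val.map (k ≫ f).op m)
          have e1 : ∀ z, (SheafOfModules.over M V).val.map (k ≫ f).op z =
              (SheafOfModules.over M V).val.map k.op ((SheafOfModules.over M V).val.map f.op z) := fun z =>
            congr($((SheafOfModules.over M V).val.presheaf.map_comp f.op k.op) z)
          rw [e1]
          refine (PresheafOfModules.naturality_apply g.val k.op _).trans ?_
          refine Eq.trans ?_ (PresheafOfModules.naturality_apply g'.val k.op _).symm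
          exact congrArg (Z.val.map k.op) hf }
    have hT : T ∈ (Opens.grothendieckTopology S).over V W.unop := by
      rw [GrothendieckTopology.mem_over_iff]
      intro y hy
      have hWV : W.unop.left ≤ V := W.unop.hom.le
      obtain ⟨W', h', hyW', hmem⟩ := h W.unop.left hWV m y hy
      let A : Over V := Over.mk (homOfLE (h'.trans hWV))
      let i : A ⟶ W.unop := Over.homMk (homOfLE h')
      refine ⟨W', homOfLE h', ⟨A, i, 𝟙 _, ?_, rfl⟩, hyW'⟩
      show g.val.app (op A) ((SheafOfModules.over M V).val.map i.op m) =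
        g'.val.app (op A) ((SheafOfModules.over M V).val.map i.op m)
      let φ : (SheafOfModules.over M V).val.obj (op A) →ₗ[_] Z.val.obj (op A) := (g.val.app (op A)).hom
      let φ' : (SheafOfModules.over M V).val.obj (op A) →ₗ[_] Z.val.obj (op A) := (g'.val.app (op A)).hom
      refine LinearMap.eqOn_span (f := φ) (g := φ') ?_ hmem
      rintro _ ⟨l, rfl⟩
      exact hs l (op A)
    refine (hZ.isSeparated T hT).ext fun W' i hi => ?_
    exact ((PresheafOfModules.naturality_apply g.val i.op m).symm.trans
      ((show g.val.app (op W') _ = g'.val.app (op W') _ from hi))).trans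
        (PresheafOfModules.naturality_apply g'.val i.op m)
  exact ⟨⟨ι, s, hepi⟩, ⟨inferInstanceAs (Finite ι)⟩⟩

/-- Generating sections generate locally. -/
theorem locGen_of_generatingSections (G : (SheafOfModules.over M V).GeneratingSections) [Finite G.I] :
    LocGen M (fun j => (show M.val.obj (op V) from (G.s j).eval (op (Over.mk (𝟙 V))))) := by
  intro W h m q hq
  let W₀ : Over V := Over.mk (homOfLE h)
  obtain ⟨T, hT, hz⟩ := FDescent.exists_cover_eq_app G.π W₀ (show (SheafOfModules.over M V).val.obj (op W₀) from m)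
  rw [GrothendieckTopology.mem_over_iff] at hT
  obtain ⟨W', i, hi, hqW'⟩ := hT q hq
  obtain ⟨A, iA, hle, hA, -⟩ := hi
  obtain ⟨z, hz'⟩ := hz iA hA
  have hspan := FDescent.app_mem_span G (op A) z
  rw [hz'] at hspan
  refine ⟨A.left, iA.left.le, hle.le hqW', ?_⟩
  rw [Subsingleton.elim (homOfLE iA.left.le) iA.left]
  refine Submodule.span_mono ?_ hspan
  rintro _ ⟨j, rfl⟩
  refine ⟨j, ?_⟩
  have e := (G.s j).property (Over.homMk A.hom (by simp) : A ⟶ Over.mk (𝟙 V)).op
  refine Eq.trans ?_ e
  rw [Subsingleton.elim (homOfLE (iA.left.le.trans h)) A.hom]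
  rfl

end gen

variable {X S : Scheme.{u}} {f : X ⟶ S} [IsAffineHom f] {F : X.Modules}

lemma basic_le (U : S.Opens) (r : Γ(S, U)) :
    X.basicOpen (f.app U r) ≤ f ⁻¹ᵁ U := X.basicOpen_le _

/-- The sections over the preimage of an affine open generate the direct image there. -/
theorem locGen_dirImg (hF : Coh.IsQCoh F) {U : S.Opens} (hU : IsAffineOpen U) {ι : Type u}
    (t : ι → Γ(F, f ⁻¹ᵁ U)) (ht : Submodule.span Γ(X, f ⁻¹ᵁ U) (Set.range t) = ⊤) :
    LocGen ((AMod.dirImg f).obj F) (V := U) t := by
  intro W h m q hq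
  obtain ⟨r, hrW, hqr⟩ := hU.exists_basicOpen_le (V := W) ⟨q, hq⟩ (h hq)
  have hA := hU.preimage f
  have e : X.basicOpen (f.app U r) = f ⁻¹ᵁ S.basicOpen r := (f.preimage_basicOpen r).symm
  obtain ⟨n, s, hs⟩ := QCoh.exists_pow_smul_eq_map hF hA (f.app U r)
    (res F (e.le.trans (f.preimage_mono hrW)) m)
  have hle' : f ⁻¹ᵁ S.basicOpen r ≤ f ⁻¹ᵁ U := f.preimage_mono (S.basicOpen_le r)
  have hu : IsUnit (resR hle' (f.app U r) ^ n) := (AModX.isUnit_resR hle' _ e.ge).pow n
  refine ⟨S.basicOpen r, hrW, hqr, ?_⟩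
  show res F (f.preimage_mono hrW) m ∈ Submodule.span Γ(X, f ⁻¹ᵁ S.basicOpen r)
    (Set.range fun i => res F (f.preimage_mono (hrW.trans h)) (t i))
  have hs2 : res F hle' s = resR hle' (f.app U r) ^ n • res F (f.preimage_mono hrW) m := by
    have := congrArg (res F e.ge) hs
    rw [AModX.res_smul, map_pow] at this
    erw [AModX.res_res, AModX.res_res, AModX.resR_resR] at this
    exact this
  rw [← Submodule.smul_mem_iff_of_isUnit _ hu, ← hs2]
  have hs' : s ∈ Submodule.span Γ(X, f ⁻¹ᵁ U) (Set.range t) := ht ▸ trivial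
  clear hs hs2
  induction hs' using Submodule.span_induction with
  | mem x hx => obtain ⟨i, rfl⟩ := hx; exact Submodule.subset_span ⟨i, rfl⟩
  | zero => rw [map_zero]; exact zero_mem _
  | add x y _ _ hx hy => rw [map_add]; exact add_mem hx hy
  | smul a x _ hx => rw [AModX.res_smul]; exact Submodule.smul_mem _ _ hx

/-- Local generation makes the sections over an affine preimage finite. -/
theorem finite_of_locGen (hF : Coh.IsQCoh F) {V U : S.Opens} (hU : IsAffineOpen U) (hUV : U ≤ V) {ι : Type u}
    [Finite ι] (t : ι → Γ(F, f ⁻¹ᵁ V)) (h : LocGen ((AMod.dirImg f).obj F) (V := V) t) :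
    Module.Finite Γ(X, f ⁻¹ᵁ U) Γ(F, f ⁻¹ᵁ U) := by
  let N := Submodule.span Γ(X, f ⁻¹ᵁ U) (Set.range fun i => res F (f.preimage_mono hUV) (t i))
  suffices N = ⊤ from Module.finite_def.mpr (this ▸ Submodule.fg_span (Set.finite_range _))
  refine eq_top_iff.mpr fun m _ => ?_
  have hA := hU.preimage f
  have key : ∀ q : U, ∃ r : Γ(S, U), q.1 ∈ S.basicOpen r ∧ ∃ k : ℕ, f.app U r ^ k • m ∈ N := by
    intro q
    obtain ⟨W', h', hqW', hmem⟩ := h U hUV (show Γ(F, f ⁻¹ᵁ U) from m) q.1 q.2
    obtain ⟨r, hrW, hqr⟩ := hU.exists_basicOpen_le (V := W') ⟨q.1, hqW'⟩ q.2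
    refine ⟨r, hqr, ?_⟩
    have e : X.basicOpen (f.app U r) = f ⁻¹ᵁ S.basicOpen r := (f.preimage_basicOpen r).symm
    have hle' : X.basicOpen (f.app U r) ≤ f ⁻¹ᵁ U := X.basicOpen_le _
    have hmem' : res F hle' m ∈ Submodule.span Γ(X, X.basicOpen (f.app U r))
        ((res F hle') '' (Set.range fun i => res F (f.preimage_mono hUV) (t i))) := by
      have h2 : res F (f.preimage_mono h') m ∈ Submodule.span Γ(X, f ⁻¹ᵁ W')
          (Set.range fun i => res F (f.preimage_mono (h'.trans hUV)) (t i)) := hmem
      rw [← AModX.res_res (f.preimage_mono h') (e.le.trans (f.preimage_mono hrW)) m]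
      generalize res F (f.preimage_mono h') m = w at h2 ⊢
      induction h2 using Submodule.span_induction with
      | mem x hx =>
        obtain ⟨i, rfl⟩ := hx
        exact Submodule.subset_span ⟨_, ⟨i, rfl⟩, by rw [AModX.res_res, AModX.res_res]⟩
      | zero => rw [map_zero]; exact zero_mem _
      | add x y _ _ hx hy => rw [map_add]; exact add_mem hx hy
      | smul a x _ hx => rw [AModX.res_smul]; exact Submodule.smul_mem _ _ hx
    have hex : ∀ z ∈ Submodule.span Γ(X, X.basicOpen (f.app U r))
        ((res F hle') '' (Set.range fun i => res F (f.preimage_mono hUV) (t i))),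
        ∃ (k : ℕ) (y : Γ(F, f ⁻¹ᵁ U)), y ∈ N ∧ res F hle' y = resR hle' (f.app U r) ^ k • z := by
      intro z hz
      induction hz using Submodule.span_induction with
      | mem x hx => obtain ⟨y, hy, rfl⟩ := hx; exact ⟨0, y, Submodule.subset_span hy, by simp⟩
      | zero => exact ⟨0, 0, zero_mem _, by simp⟩
      | add x y _ _ hx hy =>
        obtain ⟨k, a, ha, hka⟩ := hx
        obtain ⟨l, b, hb, hlb⟩ := hy
        refine ⟨k + l, f.app U r ^ l • a + f.app U r ^ k • b,
          add_mem (Submodule.smul_mem _ _ ha) (Submodule.smul_mem _ _ hb), ?_⟩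
        rw [map_add, AModX.res_smul, AModX.res_smul, hka, hlb, map_pow, map_pow, smul_add,
          pow_add, mul_smul, mul_smul, smul_comm (resR hle' (f.app U r) ^ l)]
      | smul c x _ hx =>
        obtain ⟨k, a, ha, hka⟩ := hx
        have := hA.isLocalization_basicOpen (f.app U r)
        obtain ⟨⟨b, _, l, rfl⟩, hb⟩ := IsLocalization.surj (Submonoid.powers (f.app U r)) c
        refine ⟨k + l, b • a, Submodule.smul_mem _ _ ha, ?_⟩
        have hb' : resR hle' b = c * resR hle' (f.app U r) ^ l := by rw [← map_pow]; exact hb.symm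
        rw [AModX.res_smul, hka, hb', smul_smul, smul_smul]
        congr 1
        ring
    obtain ⟨k, y, hy, hky⟩ := hex _ hmem'
    obtain ⟨k', hk'⟩ := QCoh.exists_pow_smul_eq_zero hF hA (f.app U r) (f.app U r ^ k • m - y) (by
      show res F hle' _ = 0
      rw [map_sub, AModX.res_smul, map_pow, hky, sub_self])
    refine ⟨k' + k, ?_⟩
    rw [smul_sub, sub_eq_zero, smul_smul, ← pow_add] at hk'
    rw [hk']
    exact Submodule.smul_mem _ _ hy
  choose r hqr k hk using key
  let J : Ideal Γ(X, f ⁻¹ᵁ U) := Submodule.colon N {m}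
  have hJ : Ideal.span (Set.range r) = ⊤ := hU.iSup_basicOpen_eq_self_iff.mp (le_antisymm
    (iSup_le fun a => S.basicOpen_le _) fun q hq => Opens.mem_iSup.mpr ⟨⟨r ⟨q, hq⟩, ⟨q, hq⟩, rfl⟩, hqr _⟩)
  have hrad : ∀ q, r q ∈ (J.comap (f.app U).hom).radical := fun q =>
    ⟨k q, Submodule.mem_colon_singleton.mpr (by rw [map_pow]; exact hk q)⟩
  have h1 : (1 : Γ(S, U)) ∈ J.comap (f.app U).hom := by
    rw [← Ideal.eq_top_iff_one, ← Ideal.radical_eq_top, eq_top_iff, ← hJ, Ideal.span_le]
    rintro _ ⟨q, rfl⟩
    exact hrad q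
  have h2 := Submodule.mem_colon_singleton.mp h1
  rwa [map_one, one_smul] at h2

theorem isFT_dirImg_iff (hF : Coh.IsQCoh F) :
    SheafOfModules.IsFiniteType.{u} (R := X.ringCatSheaf) F ↔
      SheafOfModules.IsFiniteType.{u} (R := AMod.ringSheaf (RelSpec.QCAlg.directImage f))
        ((AMod.dirImg f).obj F) := by
  constructor
  · intro hft
    have hg : ∀ U : S.affineOpens,
        ∃ G : (SheafOfModules.over ((AMod.dirImg f).obj F) U.1).GeneratingSections, G.IsFiniteType := by
      intro U
      have := QCoh.finite_of_isFT hF hft (U.2.preimage f)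
      obtain ⟨n, t, ht⟩ := Module.Finite.exists_fin (R := Γ(X, f ⁻¹ᵁ U.1)) (M := Γ(F, f ⁻¹ᵁ U.1))
      refine exists_generatingSections_of_locGen _ (fun i : ULift.{u} (Fin n) => t i.down)
        (locGen_dirImg hF U.2 _ ?_)
      rw [← ht]
      congr 1
      exact Set.ext fun x => ⟨fun ⟨i, hi⟩ => ⟨i.down, hi⟩, fun ⟨i, hi⟩ => ⟨⟨i⟩, hi⟩⟩
    choose G hG using hg
    let q : SheafOfModules.LocalGeneratorsData.{u} (R := AMod.ringSheaf (RelSpec.QCAlg.directImage f))
        ((AMod.dirImg f).obj F) :=
      { I := S.affineOpens, X := fun U => U.1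
        coversTop := (Opens.coversTop_iff _ _).2 (iSup_affineOpens_eq_top S), generators := G }
    have hq : q.IsFiniteType := by
      constructor
      exact hG
    constructor
    exact ⟨q, hq⟩
  · intro hft
    obtain ⟨σ, hσ⟩ := hft.exists_localGeneratorsData
    have hcov : ∀ x : S, ∃ (i : σ.I) (U : S.Opens) (hU : IsAffineOpen U), x ∈ U ∧ U ≤ σ.X i := fun x => by
      obtain ⟨i, hi⟩ := ((Opens.coversTop_iff _ σ.X).1 σ.coversTop).exists_mem x
      obtain ⟨_, ⟨U, hU, rfl⟩, hxU, hUi⟩ := S.isBasis_affineOpens.exists_subset_of_mem_open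
        (show x ∈ (σ.X i : Set S) from hi) (σ.X i).isOpen
      exact ⟨i, U, hU, hxU, hUi⟩
    choose i U hU hxU hUi using hcov
    refine QCoh.isFT_of_finite hF (fun x => f ⁻¹ᵁ U x)
      (top_le_iff.1 fun p _ => Opens.mem_iSup.2 ⟨f p, hxU (f p)⟩) (fun x => (hU x).preimage f) fun x => ?_
    have := hσ.isFiniteType (i x)
    have : Finite (σ.generators (i x)).I := SheafOfModules.GeneratingSections.IsFiniteType.finite
    exact finite_of_locGen hF (hU x) (hUi x) _
      (locGen_of_generatingSections ((AMod.dirImg f).obj F) (σ.generators (i x)))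

end Groth.Agent.EgaQ
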