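import Groth.Agent.EgaQ.Pairing

/-!
# Restricting pairings to opens
-/

universe u

open CategoryTheory AlgebraicGeometry TopologicalSpace Opposite

noncomputable section

set_option backward.isDefEq.respectTransparency false
set_option linter.all false
set_option maxHeartbeats 800000

namespace Groth.Agent.EgaQ.ModPairing

variable {X : Scheme.{u}} {M N Q : X.Modules} (μ : ModPairing M N Q) (U : X.Opens)

/-- The restriction of a pairing to an open subscheme. -/
def restrict : ModPairing (M.restrict U.ι) (N.restrict U.ι) (Q.restrict U.ι) where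
  app W a b := μ.app (U.ι ''ᵁ W) a b
  add_left W a a' b := μ.add_left _ a a' b
  add_right W a b b' := μ.add_right _ a b b'
  smul_left W r a b := μ.smul_left (U.ι ''ᵁ W) ((U.ι.appIso W).inv r) a b
  smul_right W r a b := μ.smul_right (U.ι ''ᵁ W) ((U.ι.appIso W).inv r) a b
  res {W V} h a b := μ.res (U.ι.image_mono h) a b

lemma isFrame_restrict {O : X.Opens} {e : Γ(N, O)} (he : InvX.IsFrame e)
    {W : U.toScheme.Opens} (hW : U.ι ''ᵁ W ≤ O) :
    InvX.IsFrame (M := N.restrict U.ι) (U := W) (show Γ(N.restrict U.ι, W) from AModX.res N hW e) := by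
  intro V hV
  have hb := he (U.ι ''ᵁ V) ((U.ι.image_mono hV).trans hW)
  have hi : Function.Bijective (U.ι.appIso V).inv := ConcreteCategory.bijective_of_isIso _
  have e' : (fun r : Γ(U.toScheme, V) => r • AModX.res (N.restrict U.ι) hV (show Γ(N.restrict U.ι, W) from AModX.res N hW e)) =
      fun r => (show Γ(N.restrict U.ι, V) from
        (U.ι.appIso V).inv r • AModX.res N ((U.ι.image_mono hV).trans hW) e) := funext fun r =>
    congrArg (fun z : Γ(N, U.ι ''ᵁ V) => (show Γ(N.restrict U.ι, V) from (U.ι.appIso V).inv r • z))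
      (AModX.res_res hW (U.ι.image_mono hV) e)
  exact e' ▸ hb.comp hi

lemma res_restrict {W V : U.toScheme.Opens} (h : V ≤ W) (x : Γ(N, U.ι ''ᵁ W)) :
    AModX.res (N.restrict U.ι) h (show Γ(N.restrict U.ι, W) from x) =
      (show Γ(N.restrict U.ι, V) from AModX.res N (U.ι.image_mono h) x) := rfl

theorem isIso_hom_restrict (h : ∀ x ∈ U, ∃ (O : X.Opens) (_ : x ∈ O) (e : Γ(N, O)), InvX.IsFrame e ∧
    ∀ (W : X.Opens) (hW : W ≤ O), Function.Bijective fun a : Γ(M, W) => μ.app W a (AModX.res N hW e)) :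
    IsIso (μ.restrict U).hom := by
  refine (μ.restrict U).isIso_hom fun x => ?_
  obtain ⟨O, hxO, e, he, hbij⟩ := h x.1 x.2
  let O' : U.toScheme.Opens := U.ι ⁻¹ᵁ O
  have hO : U.ι ''ᵁ O' ≤ O := U.ι.image_preimage_le _
  refine ⟨O', hxO, (show Γ(N.restrict U.ι, O') from AModX.res N hO e), isFrame_restrict U he hO, fun W hW => ?_⟩
  have hres : AModX.res (N.restrict U.ι) hW (show Γ(N.restrict U.ι, O') from AModX.res N hO e) =
      (show Γ(N.restrict U.ι, W) from AModX.res N ((U.ι.image_mono hW).trans hO) e) :=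
    (res_restrict U hW (AModX.res N hO e)).trans (AModX.res_res hO (U.ι.image_mono hW) e)
  rw [hres]
  exact hbij (U.ι ''ᵁ W) ((U.ι.image_mono hW).trans hO)

end Groth.Agent.EgaQ.ModPairing
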