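import Groth.Agent.InvX.Tensor
import Groth.Agent.KFlatLib.Scheme.Exact

/-!
# Morphisms out of tensor products from bilinear pairings
-/

universe u

open CategoryTheory AlgebraicGeometry TopologicalSpace Opposite MonoidalCategory
open scoped TensorProduct

noncomputable section

set_option backward.isDefEq.respectTransparency false
set_option backward.isDefEq.respectTransparency.types false
set_option linter.all false
set_option maxHeartbeats 800000

namespace Groth.Agent.EgaQ



variable {X : Scheme.{u}} {M N Q : X.Modules}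

/-- A bilinear pairing of modules, compatible with restrictions. -/
structure ModPairing (M N Q : X.Modules) where
  app : ∀ U : X.Opens, Γ(M, U) → Γ(N, U) → Γ(Q, U)
  add_left : ∀ (U : X.Opens) a a' b, app U (a + a') b = app U a b + app U a' b
  add_right : ∀ (U : X.Opens) a b b', app U a (b + b') = app U a b + app U a b'
  smul_left : ∀ (U : X.Opens) (r : Γ(X, U)) a b, app U (r • a) b = r • app U a b
  smul_right : ∀ (U : X.Opens) (r : Γ(X, U)) a b, app U a (r • b) = r • app U a b
  res : ∀ {U V : X.Opens} (h : V ≤ U) a b,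
    app V (AModX.res M h a) (AModX.res N h b) = AModX.res Q h (app U a b)

namespace ModPairing

variable (μ : ModPairing M N Q)

/-- The pairing on presheaves. -/
def pre : CohB1.toPMod M ⊗ CohB1.toPMod N ⟶ DCoh.toP.obj Q where
  app U := ModuleCat.MonoidalCategory.tensorLift (fun s t => μ.app U.unop s t)
    (fun s s' t => μ.add_left _ s s' t) (fun c s t => μ.smul_left _ c s t)
    (fun s t t' => μ.add_right _ s t t') (fun c s t => μ.smul_right _ c s t)
  naturality {U V} i := ModuleCat.MonoidalCategory.tensor_ext fun s t => μ.res i.unop.le s t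

lemma pre_tm {U : X.Opens} (a : Γ(M, U)) (b : Γ(N, U)) :
    μ.pre.app (op U) (KFlatLib.tm a b) = μ.app U a b := rfl

/-- The morphism out of the tensor product. -/
def hom : CohB1.tensorMod M N ⟶ Q :=
  ((PresheafOfModules.sheafificationAdjunction (𝟙 X.ringCatSheaf.obj)).homEquiv _ _).symm μ.pre

lemma unit_hom : KFlatLib.unitShP (CohB1.toPMod M ⊗ CohB1.toPMod N) ≫ DCoh.toP.map μ.hom = μ.pre :=
  ((PresheafOfModules.sheafificationAdjunction (𝟙 X.ringCatSheaf.obj)).homEquiv_unit (f := μ.hom)).symm.trans
    (Equiv.apply_symm_apply _ _)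

lemma hom_tmul {U : X.Opens} (a : Γ(M, U)) (b : Γ(N, U)) :
    μ.hom.app U (InvX.tmul a b) = μ.app U a b := by
  have h := congrArg (fun φ : CohB1.toPMod M ⊗ CohB1.toPMod N ⟶ DCoh.toP.obj Q =>
    φ.app (op U) (KFlatLib.tm a b)) μ.unit_hom
  exact h.trans (μ.pre_tm a b)

open KFlatLib in
theorem isIso_hom (h : ∀ x : X, ∃ (U : X.Opens) (_ : x ∈ U) (e : Γ(N, U)), InvX.IsFrame e ∧
    ∀ (W : X.Opens) (hW : W ≤ U), Function.Bijective fun a : Γ(M, W) => μ.app W a (AModX.res N hW e)) :
    IsIso μ.hom := by
  apply KFlatLib.isIso_of_stalk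
  intro x
  obtain ⟨U, hx, e, he, hbij⟩ := h x
  haveI hu := isIso_stalk_unitShP (x := x) (CohB1.toPMod M ⊗ CohB1.toPMod N)
  suffices hpre : IsIso ((stalkP x).map μ.pre) by
    haveI : IsIso ((stalkP x).map (DCoh.toP.map μ.hom)) :=
      @IsIso.of_isIso_fac_left _ _ _ _ _ ((stalkP x).map (unitShP (CohB1.toPMod M ⊗ CohB1.toPMod N))) _
        ((stalkP x).map μ.pre) hu hpre
        (((stalkP x).map_comp _ _).symm.trans (congrArg (fun φ => (stalkP x).map φ) μ.unit_hom))
    exact (NatIso.isIso_map_iff (stalkToPIso x) μ.hom).2 this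
  rw [ConcreteCategory.isIso_iff_bijective]
  let P := CohB1.toPMod M
  let P' := CohB1.toPMod N
  let gb : stalkMod x P' := germP P' U hx e
  let eb := LinearEquiv.ofBijective (LinearMap.toSpanSingleton (X.presheaf.stalk x) (stalkMod x P') gb)
    (he.germ_bijective hx)
  let T := ((TensorProduct.rid (X.presheaf.stalk x) (stalkMod x P)).symm.trans
    (TensorProduct.congr (LinearEquiv.refl _ _) eb)).trans (tensorStalkEquiv P P')
  let L : (stalkMod x (P ⊗ P') : Type u) →ₗ[X.presheaf.stalk x] (stalkMod x (DCoh.toP.obj Q) : Type u) :=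
    ((stalkP x).map μ.pre).hom
  have key : ∀ (W : X.Opens) (hW : W ≤ U) (hxW : x ∈ W) (a : Γ(M, W)),
      L (T (germP P W hxW a)) = germP (DCoh.toP.obj Q) W hxW (μ.app W a (AModX.res N hW e)) := by
    intro W hW hxW a
    have hT : T (germP P W hxW a) = germP (P ⊗ P') W hxW (tm a (AModX.res N hW e)) := by
      show tensorStalkEquiv P P' (TensorProduct.congr (LinearEquiv.refl _ _) eb
        ((TensorProduct.rid _ _).symm (germP P W hxW a))) = _
      rw [TensorProduct.rid_symm_apply, TensorProduct.congr_tmul]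
      show tensorStalkEquiv P P' (germP P W hxW a ⊗ₜ ((1 : X.presheaf.stalk x) • gb)) = _
      rw [one_smul, show gb = germP P' W hxW (AModX.res N hW e) from (germP_res (P := P') (homOfLE hW) hxW e).symm]
      exact ofTensor_germ W hxW a _
    rw [hT]
    exact (stalkModMap_germ μ.pre W hxW _).trans rfl
  have hb : Function.Bijective (fun m => L (T m)) := by
    constructor
    · intro m m' hmm
      obtain ⟨W₁, h₁, a, rfl⟩ := exists_germP m
      obtain ⟨W₂, h₂, a', rfl⟩ := exists_germP m'
      let W := W₁ ⊓ W₂ ⊓ U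
      have hxW : x ∈ W := ⟨⟨h₁, h₂⟩, hx⟩
      rw [← germP_res (homOfLE (inf_le_left.trans inf_le_left : W ≤ W₁)) hxW a,
        ← germP_res (homOfLE (inf_le_left.trans inf_le_right : W ≤ W₂)) hxW a'] at hmm ⊢
      dsimp only at hmm
      rw [key W inf_le_right hxW, key W inf_le_right hxW] at hmm
      obtain ⟨W', hxW', i, j, hij⟩ := TopCat.Presheaf.germ_eq (C := AddCommGrpCat.{u})
        (DCoh.toP.obj Q).presheaf x hxW hxW _ _ hmm
      rw [← germP_res (P := P) i hxW', ← germP_res (P := P) i hxW']
      refine congrArg _ ((hbij W' (i.le.trans inf_le_right)).1 ?_)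
      have e1 : ∀ z, μ.app W' (AModX.res M i.le z) (AModX.res N (i.le.trans inf_le_right) e) =
          AModX.res Q i.le (μ.app W z (AModX.res N inf_le_right e)) := fun z => by
        rw [← μ.res, AModX.res_res]
      exact (e1 _).trans (hij.trans (e1 _).symm)
    · intro z
      obtain ⟨W₁, h₁, q, rfl⟩ := exists_germP z
      let W := W₁ ⊓ U
      have hxW : x ∈ W := ⟨h₁, hx⟩
      obtain ⟨a, ha⟩ := (hbij W inf_le_right).2 (AModX.res Q inf_le_left q)
      refine ⟨germP P W hxW a, ?_⟩
      show L (T _) = _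
      rw [key W inf_le_right hxW]
      exact (congrArg _ ha).trans (germP_res (P := DCoh.toP.obj Q) (homOfLE (inf_le_left : W ≤ W₁)) hxW q)
  show Function.Bijective ⇑L
  have e' : ⇑L = (fun m => L (T m)) ∘ T.symm := by
    funext z
    simp only [Function.comp_apply, LinearEquiv.apply_symm_apply]
  rw [e']
  exact hb.comp T.symm.bijective

end ModPairing

end Groth.Agent.EgaQ
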