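import Groth.Agent.EgaQ.Rel
import Mathlib.AlgebraicGeometry.Morphisms.ClosedImmersion

/-!
# Properties of `Proj(u)` read over affine pairs
-/

universe u

open CategoryTheory CategoryTheory.Limits AlgebraicGeometry TopologicalSpace Opposite
open scoped HomogeneousIdeal

noncomputable section

set_option backward.isDefEq.respectTransparency false

namespace Groth.Agent.EgaQ

variable {S S' : Scheme.{u}} {g : S' ⟶ S} {𝒮 : RelProj.QCGrAlg S} {𝒮' : RelProj.QCGrAlg S'}
  {u : RelProj.QGrHom g 𝒮 𝒮'}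
  {P : Scheme.{u}} {p : P ⟶ S}
  {chart : ∀ (U : S.Opens) (hU : IsAffineOpen U),
    (((p ⁻¹ᵁ U : P.Opens) : Scheme.{u}) ≅ Proj (𝒮.deg U hU))}
  {P' : Scheme.{u}} {p' : P' ⟶ S'}
  {chart' : ∀ (U' : S'.Opens) (hU' : IsAffineOpen U'),
    (((p' ⁻¹ᵁ U' : P'.Opens) : Scheme.{u}) ≅ Proj (𝒮'.deg U' hU'))}

lemma isProjQMapOn_of_isProjQMap {h : P' ⟶ P} (hh : RelProj.IsProjQMap u p chart p' chart' h) :
    RelProj.IsProjQMapOn u p chart p' chart' (RelProj.domQ u p' chart')
      ((RelProj.domQ u p' chart').ι ≫ h) := by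
  intro U hU U' hU' hle d hd f hf hW
  rw [IsOpenImmersion.lift_fac_assoc]
  exact hh.2 U hU U' hU' hle d hd f hf

lemma isProjQMap_of_isProjQMapOn (htop : RelProj.domQ u p' chart' = ⊤) {h : P' ⟶ P}
    (hh : RelProj.IsProjQMapOn u p chart p' chart' (RelProj.domQ u p' chart')
      ((RelProj.domQ u p' chart').ι ≫ h)) : RelProj.IsProjQMap u p chart p' chart' h := by
  refine ⟨htop, fun U hU U' hU' hle d hd f hf ↦ ?_⟩
  rw [← hh U hU U' hU' hle d hd f hf (RelProj.range_awayEmb_subset_domQ ..),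
    IsOpenImmersion.lift_fac_assoc]

/-- The inclusion of an everywhere defined `G(u)` is an isomorphism. -/
lemma isIso_ι_of_eq_top (htop : RelProj.domQ u p' chart' = ⊤) :
    IsIso (RelProj.domQ u p' chart').ι := by
  have : IsIso (⊤ : P'.Opens).ι := inferInstanceAs (IsIso P'.topIso.hom)
  rw [← Scheme.isoOfEq_hom_ι P' htop]
  infer_instance

lemma exists_isProjQMap (hP : RelProj.IsRelProj 𝒮 p chart) (hP' : RelProj.IsRelProj 𝒮' p' chart')
    (htop : RelProj.domQ u p' chart' = ⊤) : ∃ h, RelProj.IsProjQMap u p chart p' chart' h := by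
  obtain ⟨v, hv⟩ := exists_isProjQMapOn u hP' hP (p := p) (chart := chart)
  have := isIso_ι_of_eq_top (u := u) htop
  refine ⟨inv (RelProj.domQ u p' chart').ι ≫ v, isProjQMap_of_isProjQMapOn htop ?_⟩
  rwa [IsIso.hom_inv_id_assoc]

lemma projQMap_ext {h h' : P' ⟶ P} (hh : RelProj.IsProjQMap u p chart p' chart' h)
    (hh' : RelProj.IsProjQMap u p chart p' chart' h') : h = h' := by
  have := isIso_ι_of_eq_top (u := u) hh.1
  exact (cancel_epi (RelProj.domQ u p' chart').ι).mp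
    (projQMapOn_ext (isProjQMapOn_of_isProjQMap hh) (isProjQMapOn_of_isProjQMap hh'))

lemma projQMap_comp (hP : RelProj.IsRelProj 𝒮 p chart) (hP' : RelProj.IsRelProj 𝒮' p' chart')
    {h : P' ⟶ P} (hh : RelProj.IsProjQMap u p chart p' chart' h) : h ≫ p = p' ≫ g := by
  have := isIso_ι_of_eq_top (u := u) hh.1
  rw [← cancel_epi (RelProj.domQ u p' chart').ι, ← Category.assoc]
  exact projQMapOn_comp hP' hP (isProjQMapOn_of_isProjQMap hh)

variable (u) in
/-- The pairs give `G(u) = ⊤` as soon as they are everywhere defined near every point. -/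
lemma domQ_eq_top (h : ∀ y : S', ∃ π : APair g, y ∈ π.U' ∧ RelCone.domOpen (uAt u π) = ⊤) :
    RelProj.domQ u p' chart' = ⊤ := by
  refine eq_top_iff.mpr fun x _ ↦ ?_
  obtain ⟨π, hy, hπ⟩ := h (p' x)
  obtain ⟨z, rfl⟩ := mem_range_emb (p := p') (chart := chart') π.U' π.hU' x hy
  exact emb_mem_domQ u π (hπ.ge (Set.mem_univ z))

lemma domOpen_eq_top_of_domQ (hP' : RelProj.IsRelProj 𝒮' p' chart')
    (htop : RelProj.domQ u p' chart' = ⊤) (π : APair g) : RelCone.domOpen (uAt u π) = ⊤ :=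
  eq_top_iff.mpr fun z _ ↦ (emb_mem_domQ_iff u hP' π z).mp (htop.ge (Set.mem_univ _))

lemma opensRange_domι (hP' : RelProj.IsRelProj 𝒮' p' chart') (π : APair g) :
    (domι u (p' := p') (chart' := chart') π).opensRange =
      ((RelProj.domQ u p' chart').ι ≫ p') ⁻¹ᵁ π.U' := by
  ext x
  constructor
  · rintro ⟨z, rfl⟩
    show p' ((RelProj.domQ u p' chart').ι (domι u π z)) ∈ π.U'
    rw [← Scheme.Hom.comp_apply (domι u π), domι_ι]
    exact π_emb_mem π.U' π.hU' _
  · intro hx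
    obtain ⟨z, hz⟩ := mem_range_emb (p := p') (chart := chart') π.U' π.hU' x.1 hx
    refine ⟨⟨z, (emb_mem_domQ_iff u hP' π z).mp (hz ▸ x.2)⟩, ?_⟩
    apply (RelProj.domQ u p' chart').ι.isOpenEmbedding.injective
    rw [← Scheme.Hom.comp_apply, domι_ι]
    exact hz

/-- Over a pair whose source is the whole preimage, `Proj(u)` is the map of the pair. -/
lemma isPullback_pair (hP : RelProj.IsRelProj 𝒮 p chart) (hP' : RelProj.IsRelProj 𝒮' p' chart')
    {v : (RelProj.domQ u p' chart' : P'.Opens).toScheme ⟶ P}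
    (hv : RelProj.IsProjQMapOn u p chart p' chart' (RelProj.domQ u p' chart') v)
    (π : APair g) (hπ : π.U' = g ⁻¹ᵁ π.U) :
    IsPullback (domMap (uAt u π)) (domι u π) (RelProj.emb p chart π.U π.hU) v := by
  refine IsOpenImmersion.isPullback _ _ _ _ ?_ ?_
  · exact (isProjQMapOn_iff v).mp hv π
  · rw [opensRange_domι hP', RelTildeX.opensRange_emb, ← Scheme.Hom.comp_preimage,
      projQMapOn_comp hP' hP hv, Scheme.Hom.comp_preimage, Scheme.Hom.comp_preimage, hπ,
      Scheme.Hom.comp_preimage]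

/-- A property local at the target holds for `Proj(u)` if it holds over the affine opens. -/
lemma projQMapOn_of_pairs (hP : RelProj.IsRelProj 𝒮 p chart)
    (hP' : RelProj.IsRelProj 𝒮' p' chart')
    {v : (RelProj.domQ u p' chart' : P'.Opens).toScheme ⟶ P}
    (hv : RelProj.IsProjQMapOn u p chart p' chart' (RelProj.domQ u p' chart') v)
    (Pr : MorphismProperty Scheme.{u}) [IsZariskiLocalAtTarget Pr] [IsAffineHom g]
    (h : ∀ π : APair g, π.U' = g ⁻¹ᵁ π.U → Pr (domMap (uAt u π))) : Pr v := by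
  refine IsZariskiLocalAtTarget.of_openCover (RelTildeX.embCover p chart) fun U ↦ ?_
  let π : APair g := ⟨U.1, U.2, g ⁻¹ᵁ U.1, U.2.preimage g, le_rfl⟩
  have sq := isPullback_pair hP hP' hv π rfl
  change Pr (pullback.snd v (RelProj.emb p chart U.1 U.2))
  rw [← sq.flip.isoPullback_inv_snd]
  exact (MorphismProperty.cancel_left_of_respectsIso Pr _ _).mpr (h π rfl)

lemma projQMap_of_pairs (hP : RelProj.IsRelProj 𝒮 p chart)
    (hP' : RelProj.IsRelProj 𝒮' p' chart')
    {h : P' ⟶ P} (hh : RelProj.IsProjQMap u p chart p' chart' h)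
    (Pr : MorphismProperty Scheme.{u}) [IsZariskiLocalAtTarget Pr] [IsAffineHom g]
    (hPr : ∀ π : APair g, π.U' = g ⁻¹ᵁ π.U → Pr (domMap (uAt u π))) : Pr h := by
  have := isIso_ι_of_eq_top (u := u) hh.1
  exact (MorphismProperty.cancel_left_of_respectsIso Pr (RelProj.domQ u p' chart').ι h).mp
    (projQMapOn_of_pairs hP hP' (isProjQMapOn_of_isProjQMap hh) Pr hPr)

section ofHom

variable {𝒜 ℬ : RelProj.QCGrAlg S} (φ : 𝒜.toQCAlg ⟶ ℬ.toQCAlg) (hφ : RelProj.IsGradedHom φ)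

/-- The pair of an affine open with itself. -/
def idPair (U : S.Opens) (hU : IsAffineOpen U) : APair (𝟙 S) := ⟨U, hU, U, hU, le_rfl⟩

lemma uAt_ofHom_apply (U : S.Opens) (hU : IsAffineOpen U) (x : 𝒜.presheaf.obj (op U)) :
    uAt (RelProj.QGrHom.ofHom φ hφ) (idPair U hU) x = (φ.hom.app (op U)).hom x := by
  show (φ.hom.app (op U) ≫ ℬ.presheaf.map (homOfLE (le_refl U)).op).hom x = _
  rw [Subsingleton.elim (homOfLE (le_refl U)) (𝟙 U), op_id, ℬ.presheaf.map_id, Category.comp_id]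

lemma uAt_ofHom (U : S.Opens) (hU : IsAffineOpen U) :
    uAt (RelProj.QGrHom.ofHom φ hφ) (idPair U hU) = RelProj.gradedHomAt φ hφ U hU := by
  ext x
  exact uAt_ofHom_apply φ hφ U hU x

lemma eq_idPair (π : APair (𝟙 S)) (h : π.U' = (𝟙 S : S ⟶ S) ⁻¹ᵁ π.U) : π = idPair π.U π.hU := by
  obtain ⟨U, hU, U', hU', hle⟩ := π
  obtain rfl : U' = U := h
  rfl

lemma domQ_ofHom_inf {PB : Scheme.{u}} {pB : PB ⟶ S}
    {chartB : ∀ (U : S.Opens) (hU : IsAffineOpen U),
      (((pB ⁻¹ᵁ U : PB.Opens) : Scheme.{u}) ≅ Proj (ℬ.deg U hU))}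
    (hB : RelProj.IsRelProj ℬ pB chartB) (U : S.Opens) (hU : IsAffineOpen U) :
    RelProj.domQ (RelProj.QGrHom.ofHom φ hφ) pB chartB ⊓ pB ⁻¹ᵁ U =
      RelProj.emb pB chartB U hU ''ᵁ RelCone.domOpen (RelProj.gradedHomAt φ hφ U hU) := by
  rw [← uAt_ofHom φ hφ U hU]
  exact domQ_inf_preimage _ hB (idPair U hU)

end ofHom

end Groth.Agent.EgaQ
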