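import Groth.Agent.GrTwistX.Triv
import Groth.Agent.InvX.GenLocus
import Groth.Agent.RelTildeX.Invertible
import Groth.Agent.GrModX.MapProps

/-!
# Non-vanishing loci of global sections of twisting sheaves on a relative `Proj`
-/

noncomputable section

universe u

open CategoryTheory CategoryTheory.Limits AlgebraicGeometry TopologicalSpace Opposite
open scoped HomogeneousIdeal

set_option backward.isDefEq.respectTransparency false
set_option linter.all false
set_option maxHeartbeats 800000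

namespace Groth.Agent.EgaQ

open AModX (res resR)

lemma push_smul {X Z : Scheme.{u}} (j : Z ⟶ X) (N : Z.Modules) (W : X.Opens) (r : Γ(X, W))
    (x : Γ(N, j ⁻¹ᵁ W)) :
    (show Γ((Scheme.Modules.pushforward j).obj N, W) from r • (show Γ((Scheme.Modules.pushforward j).obj N, W) from x)) =
      (show Γ((Scheme.Modules.pushforward j).obj N, W) from j.app W r • x) := rfl

variable {Y P : Scheme.{u}} {𝒮 : RelProj.QCGrAlg Y} {p : P ⟶ Y}
  {chart : ∀ (U : Y.Opens) (hU : IsAffineOpen U), (((p ⁻¹ᵁ U : P.Opens) : Scheme.{u}) ≅ Proj (𝒮.deg U hU))}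
  {n : ℤ} {L : P.Modules}
  {lam : ∀ (U : Y.Opens) (hU : IsAffineOpen U),
    L ⟶ (Scheme.Modules.pushforward (RelProj.emb p chart U hU)).obj (GrTwist.twist (𝒮.deg U hU) n)}
  (hL : RelProj.IsRelTwist 𝒮 p chart n L lam)

include hL

/-- A section whose chart value is an invertible fraction is a frame. -/
theorem isFrame_of_unitFrac (U : Y.Opens) (hU : IsAffineOpen U) {W : P.Opens} (hW : W ≤ p ⁻¹ᵁ U) (a : Γ(L, W))
    (φ : GrTwistX.UnitFrac (𝒜 := 𝒮.deg U hU) n (RelProj.emb p chart U hU ⁻¹ᵁ W))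
    (ha : ∀ y, GrTwist.val (V := RelProj.emb p chart U hU ⁻¹ᵁ W) ((lam U hU).app W a) y =
      Localization.mk φ.num ⟨φ.den, φ.den_ne y⟩) :
    InvX.IsFrame a := by
  intro W' hW'
  let j := RelProj.emb p chart U hU
  let ψ := φ.res (j.preimage_mono hW')
  have hWp : W' ≤ j.opensRange := (hW'.trans hW).trans (RelTildeX.opensRange_emb p chart U hU).ge
  have ha' : (lam U hU).app W' (res L hW' a) = GrTwistX.fracSect ψ := by
    refine (AModX.app_res (lam U hU) hW' a).trans ?_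
    exact Subtype.ext (funext fun y => Subtype.ext (ha ⟨y.1, j.preimage_mono hW' y.2⟩))
  have hiso : Function.Bijective (j.app W') := by
    have : IsIso (j.app W') := Scheme.Hom.isIso_app j W' hWp
    exact ConcreteCategory.bijective_of_isIso _
  have hb : Function.Bijective ((fun x => (lam U hU).app W' x) ∘ fun r : Γ(P, W') => r • res L hW' a) := by
    have e : ((fun x => (lam U hU).app W' x) ∘ fun r : Γ(P, W') => r • res L hW' a) =
        fun r => (show Γ((Scheme.Modules.pushforward j).obj (GrTwist.twist (𝒮.deg U hU) n), W') from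
          GrTwistX.trivMap ψ (j.app W' r)) := by
      funext r
      show (lam U hU).app W' (r • res L hW' a) = _
      refine (Scheme.Modules.Hom.app_smul (lam U hU) r (res L hW' a)).trans ?_
      refine (congrArg (fun t : Γ((Scheme.Modules.pushforward j).obj (GrTwist.twist (𝒮.deg U hU) n), W') => r • t)
        ha').trans ?_
      refine (push_smul j (GrTwist.twist (𝒮.deg U hU) n) W' r (GrTwistX.fracSect ψ)).trans ?_
      exact (LinearMap.toSpanSingleton_apply _ _ (GrTwistX.fracSect ψ) (j.app W' r)).symm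
    rw [e]
    exact (GrTwistX.trivMap_bijective ψ).comp hiso
  exact ((hL.bijective U hU W' (hW'.trans hW)).of_comp_iff' _).mp hb

theorem eq_genLocus (hP : RelProj.IsRelProj 𝒮 p chart) (hgen : 𝒮.IsGenDegOne) {d : ℕ} (hn : n = d)
    (f : 𝒮.presheaf.obj (op ⊤))
    (hf : ∀ (U : Y.Opens) (hU : IsAffineOpen U), (𝒮.presheaf.map (homOfLE le_top).op).hom f ∈ 𝒮.deg U hU d)
    (Xf : P.Opens)
    (hXf : ∀ (U : Y.Opens) (hU : IsAffineOpen U) (y : Proj (𝒮.deg U hU)), RelProj.emb p chart U hU y ∈ Xf ↔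
      (𝒮.presheaf.map (homOfLE le_top).op).hom f ∉ y.asHomogeneousIdeal)
    (s : Coh.structureModule P ⟶ L)
    (hs : ∀ (U : Y.Opens) (hU : IsAffineOpen U) (y : Proj (𝒮.deg U hU)),
      GrTwist.val (V := RelProj.emb p chart U hU ⁻¹ᵁ ⊤)
        ((lam U hU).app ⊤ (InvX.one s)) ⟨y, Set.mem_univ _⟩ =
        Localization.mk ((𝒮.presheaf.map (homOfLE le_top).op).hom f) 1) :
    Xf = CohB1.genLocus L s := by
  refine le_antisymm (fun x hx => ?_) (fun x hx => ?_)
  · obtain ⟨_, ⟨U, hU, rfl⟩, hxU, -⟩ := Y.isBasis_affineOpens.exists_subset_of_mem_open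
      (Set.mem_univ (p x)) isOpen_univ
    let j := RelProj.emb p chart U hU
    have hne : ∀ y : (j ⁻¹ᵁ (Xf ⊓ p ⁻¹ᵁ U) : (Proj (𝒮.deg U hU)).Opens),
        (𝒮.presheaf.map (homOfLE le_top).op).hom f ∉ y.1.asHomogeneousIdeal := fun y => (hXf U hU y.1).mp y.2.1
    have hone : ∀ y : (j ⁻¹ᵁ (Xf ⊓ p ⁻¹ᵁ U) : (Proj (𝒮.deg U hU)).Opens),
        (1 : 𝒮.presheaf.obj (op U)) ∉ y.1.asHomogeneousIdeal := fun y h =>
      y.1.isPrime.ne_top ((Ideal.eq_top_iff_one _).mpr h)
    refine InvX.le_genLocus s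
      (isFrame_of_unitFrac hL U hU (inf_le_right : Xf ⊓ p ⁻¹ᵁ U ≤ p ⁻¹ᵁ U) _
        ⟨d, 0, _, 1, hf U hU, SetLike.GradedOne.one_mem, by simp [hn], hne, hone⟩ fun y => ?_) ⟨hx, hxU⟩
    refine Eq.trans ?_ ((hs U hU y.1).trans (congrArg (Localization.mk _) (Subtype.ext rfl)))
    exact congrArg (fun t => GrTwist.val (V := j ⁻¹ᵁ (Xf ⊓ p ⁻¹ᵁ U)) t y)
      (AModX.app_res (lam U hU) le_top (InvX.one s))
  · obtain ⟨_, ⟨U, hU, rfl⟩, hxU, -⟩ := Y.isBasis_affineOpens.exists_subset_of_mem_open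
      (Set.mem_univ (p x)) isOpen_univ
    let j := RelProj.emb p chart U hU
    have hxr : x ∈ j.opensRange := by rw [RelTildeX.opensRange_emb]; exact hxU
    obtain ⟨y, rfl⟩ := hxr
    rw [hXf]
    intro hfy
    obtain ⟨g, hg, hgy⟩ : ∃ g ∈ 𝒮.deg U hU 1, g ∉ y.asHomogeneousIdeal := by
      by_contra! hall
      exact y.not_irrelevant_le (show ((𝒮.deg U hU)₊).toIdeal ≤ y.asHomogeneousIdeal.toIdeal from
        RelTildeX.irrelevant_eq_span_deg_one hgen U hU ▸ Ideal.span_le.mpr hall)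
    let G : (Proj (𝒮.deg U hU)).Opens := Proj.basicOpen _ g
    obtain ⟨V, hV, hxV⟩ := Opens.mem_sSup.1 hx
    have hVf := (InvX.isIso_restrict_iff s V).1 hV
    let W : P.Opens := V ⊓ j ''ᵁ G
    have hWU : W ≤ p ⁻¹ᵁ U := inf_le_right.trans
      ((j.image_le_opensRange G).trans (RelTildeX.opensRange_emb p chart U hU).le)
    have hyW : y ∈ j ⁻¹ᵁ W := ⟨hxV, y, hgy, rfl⟩
    have hgW : ∀ z : (j ⁻¹ᵁ W : (Proj (𝒮.deg U hU)).Opens), g ^ d ∉ z.1.asHomogeneousIdeal := fun z h => by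
      obtain ⟨z', hz', e⟩ := z.2.2
      obtain rfl := j.isOpenEmbedding.injective e
      exact hz' (z.1.isPrime.mem_of_pow_mem d h)
    have hgd : g ^ d ∈ 𝒮.deg U hU d := by simpa using SetLike.pow_mem_graded d hg
    let φ : GrTwistX.UnitFrac (𝒜 := 𝒮.deg U hU) n (j ⁻¹ᵁ W) :=
      ⟨d, 0, g ^ d, 1, hgd, SetLike.GradedOne.one_mem, by simp [hn], hgW,
        fun z h => z.1.isPrime.ne_top ((Ideal.eq_top_iff_one _).mpr h)⟩
    obtain ⟨e, he⟩ := (hL.bijective U hU W hWU).2
      (show Γ((Scheme.Modules.pushforward j).obj (GrTwist.twist (𝒮.deg U hU) n), W) from GrTwistX.fracSect φ)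
    obtain ⟨b, hb⟩ := hVf.exists_coord (inf_le_left : W ≤ V) e
    rw [AModX.res_res] at hb
    have h1 := congrArg ((lam U hU).app W) hb
    rw [Scheme.Modules.Hom.app_smul, he, AModX.app_res] at h1
    have h3 := congrArg (fun t => GrTwist.val (V := j ⁻¹ᵁ W) t ⟨y, hyW⟩) h1
    let c : GrTwist.O (𝒜 := 𝒮.deg U hU) (op (j ⁻¹ᵁ W)) := j.app W b
    have h4 : (Localization.mk (g ^ d) ⟨1, fun h => y.isPrime.ne_top ((Ideal.eq_top_iff_one _).mpr h)⟩ :
        GrTwist.Loc (𝒮.deg U hU) y) =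
        (c.1 ⟨y, hyW⟩).val * Localization.mk ((𝒮.presheaf.map (homOfLE le_top).op).hom f) 1 := by
      have hsy := hs U hU y
      rw [← hsy]
      first
        | exact h3.trans (GrTwist.coe_smul_val n y _ _)
        | exact h3.symm.trans (GrTwist.coe_smul_val n y _ _)
    obtain ⟨q, hq⟩ := HomogeneousLocalization.mk_surjective (c.1 ⟨y, hyW⟩)
    rw [← hq, HomogeneousLocalization.val_mk, Localization.mk_mul, Localization.mk_eq_mk_iff,
      Localization.r_iff_exists] at h4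
    obtain ⟨u, hu⟩ := h4
    simp only [mul_one, Submonoid.coe_mul, Submonoid.coe_one, one_mul] at hu
    have hmem : (u : 𝒮.presheaf.obj (op U)) * ((q.den : 𝒮.presheaf.obj (op U)) * g ^ d) ∈
        y.asHomogeneousIdeal.toIdeal := by
      rw [hu]
      exact Ideal.mul_mem_left _ _ (Ideal.mul_mem_left _ _ hfy)
    rcases y.isPrime.mem_or_mem hmem with h | h
    · exact u.2 h
    · rcases y.isPrime.mem_or_mem h with h' | h'
      · exact q.den_mem h'
      · exact hgy (y.isPrime.mem_of_pow_mem d h')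

end Groth.Agent.EgaQ
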