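import Groth.Agent.EgaQ.Pairing
import Groth.Agent.EgaQ.TwistExist
import Groth.Agent.EgaQ.TwistLocus
import Groth.Agent.RelTildeX.Glue
import Groth.Agent.RelTildeX.Invertible
import Groth.Agent.GrTwistX.Triv
import Groth.Agent.AModX.Res

/-!
# The pairing `M~(m) ⊗ O(n) → M~(m + n)` on a relative `Proj`
-/

noncomputable section

universe u

open CategoryTheory CategoryTheory.Limits AlgebraicGeometry TopologicalSpace Opposite
open scoped HomogeneousIdeal

set_option backward.isDefEq.respectTransparency false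
set_option linter.all false
set_option maxHeartbeats 1600000

namespace Groth.Agent.EgaQ.RelPair

section chart

variable {A σ : Type u} [CommRing A] [SetLike σ A] [AddSubgroupClass σ A] {𝒜 : ℕ → σ} [GradedRing 𝒜]
  {M τ : Type u} [AddCommGroup M] [Module A M] [SetLike τ M] [AddSubgroupClass τ M] {ℳ : ℕ → τ}
  [SetLike.GradedSMul 𝒜 ℳ]

lemma smul_mem_tildeAt {m n k : ℤ} (hk : k = m + n) {x : ProjectiveSpectrum 𝒜} {r : GrTwist.Loc 𝒜 x}
    (hr : r ∈ GrTwist.twistAt 𝒜 n x) {q : GrMod.LocMod 𝒜 (M := M) x} (hq : q ∈ GrMod.tildeAt 𝒜 ℳ m x) :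
    r • q ∈ GrMod.tildeAt 𝒜 ℳ k x := by
  induction hr using Submodule.span_induction with
  | mem r hr =>
    induction hq using Submodule.span_induction with
    | mem q hq =>
      obtain ⟨i, j, a, s, hs, hij, rfl⟩ := hr
      obtain ⟨i', j', b, t, ht, hij', rfl⟩ := hq
      rw [LocalizedModule.mk_smul_mk]
      exact Submodule.subset_span ⟨i + i', j + j', ⟨(a : A) • (b : M), SetLike.GradedSMul.smul_mem a.2 b.2⟩,
        ⟨(s : A) * t, SetLike.mul_mem_graded s.2 t.2⟩, GrTwistX.mul_notMem hs ht, by push_cast; omega, rfl⟩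
    | zero => rw [smul_zero]; exact zero_mem _
    | add y z _ _ hy hz => rw [smul_add]; exact add_mem hy hz
    | smul c y _ hy =>
      rw [GrMod.a0_smul_def, smul_comm, ← GrMod.a0_smul_def]
      exact Submodule.smul_mem _ c hy
  | zero => rw [zero_smul]; exact zero_mem _
  | add y z _ _ hy hz => rw [add_smul]; exact add_mem hy hz
  | smul c y _ hy =>
    rw [Algebra.smul_def, mul_smul, HomogeneousLocalization.algebraMap_apply, ← GrMod.a0_smul_def]
    exact Submodule.smul_mem _ c hy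

/-- The product of a section of a twist with a section of a twisted module. -/
def mulTilde {m n k : ℤ} (hk : k = m + n) {V : Opens (ProjectiveSpectrum.top 𝒜)}
    (r : GrTwist.sectN (𝒜 := 𝒜) n (op V)) (q : GrMod.sect 𝒜 ℳ m (op V)) : GrMod.sect 𝒜 ℳ k (op V) :=
  ⟨fun x => ⟨(r.1 x).1 • (q.1 x).1, smul_mem_tildeAt hk (r.1 x).2 (q.1 x).2⟩, fun x => by
    obtain ⟨Va, ma, ia, i, j, a, s, ns, hij, w⟩ := r.2 x
    obtain ⟨Vb, mb, ib, i', j', b, t, nt, hij', w'⟩ := q.2 x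
    refine ⟨Va ⊓ Vb, ⟨ma, mb⟩, Opens.infLELeft _ _ ≫ ia, i + i', j + j',
      ⟨(a : A) • (b : M), SetLike.GradedSMul.smul_mem a.2 b.2⟩,
      ⟨(s : A) * t, SetLike.mul_mem_graded s.2 t.2⟩,
      fun y => GrTwistX.mul_notMem (ns ⟨y.1, y.2.1⟩) (nt ⟨y.1, y.2.2⟩), ?_, fun y => ?_⟩
    · rcases hij with h | h
      · rcases hij' with h' | h'
        · exact Or.inl (by push_cast; omega)
        · exact Or.inr (show (a : A) • (b : M) = 0 by rw [h', smul_zero])
      · exact Or.inr (show (a : A) • (b : M) = 0 by rw [h, zero_smul])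
    · show (r.1 (ia ⟨y.1, y.2.1⟩)).1 • (q.1 (ib ⟨y.1, y.2.2⟩)).1 = _
      rw [show (r.1 (ia ⟨y.1, y.2.1⟩)).1 = _ from w ⟨y.1, y.2.1⟩,
        show (q.1 (ib ⟨y.1, y.2.2⟩)).1 = _ from w' ⟨y.1, y.2.2⟩, LocalizedModule.mk_smul_mk]
      rfl⟩

lemma mulTilde_coe {m n k : ℤ} (hk : k = m + n) {V : Opens (ProjectiveSpectrum.top 𝒜)}
    (r : GrTwist.sectN (𝒜 := 𝒜) n (op V)) (q : GrMod.sect 𝒜 ℳ m (op V)) (x : V) :
    ((mulTilde hk r q).1 x).1 = (r.1 x).1 • (q.1 x).1 := rfl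

theorem mulTilde_bijective {m n k : ℤ} (hk : k = m + n) {V : Opens (ProjectiveSpectrum.top 𝒜)}
    (φ : GrTwistX.UnitFrac (𝒜 := 𝒜) n V) :
    Function.Bijective fun q : GrMod.sect 𝒜 ℳ m (op V) => mulTilde hk (GrTwistX.fracSect φ) q := by
  let φ' : GrTwistX.UnitFrac (𝒜 := 𝒜) (-n) V :=
    ⟨φ.j, φ.i, φ.den, φ.num, φ.den_mem, φ.num_mem, by have := φ.deg; omega, φ.den_ne, φ.num_ne⟩
  have hinv : ∀ x : V, ((GrTwistX.fracSect φ').1 x).1 * ((GrTwistX.fracSect φ).1 x).1 = 1 := fun x => by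
    show Localization.mk φ.den ⟨φ.num, φ.num_ne x⟩ * Localization.mk φ.num ⟨φ.den, φ.den_ne x⟩ = 1
    rw [Localization.mk_mul, ← Localization.mk_one, Localization.mk_eq_mk_iff, Localization.r_iff_exists]
    exact ⟨1, by simp [mul_comm]⟩
  refine ⟨fun q q' h => ?_, fun t => ⟨mulTilde (show m = k + -n by omega) (GrTwistX.fracSect φ') t, ?_⟩⟩
  · refine Subtype.ext (funext fun x => Subtype.ext ?_)
    have h' := congrArg (fun z => ((GrTwistX.fracSect φ').1 x).1 • (z.1 x).1) h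
    simp only [mulTilde_coe, smul_smul, hinv, one_smul] at h'
    exact h'
  · refine Subtype.ext (funext fun x => Subtype.ext ?_)
    simp only [mulTilde_coe, smul_smul]
    rw [mul_comm, hinv, one_smul]

end chart

variable {Y P : Scheme.{u}} {𝒮 : RelProj.QCGrAlg Y}

/-- The algebra as a graded module over itself. -/
def selfModule (𝒮 : RelProj.QCGrAlg Y) : RelProj.GrModule 𝒮 where
  mod := SheafOfModules.unit (AMod.ringSheaf 𝒮.toQCAlg)
  deg U hU d := 𝒮.deg U hU d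
  decomp U hU := (𝒮.graded U hU).toDecomposition
  gradedSMul U hU := ⟨fun i j (a : 𝒮.presheaf.obj (op U)) (b : 𝒮.presheaf.obj (op U)) ha hb =>
    (show a * b ∈ 𝒮.deg U hU (i + j) from SetLike.mul_mem_graded (A := 𝒮.deg U hU) ha hb)⟩
  map_mem hU hV i _ _ h := 𝒮.map_mem hU hV i h

variable {p : P ⟶ Y}
  {chart : ∀ (U : Y.Opens) (hU : IsAffineOpen U), (((p ⁻¹ᵁ U : P.Opens) : Scheme.{u}) ≅ Proj (𝒮.deg U hU))}

lemma isRelTilde_self {n : ℤ} {L : P.Modules}
    {lam : ∀ (U : Y.Opens) (hU : IsAffineOpen U),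
      L ⟶ (Scheme.Modules.pushforward (RelProj.emb p chart U hU)).obj (GrTwist.twist (𝒮.deg U hU) n)}
    (hL : RelProj.IsRelTwist 𝒮 p chart n L lam) :
    RelProj.IsRelTilde 𝒮 p chart (selfModule 𝒮) n L lam where
  bijective := hL.bijective
  compat U hU r W s y hy hy' := (hL.compat U hU r W s y hy hy').trans
    (TwistGlue.locModMap_selfMap _ _ y _).symm

variable {ℳ : RelProj.GrModule 𝒮} {m n k : ℤ} {F L G : P.Modules}
  {lamF : ∀ (U : Y.Opens) (hU : IsAffineOpen U),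
    F ⟶ (Scheme.Modules.pushforward (RelProj.emb p chart U hU)).obj (GrMod.tilde (𝒮.deg U hU) (ℳ.deg U hU) m)}
  {lamL : ∀ (U : Y.Opens) (hU : IsAffineOpen U),
    L ⟶ (Scheme.Modules.pushforward (RelProj.emb p chart U hU)).obj (GrTwist.twist (𝒮.deg U hU) n)}
  {lamG : ∀ (U : Y.Opens) (hU : IsAffineOpen U),
    G ⟶ (Scheme.Modules.pushforward (RelProj.emb p chart U hU)).obj (GrMod.tilde (𝒮.deg U hU) (ℳ.deg U hU) k)}

variable (lamF lamL lamG) in
/-- In the chart over `U`, `t` is the product of `a` and `b`. -/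
def RelAt (U : Y.Opens) (hU : IsAffineOpen U) {O : P.Opens} (a : Γ(F, O)) (b : Γ(L, O)) (t : Γ(G, O)) : Prop :=
  ∀ (y : ProjectiveSpectrum (𝒮.deg U hU)) (hy : (RelProj.emb p chart U hU).base y ∈ O),
    GrMod.val (V := RelProj.emb p chart U hU ⁻¹ᵁ O) ((lamG U hU).app O t) ⟨y, hy⟩ =
      GrTwist.val (V := RelProj.emb p chart U hU ⁻¹ᵁ O) ((lamL U hU).app O b) ⟨y, hy⟩ •
        GrMod.val (V := RelProj.emb p chart U hU ⁻¹ᵁ O) ((lamF U hU).app O a) ⟨y, hy⟩

lemma RelAt.res {U : Y.Opens} {hU : IsAffineOpen U} {O O' : P.Opens} (i : O' ≤ O) {a : Γ(F, O)} {b : Γ(L, O)}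
    {t : Γ(G, O)} (h : RelAt lamF lamL lamG U hU a b t) :
    RelAt lamF lamL lamG U hU (AModX.res F i a) (AModX.res L i b) (AModX.res G i t) := fun y hy => by
  have e1 := congrArg (fun z => GrMod.val (V := RelProj.emb p chart U hU ⁻¹ᵁ O') z ⟨y, hy⟩)
    (AModX.app_res (lamG U hU) i t)
  have e2 := congrArg (fun z => GrTwist.val (V := RelProj.emb p chart U hU ⁻¹ᵁ O') z ⟨y, hy⟩)
    (AModX.app_res (lamL U hU) i b)
  have e3 := congrArg (fun z => GrMod.val (V := RelProj.emb p chart U hU ⁻¹ᵁ O') z ⟨y, hy⟩)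
    (AModX.app_res (lamF U hU) i a)
  exact e1.trans ((h y (i hy)).trans (congr_arg₂ (· • ·) e2 e3).symm)

variable (hP : RelProj.IsRelProj 𝒮 p chart) (hF : RelProj.IsRelTilde 𝒮 p chart ℳ m F lamF)
  (hL : RelProj.IsRelTwist 𝒮 p chart n L lamL) (hG : RelProj.IsRelTilde 𝒮 p chart ℳ k G lamG)
  (hk : k = m + n)

include hP hF hL hG in
lemma RelAt.down {U : Y.Opens} {hU : IsAffineOpen U} (r : Γ(Y, U)) {D : Y.Opens} (hD : IsAffineOpen D)
    (e : D = Y.basicOpen r) {O : P.Opens} {a : Γ(F, O)} {b : Γ(L, O)} {t : Γ(G, O)}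
    (h : RelAt lamF lamL lamG U hU a b t) : RelAt lamF lamL lamG D hD a b t := by
  subst e
  intro z hz
  have hy : (RelProj.emb p chart U hU).base (ProjectiveSpectrum.comap
      (𝒮.res hU (hU.basicOpen r) (Y.basicOpen_le r)) (𝒮.irrelevant_le_map U hU r) z) ∈ O := by
    have h2 := congrArg (fun ψ : Proj (𝒮.deg (Y.basicOpen r) (hU.basicOpen r)) ⟶ P => ψ.base z)
      (RelProj.map_res_emb hP U hU r)
    exact (show _ = _ from h2).symm ▸ hz
  rw [hG.compat U hU r O t z hz hy, hF.compat U hU r O a z hz hy, hL.compat U hU r O b z hz hy, h _ hy,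
    GrMod.locModMap_smul]

lemma val_ext (hG : RelProj.IsRelTilde 𝒮 p chart ℳ k G lamG) {U : Y.Opens} {hU : IsAffineOpen U}
    {O : P.Opens} (hO : O ≤ p ⁻¹ᵁ U) {t t' : Γ(G, O)}
    (he : ∀ (y : ProjectiveSpectrum (𝒮.deg U hU)) (hy : (RelProj.emb p chart U hU).base y ∈ O),
      GrMod.val (V := RelProj.emb p chart U hU ⁻¹ᵁ O) ((lamG U hU).app O t) ⟨y, hy⟩ =
        GrMod.val (V := RelProj.emb p chart U hU ⁻¹ᵁ O) ((lamG U hU).app O t') ⟨y, hy⟩) : t = t' :=
  (hG.bijective U hU O hO).1 (GrModX.ext_val _ _ fun y => he y.1 y.2)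

include hG in
lemma rel_unique {O : P.Opens} {a : Γ(F, O)} {b : Γ(L, O)} {t t' : Γ(G, O)}
    (h : ∀ U hU, RelAt lamF lamL lamG U hU a b t) (h' : ∀ U hU, RelAt lamF lamL lamG U hU a b t') : t = t' := by
  refine TopCat.Sheaf.eq_of_locally_eq' ⟨G.presheaf, G.isSheaf⟩
    (fun U : Y.affineOpens => O ⊓ p ⁻¹ᵁ U.1) O (fun _ => homOfLE inf_le_left) (fun x hx => ?_) _ _ fun U => ?_
  · obtain ⟨_, ⟨U, hU, rfl⟩, hxU, -⟩ := Y.isBasis_affineOpens.exists_subset_of_mem_open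
      (Set.mem_univ (p x)) isOpen_univ
    exact Opens.mem_iSup.2 ⟨⟨U, hU⟩, hx, hxU⟩
  · exact val_ext hG (hU := U.2) inf_le_right fun y hy =>
      ((h U.1 U.2).res inf_le_left y hy).trans ((h' U.1 U.2).res inf_le_left y hy).symm

include hk hG in
lemma exists_relAt (U : Y.Opens) (hU : IsAffineOpen U) {O : P.Opens} (hO : O ≤ p ⁻¹ᵁ U) (a : Γ(F, O))
    (b : Γ(L, O)) : ∃ t : Γ(G, O), RelAt lamF lamL lamG U hU a b t := by
  obtain ⟨t, ht⟩ := (hG.bijective U hU O hO).2 (mulTilde (V := RelProj.emb p chart U hU ⁻¹ᵁ O) hk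
    ((lamL U hU).app O b) ((lamF U hU).app O a))
  exact ⟨t, fun y hy => congrArg (fun z => GrMod.val (V := RelProj.emb p chart U hU ⁻¹ᵁ O) z ⟨y, hy⟩) ht⟩

include hP hF hL hG hk in
lemma exists_rel (O : P.Opens) (a : Γ(F, O)) (b : Γ(L, O)) :
    ∃ t : Γ(G, O), ∀ U hU, RelAt lamF lamL lamG U hU a b t := by
  have hup : ∀ {U : Y.Opens} {hU : IsAffineOpen U} {O : P.Opens} (hO : O ≤ p ⁻¹ᵁ U) {a : Γ(F, O)}
      {b : Γ(L, O)} {t : Γ(G, O)}, RelAt lamF lamL lamG U hU a b t →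
      ∀ V hV, RelAt lamF lamL lamG V hV a b t := by
    intro U hU O hO a b t ht V hV y hy
    have hxV : (RelProj.emb p chart V hV).base y ∈ p ⁻¹ᵁ V := by
      rw [← RelTildeX.opensRange_emb p chart V hV]; exact ⟨y, rfl⟩
    obtain ⟨r, r', e, hxr⟩ := exists_basicOpen_le_affine_inter hU hV
      (p.base ((RelProj.emb p chart V hV).base y)) ⟨hO hy, hxV⟩
    have hi : O ⊓ p ⁻¹ᵁ Y.basicOpen r ≤ O := inf_le_left
    have hiV : O ⊓ p ⁻¹ᵁ Y.basicOpen r ≤ p ⁻¹ᵁ V :=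
      inf_le_right.trans (p.preimage_mono (e.le.trans (Y.basicOpen_le r')))
    obtain ⟨t', ht'⟩ := exists_relAt hG hk V hV hiV (AModX.res F hi a) (AModX.res L hi b)
    have h1 := RelAt.down hP hF hL hG r (hU.basicOpen r) rfl (ht.res hi)
    have h2 := RelAt.down hP hF hL hG r' (hU.basicOpen r) e ht'
    have heq : t' = AModX.res G hi t :=
      val_ext hG (hU := hU.basicOpen r) inf_le_right fun z hz => (h2 z hz).trans (h1 z hz).symm
    subst heq
    have e1 := congrArg (fun z => GrMod.val (V := RelProj.emb p chart V hV ⁻¹ᵁ (O ⊓ p ⁻¹ᵁ Y.basicOpen r)) z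
      ⟨y, hy, hxr⟩) (AModX.app_res (lamG V hV) hi t)
    have e2 := congrArg (fun z => GrTwist.val (V := RelProj.emb p chart V hV ⁻¹ᵁ (O ⊓ p ⁻¹ᵁ Y.basicOpen r)) z
      ⟨y, hy, hxr⟩) (AModX.app_res (lamL V hV) hi b)
    have e3 := congrArg (fun z => GrMod.val (V := RelProj.emb p chart V hV ⁻¹ᵁ (O ⊓ p ⁻¹ᵁ Y.basicOpen r)) z
      ⟨y, hy, hxr⟩) (AModX.app_res (lamF V hV) hi a)
    exact e1.symm.trans ((ht' y ⟨hy, hxr⟩).trans (congr_arg₂ (· • ·) e2 e3))
  have hloc : ∀ U : Y.affineOpens, ∃ t : Γ(G, O ⊓ p ⁻¹ᵁ U.1), ∀ V hV,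
      RelAt lamF lamL lamG V hV (AModX.res F inf_le_left a) (AModX.res L inf_le_left b) t := fun U => by
    obtain ⟨t, ht⟩ := exists_relAt hG hk U.1 U.2 (O := O ⊓ p ⁻¹ᵁ U.1) inf_le_right
      (AModX.res F inf_le_left a) (AModX.res L inf_le_left b)
    exact ⟨t, hup inf_le_right ht⟩
  choose t ht using hloc
  obtain ⟨T, hT, -⟩ := TopCat.Sheaf.existsUnique_gluing' ⟨G.presheaf, G.isSheaf⟩
    (fun U : Y.affineOpens => O ⊓ p ⁻¹ᵁ U.1) O (fun _ => homOfLE inf_le_left)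
    (fun x hx => by
      obtain ⟨_, ⟨U, hU, rfl⟩, hxU, -⟩ := Y.isBasis_affineOpens.exists_subset_of_mem_open
        (Set.mem_univ (p x)) isOpen_univ
      exact Opens.mem_iSup.2 ⟨⟨U, hU⟩, hx, hxU⟩) t
    (fun U V => by
      refine rel_unique (lamF := lamF) (lamL := lamL) hG (a := AModX.res F (inf_le_left.trans inf_le_left) a)
        (b := AModX.res L (inf_le_left.trans inf_le_left) b) (fun A hA => ?_) fun A hA => ?_
      · have := (ht U A hA).res (inf_le_left : (O ⊓ p ⁻¹ᵁ U.1) ⊓ (O ⊓ p ⁻¹ᵁ V.1) ≤ _)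
        rw [AModX.res_res, AModX.res_res] at this
        exact this
      · have := (ht V A hA).res (inf_le_right : (O ⊓ p ⁻¹ᵁ U.1) ⊓ (O ⊓ p ⁻¹ᵁ V.1) ≤ _)
        rw [AModX.res_res, AModX.res_res] at this
        exact this)
  refine ⟨T, fun V hV y hy => ?_⟩
  obtain ⟨_, ⟨U, hU, rfl⟩, hxU, -⟩ := Y.isBasis_affineOpens.exists_subset_of_mem_open
    (Set.mem_univ (p.base ((RelProj.emb p chart V hV).base y))) isOpen_univ
  have h := ht ⟨U, hU⟩ V hV y ⟨hy, hxU⟩
  rw [show t ⟨U, hU⟩ = AModX.res G inf_le_left T from (hT ⟨U, hU⟩).symm] at h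
  have e1 := congrArg (fun z => GrMod.val (V := RelProj.emb p chart V hV ⁻¹ᵁ (O ⊓ p ⁻¹ᵁ U)) z
    ⟨y, hy, hxU⟩) (AModX.app_res (lamG V hV) inf_le_left T)
  have e2 := congrArg (fun z => GrTwist.val (V := RelProj.emb p chart V hV ⁻¹ᵁ (O ⊓ p ⁻¹ᵁ U)) z
    ⟨y, hy, hxU⟩) (AModX.app_res (lamL V hV) inf_le_left b)
  have e3 := congrArg (fun z => GrMod.val (V := RelProj.emb p chart V hV ⁻¹ᵁ (O ⊓ p ⁻¹ᵁ U)) z
    ⟨y, hy, hxU⟩) (AModX.app_res (lamF V hV) inf_le_left a)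
  exact e1.symm.trans (h.trans (congr_arg₂ (· • ·) e2 e3))

/-- The glued pairing. -/
def pairing : ModPairing F L G where
  app O a b := (exists_rel hP hF hL hG hk O a b).choose
  add_left O a a' b := rel_unique hG (exists_rel hP hF hL hG hk O (a + a') b).choose_spec fun U hU y hy => by
    have h1 := (exists_rel hP hF hL hG hk O a b).choose_spec U hU y hy
    have h2 := (exists_rel hP hF hL hG hk O a' b).choose_spec U hU y hy
    rw [map_add, map_add]
    exact (congr_arg₂ (· + ·) h1 h2).trans (smul_add _ _ _).symm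
  add_right O a b b' := rel_unique hG (exists_rel hP hF hL hG hk O a (b + b')).choose_spec fun U hU y hy => by
    have h1 := (exists_rel hP hF hL hG hk O a b).choose_spec U hU y hy
    have h2 := (exists_rel hP hF hL hG hk O a b').choose_spec U hU y hy
    rw [map_add, map_add]
    exact (congr_arg₂ (· + ·) h1 h2).trans (add_smul _ _ _).symm
  smul_left O r a b := rel_unique hG (exists_rel hP hF hL hG hk O (r • a) b).choose_spec fun U hU y hy => by
    have h1 := (exists_rel hP hF hL hG hk O a b).choose_spec U hU y hy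
    rw [Scheme.Modules.Hom.app_smul, Scheme.Modules.Hom.app_smul]
    refine (GrMod.coe_smul_val k y _ _).trans ?_
    refine ((congrArg _ h1).trans (smul_comm _ _ _)).trans (congrArg _ ?_)
    exact (GrMod.coe_smul_val m y _ _).symm
  smul_right O r a b := rel_unique hG (exists_rel hP hF hL hG hk O a (r • b)).choose_spec fun U hU y hy => by
    have h1 := (exists_rel hP hF hL hG hk O a b).choose_spec U hU y hy
    rw [Scheme.Modules.Hom.app_smul, Scheme.Modules.Hom.app_smul]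
    refine (GrMod.coe_smul_val k y _ _).trans ?_
    refine ((congrArg _ h1).trans (mul_smul _ _ _).symm).trans (congrArg (· • _) ?_)
    exact (GrTwist.coe_smul_val n y _ _).symm
  res {U V} h a b := rel_unique hG (exists_rel hP hF hL hG hk V _ _).choose_spec
    fun A hA => ((exists_rel hP hF hL hG hk U a b).choose_spec A hA).res h

include hP hF hL hG hk in
/-- The pairing with a unit fraction is bijective. -/
theorem exists_frame_bijective (U : Y.Opens) (hU : IsAffineOpen U) {O : P.Opens} (hO : O ≤ p ⁻¹ᵁ U)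
    (φn : GrTwistX.UnitFrac (𝒜 := 𝒮.deg U hU) n (RelProj.emb p chart U hU ⁻¹ᵁ O)) :
    ∃ e : Γ(L, O), InvX.IsFrame e ∧ ∀ (W : P.Opens) (hW : W ≤ O),
      Function.Bijective fun a : Γ(F, W) => (pairing hP hF hL hG hk).app W a (AModX.res L hW e) := by
  let j := RelProj.emb p chart U hU
  obtain ⟨e, he⟩ := (hL.bijective U hU O hO).2
    (show Γ((Scheme.Modules.pushforward j).obj (GrTwist.twist (𝒮.deg U hU) n), O) from GrTwistX.fracSect φn)
  refine ⟨e, EgaQ.isFrame_of_unitFrac hL U hU hO e φn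
    (fun z => congrArg (fun t => GrTwist.val (V := j ⁻¹ᵁ O) t z) he), fun W hW => ?_⟩
  have hb := (mulTilde_bijective (ℳ := ℳ.deg U hU) hk (φn.res (j.preimage_mono hW))).comp
    (hF.bijective U hU W (hW.trans hO))
  have he' : (lamL U hU).app W (AModX.res L hW e) = GrTwistX.fracSect (φn.res (j.preimage_mono hW)) :=
    (AModX.app_res (lamL U hU) hW e).trans (congrArg (AModX.res _ hW) he)
  refine (((hG.bijective U hU W (hW.trans hO))).of_comp_iff' _).mp ?_
  have efun : ((fun t => (lamG U hU).app W t) ∘ fun a : Γ(F, W) =>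
      (pairing hP hF hL hG hk).app W a (AModX.res L hW e)) =
      fun a => (show Γ((Scheme.Modules.pushforward j).obj (GrMod.tilde (𝒮.deg U hU) (ℳ.deg U hU) k), W) from
        mulTilde (V := j ⁻¹ᵁ W) hk (GrTwistX.fracSect (φn.res (j.preimage_mono hW))) ((lamF U hU).app W a)) := by
    funext a
    refine GrModX.ext_val _ _ fun z => ?_
    exact ((exists_rel hP hF hL hG hk W a (AModX.res L hW e)).choose_spec U hU z.1 z.2).trans
      (congrArg (fun t => GrTwist.val (V := j ⁻¹ᵁ W) t z •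
        GrMod.val (V := j ⁻¹ᵁ W) ((lamF U hU).app W a) z) he')
  exact efun.symm ▸ hb

include hP hF hL hG hk in
/-- For an algebra generated in degree one the pairing is perfect. -/
theorem nonempty_tensor_iso (hgen : 𝒮.IsGenDegOne) : Nonempty (CohB1.tensorMod F L ≅ G) := by
  refine ⟨@asIso _ _ _ _ (pairing hP hF hL hG hk).hom ((pairing hP hF hL hG hk).isIso_hom fun x => ?_)⟩
  obtain ⟨_, ⟨U, hU, rfl⟩, hxU, -⟩ := Y.isBasis_affineOpens.exists_subset_of_mem_open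
    (Set.mem_univ (p x)) isOpen_univ
  have hxr : x ∈ (RelProj.emb p chart U hU).opensRange := by rw [RelTildeX.opensRange_emb]; exact hxU
  obtain ⟨y, rfl⟩ := hxr
  obtain ⟨f, hf, hfy⟩ : ∃ f ∈ 𝒮.deg U hU 1, f ∉ y.asHomogeneousIdeal := by
    by_contra! hall
    exact y.not_irrelevant_le (show ((𝒮.deg U hU)₊).toIdeal ≤ y.asHomogeneousIdeal.toIdeal from
      RelTildeX.irrelevant_eq_span_deg_one hgen U hU ▸ Ideal.span_le.mpr hall)
  let j := RelProj.emb p chart U hU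
  let O : P.Opens := j ''ᵁ Proj.basicOpen (𝒮.deg U hU) f
  have hO : O ≤ p ⁻¹ᵁ U := (j.image_le_opensRange _).trans (RelTildeX.opensRange_emb p chart U hU).le
  have hval : ∀ z : (j ⁻¹ᵁ O : (Proj (𝒮.deg U hU)).Opens), f ∉ z.1.asHomogeneousIdeal := fun z => by
    obtain ⟨z', hz', e⟩ := z.2
    obtain rfl := j.isOpenEmbedding.injective e
    exact hz'
  let φ : GrTwistX.UnitFrac (𝒜 := 𝒮.deg U hU) (n * (1 : ℕ)) (j ⁻¹ᵁ O) := GrTwistX.powFrac hf SetLike.GradedOne.one_mem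
    (zero_add 1).symm n hval fun z h => z.1.isPrime.ne_top ((Ideal.eq_top_iff_one _).mpr h)
  let φn : GrTwistX.UnitFrac (𝒜 := 𝒮.deg U hU) n (j ⁻¹ᵁ O) :=
    ⟨φ.i, φ.j, φ.num, φ.den, φ.num_mem, φ.den_mem, by have := φ.deg; omega, φ.num_ne, φ.den_ne⟩
  obtain ⟨e, he⟩ := exists_frame_bijective hP hF hL hG hk U hU hO φn
  exact ⟨O, ⟨y, hfy, rfl⟩, e, he⟩

omit ℳ in
lemma twist_eq_tilde {U : Y.Opens} (hU : IsAffineOpen U) (n : ℤ) :
    GrTwist.twist (𝒮.deg U hU) n = GrMod.tilde (𝒮.deg U hU) ((selfModule 𝒮).deg U hU) n := rfl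

end Groth.Agent.EgaQ.RelPair
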