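import Groth.Agent.EgaQ.BCTwist
import Groth.Agent.EgaQ.Rel
import Groth.Agent.Eg2Gamma.Iso
import Groth.Agent.RelTildeX.Twist
import Groth.Agent.RelTildeX.Invertible
import Groth.Agent.QCoh.PullbackBC
import Groth.Agent.AModX.Res
import Groth.Agent.GrModX.MapProps

/-!
# The inverse image of `O(n)` along a base change of relative `Proj`
-/

noncomputable section

universe u

open CategoryTheory CategoryTheory.Limits AlgebraicGeometry TopologicalSpace Opposite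
open scoped HomogeneousIdeal

set_option backward.isDefEq.respectTransparency false
set_option backward.isDefEq.respectTransparency.types false
set_option linter.all false
set_option maxHeartbeats 800000

namespace Groth.Agent.EgaQ.RelTwistBC

lemma loc_transport {A σ : Type u} [CommRing A] [SetLike σ A] [AddSubgroupClass σ A] {𝒜 : ℕ → σ} [GradedRing 𝒜]
    {V : Opens (ProjectiveSpectrum.top 𝒜)} (s : ∀ x : V, GrTwist.Loc 𝒜 x.1) {x1 x2 : V} (e : x1 = x2) (a : A)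
    (b : x1.1.asHomogeneousIdeal.toIdeal.primeCompl) (h : s x1 = Localization.mk a b) :
    s x2 = Localization.mk a ⟨b.1, e ▸ b.2⟩ := by
  subst e; exact h

lemma locMap_comm {A B C D σA σB σC σD : Type u} [CommRing A] [CommRing B] [CommRing C] [CommRing D]
    [SetLike σA A] [AddSubgroupClass σA A] {𝒜 : ℕ → σA} [GradedRing 𝒜]
    [SetLike σB B] [AddSubgroupClass σB B] {ℬ : ℕ → σB} [GradedRing ℬ]
    [SetLike σC C] [AddSubgroupClass σC C] {𝒞 : ℕ → σC} [GradedRing 𝒞]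
    [SetLike σD D] [AddSubgroupClass σD D] {𝒟 : ℕ → σD} [GradedRing 𝒟]
    (α : 𝒜 →+*ᵍ ℬ) (hα : ℬ₊ ≤ (𝒜₊).map α) (β : ℬ →+*ᵍ 𝒟) (hβ : 𝒟₊ ≤ (ℬ₊).map β)
    (γ : 𝒜 →+*ᵍ 𝒞) (hγ : 𝒞₊ ≤ (𝒜₊).map γ) (δ : 𝒞 →+*ᵍ 𝒟) (hδ : 𝒟₊ ≤ (𝒞₊).map δ)
    (h : ∀ a, β (α a) = δ (γ a)) (y : ProjectiveSpectrum 𝒟)
    {V : Opens (ProjectiveSpectrum.top 𝒜)} (s : ∀ x : V, GrTwist.Loc 𝒜 x.1)
    (h1 : ProjectiveSpectrum.comap α hα (ProjectiveSpectrum.comap β hβ y) ∈ V)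
    (h2 : ProjectiveSpectrum.comap γ hγ (ProjectiveSpectrum.comap δ hδ y) ∈ V) :
    GrTwist.locMap β hβ y (GrTwist.locMap α hα _ (s ⟨_, h1⟩)) =
      GrTwist.locMap δ hδ y (GrTwist.locMap γ hγ _ (s ⟨_, h2⟩)) := by
  have e : (⟨_, h1⟩ : V) = ⟨_, h2⟩ := by
    refine Subtype.ext (ProjectiveSpectrum.ext (HomogeneousIdeal.ext (Ideal.ext fun a => ?_)))
    show β (α a) ∈ y.asHomogeneousIdeal.toIdeal ↔ δ (γ a) ∈ y.asHomogeneousIdeal.toIdeal
    rw [h]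
  induction hs : s ⟨_, h1⟩ using Localization.induction_on with
  | H ab =>
    obtain ⟨a, b⟩ := ab
    rw [loc_transport s e a b hs]
    simp only [GrTwist.locMap_mk]
    rw [Localization.mk_eq_mk_iff, Localization.r_iff_exists]
    exact ⟨1, by simp only [h]⟩

section chart

variable {R R' A B σ τ : Type u} [CommRing R] [CommRing R'] [CommRing A] [CommRing B]
  [SetLike σ A] [AddSubgroupClass σ A] [SetLike τ B] [AddSubgroupClass τ B]
  {𝒜 : ℕ → σ} [GradedRing 𝒜] {ℬ : ℕ → τ} [GradedRing ℬ]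
  {φ : R →+* R'} {rA : R →+* 𝒜 0} {rB : R' →+* ℬ 0} {ψ : 𝒜 →+*ᵍ ℬ}
  (hψ : ℬ₊ ≤ (𝒜₊).map ψ) (n : ℤ) {f : A} {d : ℕ} (hf : f ∈ 𝒜 d) (hd : 0 < d)
  (h : IsGradedBC φ rA rB ψ)
  {O : (Proj 𝒜).Opens} {O' : (Proj ℬ).Opens} (hO : O = Proj.basicOpen 𝒜 f)
  (hO' : O' = Proj.map ψ hψ ⁻¹ᵁ O) (hsub : O'.1 ⊆ ProjectiveSpectrum.comap ψ hψ ⁻¹' O.1)

include hf hd h hO hO' in
theorem twist_induction {motive : Γ(GrTwist.twist ℬ n, O') → Prop} (t : Γ(GrTwist.twist ℬ n, O'))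
    (h0 : motive 0) (hs : ∀ s : Γ(GrTwist.twist 𝒜 n, O), motive (GrTwist.comapApp ψ hψ n O O' hsub s))
    (hr : ∀ (c : Γ(Proj ℬ, O')) t, motive t → motive (c • t))
    (ha : ∀ t t', motive t → motive t' → motive (t + t')) : motive t := by
  subst hO; subst hO'
  refine BCTwist.sect_induction hψ n hf hd h (motive := motive) t h0 (fun s => ?_) hr ha
  convert hs s using 1
  refine Subtype.ext (funext fun y => Subtype.ext ?_)
  exact (GrMod.comap_app_val ψ hψ (TwistGlue.selfMap ψ) (fun i m (hm : m ∈ 𝒜 i) => ψ.map_mem hm) n _ s y).trans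
    (TwistGlue.locModMap_selfMap ψ hψ _ _)

include hf hd h hO hO' in
theorem exists_twist_lift {Q : Type u} [AddCommGroup Q] [Module Γ(Proj ℬ, O') Q]
    (g : Γ(GrTwist.twist 𝒜 n, O) →+ Q)
    (hg : ∀ (c : Γ(Proj 𝒜, O)) (s : Γ(GrTwist.twist 𝒜 n, O)),
      g (c • s) = (Proj.map ψ hψ).appLE O O' hO'.le c • g s) :
    ∃ G : Γ(GrTwist.twist ℬ n, O') →+ Q,
      (∀ (c : Γ(Proj ℬ, O')) (t : Γ(GrTwist.twist ℬ n, O')), G (c • t) = c • G t) ∧
        ∀ s, G (GrTwist.comapApp ψ hψ n O O' hsub s) = g s := by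
  subst hO; subst hO'
  obtain ⟨G, hG, hG'⟩ := BCTwist.exists_lift hψ n hf hd h g fun c s => by
    refine (hg c s).trans ?_
    congr 1
  refine ⟨G, hG, fun s => ?_⟩
  refine Eq.trans ?_ (hG' s)
  congr 1
  refine Subtype.ext (funext fun y => Subtype.ext ?_)
  exact ((GrMod.comap_app_val ψ hψ (TwistGlue.selfMap ψ) (fun i m (hm : m ∈ 𝒜 i) => ψ.map_mem hm) n _ s y).trans
    (TwistGlue.locModMap_selfMap ψ hψ _ _)).symm

end chart

variable {Y Y' P P' : Scheme.{u}} {g₀ : Y' ⟶ Y} {𝒮 : RelProj.QCGrAlg Y} {𝒮' : RelProj.QCGrAlg Y'}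
  (φ : ∀ π : APair g₀, 𝒮.deg π.U π.hU →+*ᵍ 𝒮'.deg π.U' π.hU')
  (hnat : ∀ (σ π : APair g₀) (h : σ.Refines π) (a : 𝒮.presheaf.obj (op π.U)),
    𝒮'.res π.hU' σ.hU' h.leU' (φ π a) = φ σ (𝒮.res π.hU σ.hU h.leU a))
  (hirr : ∀ π : APair g₀, (𝒮'.deg π.U' π.hU')₊ ≤ ((𝒮.deg π.U π.hU)₊).map (φ π))
  {p : P ⟶ Y}
  {chart : ∀ (U : Y.Opens) (hU : IsAffineOpen U), (((p ⁻¹ᵁ U : P.Opens) : Scheme.{u}) ≅ Proj (𝒮.deg U hU))}
  (hP : RelProj.IsRelProj 𝒮 p chart) {p' : P' ⟶ Y'}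
  {chart' : ∀ (U' : Y'.Opens) (hU' : IsAffineOpen U'),
    (((p' ⁻¹ᵁ U' : P'.Opens) : Scheme.{u}) ≅ Proj (𝒮'.deg U' hU'))}
  (hP' : RelProj.IsRelProj 𝒮' p' chart') {g : P' ⟶ P}
  (hg : ∀ π : APair g₀, RelProj.emb p' chart' π.U' π.hU' ≫ g =
    Proj.map (φ π) (hirr π) ≫ RelProj.emb p chart π.U π.hU)
  {n : ℤ} {L : P.Modules}
  {lam : ∀ (U : Y.Opens) (hU : IsAffineOpen U),
    L ⟶ (Scheme.Modules.pushforward (RelProj.emb p chart U hU)).obj (GrTwist.twist (𝒮.deg U hU) n)}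
  (hL : RelProj.IsRelTwist 𝒮 p chart n L lam) {L' : P'.Modules}
  {lam' : ∀ (U' : Y'.Opens) (hU' : IsAffineOpen U'),
    L' ⟶ (Scheme.Modules.pushforward (RelProj.emb p' chart' U' hU')).obj (GrTwist.twist (𝒮'.deg U' hU') n)}
  (hL' : RelProj.IsRelTwist 𝒮' p' chart' n L' lam')

lemma compat_basic (hL : RelProj.IsRelTwist 𝒮 p chart n L lam) {U V : Y.Opens} (hU : IsAffineOpen U)
    (hV : IsAffineOpen V) (i : V ≤ U) (h : ∃ r : Γ(Y, U), Y.basicOpen r = V) (W : P.Opens) (s : Γ(L, W))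
    (y : ProjectiveSpectrum (𝒮.deg V hV)) (hy : (RelProj.emb p chart V hV).base y ∈ W)
    (hy' : (RelProj.emb p chart U hU).base (ProjectiveSpectrum.comap (𝒮.res hU hV i)
      (Proj16.irrelevant_le_res 𝒮 hU hV i h) y) ∈ W) :
    GrTwist.val (V := RelProj.emb p chart V hV ⁻¹ᵁ W) ((lam V hV).app W s) ⟨y, hy⟩ =
      GrTwist.locMap (𝒮.res hU hV i) (Proj16.irrelevant_le_res 𝒮 hU hV i h) y
        (GrTwist.val (V := RelProj.emb p chart U hU ⁻¹ᵁ W) ((lam U hU).app W s) ⟨_, hy'⟩) := by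
  obtain ⟨r, rfl⟩ := h
  exact hL.compat U hU r W s y hy hy'

include hg in
lemma mem_P (π : APair g₀) {W : P.Opens} {y : ProjectiveSpectrum (𝒮'.deg π.U' π.hU')}
    (hy : (RelProj.emb p' chart' π.U' π.hU').base y ∈ g ⁻¹ᵁ W) :
    (RelProj.emb p chart π.U π.hU).base (ProjectiveSpectrum.comap (φ π) (hirr π) y) ∈ W := by
  have e := congrArg (fun ψ : Proj (𝒮'.deg π.U' π.hU') ⟶ P => ψ.base y) (hg π)
  exact (show g.base ((RelProj.emb p' chart' π.U' π.hU').base y) = _ from e) ▸ hy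

variable (lam lam') in
/-- `t` is the image of `s` over the pair. -/
def RelAt (π : APair g₀) {W : P.Opens} (s : Γ(L, W)) {O : P'.Opens} (t : Γ(L', O)) : Prop :=
  ∀ (y : ProjectiveSpectrum (𝒮'.deg π.U' π.hU')) (hy : (RelProj.emb p' chart' π.U' π.hU').base y ∈ O)
    (hy' : (RelProj.emb p chart π.U π.hU).base (ProjectiveSpectrum.comap (φ π) (hirr π) y) ∈ W),
    GrTwist.val (V := RelProj.emb p' chart' π.U' π.hU' ⁻¹ᵁ O) ((lam' π.U' π.hU').app O t) ⟨y, hy⟩ =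
      GrTwist.locMap (φ π) (hirr π) y
        (GrTwist.val (V := RelProj.emb p chart π.U π.hU ⁻¹ᵁ W) ((lam π.U π.hU).app W s) ⟨_, hy'⟩)

lemma val_app_res (π : APair g₀) {O O' : P'.Opens} (i : O' ≤ O) (t : Γ(L', O))
    (y : ProjectiveSpectrum (𝒮'.deg π.U' π.hU')) (hy : (RelProj.emb p' chart' π.U' π.hU').base y ∈ O') :
    GrTwist.val (V := RelProj.emb p' chart' π.U' π.hU' ⁻¹ᵁ O') ((lam' π.U' π.hU').app O' (AModX.res L' i t)) ⟨y, hy⟩ =
      GrTwist.val (V := RelProj.emb p' chart' π.U' π.hU' ⁻¹ᵁ O) ((lam' π.U' π.hU').app O t) ⟨y, i hy⟩ :=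
  congrArg (fun z => GrTwist.val (V := RelProj.emb p' chart' π.U' π.hU' ⁻¹ᵁ O') z ⟨y, hy⟩)
    (AModX.app_res (lam' π.U' π.hU') i t)

lemma RelAt.res {π : APair g₀} {W : P.Opens} {s : Γ(L, W)} {O O' : P'.Opens} (i : O' ≤ O) {t : Γ(L', O)}
    (ht : RelAt φ hirr lam lam' π s t) : RelAt φ hirr lam lam' π s (AModX.res L' i t) :=
  fun y hy hy' => (val_app_res π i t y hy).trans (ht y (i hy) hy')

lemma val_ext (hL' : RelProj.IsRelTwist 𝒮' p' chart' n L' lam') (π : APair g₀) {O : P'.Opens}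
    (hO : O ≤ p' ⁻¹ᵁ π.U') {t t' : Γ(L', O)}
    (he : ∀ (y : ProjectiveSpectrum (𝒮'.deg π.U' π.hU')) (hy : (RelProj.emb p' chart' π.U' π.hU').base y ∈ O),
      GrTwist.val (V := RelProj.emb p' chart' π.U' π.hU' ⁻¹ᵁ O) ((lam' π.U' π.hU').app O t) ⟨y, hy⟩ =
        GrTwist.val (V := RelProj.emb p' chart' π.U' π.hU' ⁻¹ᵁ O) ((lam' π.U' π.hU').app O t') ⟨y, hy⟩) :
    t = t' :=
  (hL'.bijective π.U' π.hU' O hO).1 (Subtype.ext (funext fun y => Subtype.ext (he y.1 y.2)))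

lemma exists_pair (y : Y') : ∃ π : APair g₀, y ∈ π.U' := by
  obtain ⟨_, ⟨U, hU, rfl⟩, hy, -⟩ := Y.isBasis_affineOpens.exists_subset_of_mem_open
    (Set.mem_univ (g₀ y)) isOpen_univ
  obtain ⟨_, ⟨U', hU', rfl⟩, hy', hle⟩ := Y'.isBasis_affineOpens.exists_subset_of_mem_open
    (show y ∈ ((g₀ ⁻¹ᵁ U : Y'.Opens) : Set Y') from hy) (g₀ ⁻¹ᵁ U).isOpen
  exact ⟨⟨U, hU, U', hU', hle⟩, hy'⟩

include hg hL' in
lemma rel_unique {W : P.Opens} {s : Γ(L, W)} {O : P'.Opens} (hO : O ≤ g ⁻¹ᵁ W) {t t' : Γ(L', O)}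
    (ht : ∀ π, RelAt φ hirr lam lam' π s t) (ht' : ∀ π, RelAt φ hirr lam lam' π s t') : t = t' := by
  refine AModX.eq_of_locally _ _ fun x hx => ?_
  obtain ⟨π, hπ⟩ := exists_pair (g₀ := g₀) (p' x)
  refine ⟨O ⊓ p' ⁻¹ᵁ π.U', inf_le_left, ⟨hx, hπ⟩, val_ext hL' π inf_le_right fun y hy => ?_⟩
  exact (RelAt.res φ hirr inf_le_left (ht π) y hy (mem_P φ hirr hg π (hO hy.1))).trans
    (RelAt.res φ hirr inf_le_left (ht' π) y hy (mem_P φ hirr hg π (hO hy.1))).symm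

include hg hL' in
lemma exists_relAt (π : APair g₀) {W : P.Opens} (s : Γ(L, W)) {O : P'.Opens} (hOW : O ≤ g ⁻¹ᵁ W)
    (hO : O ≤ p' ⁻¹ᵁ π.U') : ∃ t : Γ(L', O), RelAt φ hirr lam lam' π s t := by
  obtain ⟨t, ht⟩ := (hL'.bijective π.U' π.hU' O hO).2
    (GrTwist.comapApp (φ π) (hirr π) n (RelProj.emb p chart π.U π.hU ⁻¹ᵁ W)
      (RelProj.emb p' chart' π.U' π.hU' ⁻¹ᵁ O) (fun y hy => mem_P φ hirr hg π (hOW hy)) ((lam π.U π.hU).app W s))
  exact ⟨t, fun y hy hy' =>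
    congrArg (fun z => GrTwist.val (V := RelProj.emb p' chart' π.U' π.hU' ⁻¹ᵁ O) z ⟨y, hy⟩) ht⟩

include hnat hP hP' hL hL' in
lemma RelAt.down {σ π : APair g₀} (h : σ.Refines π) {W : P.Opens} {s : Γ(L, W)} {O : P'.Opens}
    {t : Γ(L', O)} (ht : RelAt φ hirr lam lam' π s t) : RelAt φ hirr lam lam' σ s t := by
  intro z hz hz'
  let ψA := 𝒮.res π.hU σ.hU h.leU
  let ψB := 𝒮'.res π.hU' σ.hU' h.leU'
  let hA := Proj16.irrelevant_le_res 𝒮 π.hU σ.hU h.leU h.basic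
  let hB := Proj16.irrelevant_le_res 𝒮' π.hU' σ.hU' h.leU' h.basic'
  have hy : (RelProj.emb p' chart' π.U' π.hU').base (ProjectiveSpectrum.comap ψB hB z) ∈ O := by
    have h2 := congrArg (fun ψ : Proj (𝒮'.deg σ.U' σ.hU') ⟶ P' => ψ.base z)
      (EgaQ.map_res_emb' hP' π.hU' σ.hU' h.leU' h.basic')
    exact (show _ = _ from h2).symm ▸ hz
  have e1 : ProjectiveSpectrum.comap ψA hA (ProjectiveSpectrum.comap (φ σ) (hirr σ) z) =
      ProjectiveSpectrum.comap (φ π) (hirr π) (ProjectiveSpectrum.comap ψB hB z) := by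
    refine ProjectiveSpectrum.ext (HomogeneousIdeal.ext (Ideal.ext fun a => ?_))
    show φ σ (ψA a) ∈ z.asHomogeneousIdeal.toIdeal ↔ ψB (φ π a) ∈ z.asHomogeneousIdeal.toIdeal
    rw [hnat σ π h]
  have hx1 : (RelProj.emb p chart π.U π.hU).base
      (ProjectiveSpectrum.comap ψA hA (ProjectiveSpectrum.comap (φ σ) (hirr σ) z)) ∈ W := by
    have h2 := congrArg (fun ψ : Proj (𝒮.deg σ.U σ.hU) ⟶ P => ψ.base
      (ProjectiveSpectrum.comap (φ σ) (hirr σ) z)) (EgaQ.map_res_emb' hP π.hU σ.hU h.leU h.basic)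
    exact (show _ = _ from h2).symm ▸ hz'
  have hx2 : (RelProj.emb p chart π.U π.hU).base
      (ProjectiveSpectrum.comap (φ π) (hirr π) (ProjectiveSpectrum.comap ψB hB z)) ∈ W := e1 ▸ hx1
  rw [compat_basic hL' π.hU' σ.hU' h.leU' h.basic' O t z hz hy, ht _ hy hx2,
    compat_basic hL π.hU σ.hU h.leU h.basic W s _ hz' hx1]
  exact locMap_comm (φ π) (hirr π) ψB hB ψA hA (φ σ) (hirr σ) (fun a => hnat σ π h a) z
    (V := RelProj.emb p chart π.U π.hU ⁻¹ᵁ W)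
    (fun x => GrTwist.val (V := RelProj.emb p chart π.U π.hU ⁻¹ᵁ W) ((lam π.U π.hU).app W s) x) hx2 hx1

include hnat hP hP' hg hL hL' in
lemma exists_rel (W : P.Opens) (s : Γ(L, W)) : ∃ t : Γ(L', g ⁻¹ᵁ W), ∀ π, RelAt φ hirr lam lam' π s t := by
  have hloc : ∀ π : APair g₀, ∃ t : Γ(L', g ⁻¹ᵁ W ⊓ p' ⁻¹ᵁ π.U'), ∀ ρ, RelAt φ hirr lam lam' ρ s t := fun π => by
    obtain ⟨t, ht⟩ := exists_relAt φ hirr hg hL' π s (O := g ⁻¹ᵁ W ⊓ p' ⁻¹ᵁ π.U') inf_le_left inf_le_right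
    refine ⟨t, fun ρ y hy hy' => ?_⟩
    have hxρ : p' ((RelProj.emb p' chart' ρ.U' ρ.hU').base y) ∈ ρ.U' := EgaQ.π_emb_mem ρ.U' ρ.hU' y
    obtain ⟨σ, h1, h2, hxσ⟩ := APair.exists_refines π ρ _ hy.2 hxρ
    have hi : (g ⁻¹ᵁ W ⊓ p' ⁻¹ᵁ π.U') ⊓ p' ⁻¹ᵁ σ.U' ≤ g ⁻¹ᵁ W ⊓ p' ⁻¹ᵁ π.U' := inf_le_left
    obtain ⟨t'', ht''⟩ := exists_relAt φ hirr hg hL' ρ s (hi.trans inf_le_left)
      (inf_le_right.trans (p'.preimage_mono h2.leU') :
        (g ⁻¹ᵁ W ⊓ p' ⁻¹ᵁ π.U') ⊓ p' ⁻¹ᵁ σ.U' ≤ p' ⁻¹ᵁ ρ.U')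
    have e1 := RelAt.down φ hnat hirr hP hP' hL hL' h1 (RelAt.res φ hirr hi ht)
    have e2 := RelAt.down φ hnat hirr hP hP' hL hL' h2 ht''
    have heq : t'' = AModX.res L' hi t := val_ext hL' σ inf_le_right fun z hz =>
      (e2 z hz (mem_P φ hirr hg σ hz.1.1)).trans (e1 z hz (mem_P φ hirr hg σ hz.1.1)).symm
    rw [heq] at ht''
    exact (val_app_res ρ hi t y ⟨hy, hxσ⟩).symm.trans (ht'' y ⟨hy, hxσ⟩ hy')
  choose t ht using hloc
  have hcov : ∀ x ∈ g ⁻¹ᵁ W, ∃ π : APair g₀, x ∈ g ⁻¹ᵁ W ⊓ p' ⁻¹ᵁ π.U' := fun x hx =>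
    (exists_pair (g₀ := g₀) (p' x)).imp fun π hπ => ⟨hx, hπ⟩
  obtain ⟨T, hT, -⟩ := AModX.existsUnique_glue (M := L') (fun π : APair g₀ => g ⁻¹ᵁ W ⊓ p' ⁻¹ᵁ π.U')
    (fun _ => inf_le_left) hcov t
    (fun π ρ => rel_unique φ hirr hg hL' (inf_le_left.trans inf_le_left)
      (fun q => RelAt.res φ hirr inf_le_left (ht π q)) fun q => RelAt.res φ hirr inf_le_right (ht ρ q))
  refine ⟨T, fun ρ y hy hy' => ?_⟩
  obtain ⟨π, hπ⟩ := hcov _ hy
  have h1 := ht π ρ y hπ hy'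
  rw [← hT π] at h1
  exact (val_app_res ρ inf_le_left T y hπ).symm.trans h1

lemma app_val_congr {A σ : Type u} [CommRing A] [SetLike σ A] [AddSubgroupClass σ A] {𝒜 : ℕ → σ} [GradedRing 𝒜]
    {Z : Scheme.{u}} {f g : Proj 𝒜 ⟶ Z} (e : f = g) (W : Z.Opens) (c : Γ(Z, W)) (y : ProjectiveSpectrum 𝒜)
    (hf : y ∈ f ⁻¹ᵁ W) (hg : y ∈ g ⁻¹ᵁ W) :
    ((show GrTwist.O (𝒜 := 𝒜) (op (f ⁻¹ᵁ W)) from f.app W c).1 ⟨y, hf⟩).val =
      ((show GrTwist.O (𝒜 := 𝒜) (op (g ⁻¹ᵁ W)) from g.app W c).1 ⟨y, hg⟩).val := by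
  subst e; rfl

include hg in
lemma RelAt.smul {π : APair g₀} {W : P.Opens} {s : Γ(L, W)} {t : Γ(L', g ⁻¹ᵁ W)} (c : Γ(P, W))
    (ht : RelAt φ hirr lam lam' π s t) : RelAt φ hirr lam lam' π (c • s) (g.app W c • t) := by
  intro y hy hy'
  let jA := RelProj.emb p chart π.U π.hU
  let jB := RelProj.emb p' chart' π.U' π.hU'
  have el := congrArg (fun z => GrTwist.val (V := jB ⁻¹ᵁ (g ⁻¹ᵁ W)) z ⟨y, hy⟩)
    (Scheme.Modules.Hom.app_smul (lam' π.U' π.hU') (g.app W c) t)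
  have er := congrArg (fun z => GrTwist.val (V := jA ⁻¹ᵁ W) z ⟨_, hy'⟩)
    (Scheme.Modules.Hom.app_smul (lam π.U π.hU) c s)
  refine el.trans (Eq.trans ?_ (congrArg (GrTwist.locMap (φ π) (hirr π) y) er).symm)
  refine (GrTwist.coe_smul_val n y _ _).trans ?_
  refine Eq.trans ?_ (congrArg (GrTwist.locMap (φ π) (hirr π) y) (GrTwist.coe_smul_val n _ _ _)).symm
  rw [map_mul]
  refine congr_arg₂ (· * ·) ?_ (ht y hy hy')
  refine (app_val_congr (hg π) W c y hy hy').trans ?_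
  refine (congrArg HomogeneousLocalization.val
    (GrTwist.comapStructureSheaf_apply (φ π) (hirr π) (jA ⁻¹ᵁ W) (Proj.map (φ π) (hirr π) ⁻¹ᵁ (jA ⁻¹ᵁ W))
      Set.Subset.rfl (jA.app W c) ⟨y, hy'⟩)).trans ?_
  rw [HomogeneousLocalization.val_localRingHom]
  rfl

include hnat hP hP' hg hL hL' in
/-- The comparison `L ⟶ g_* L'`. -/
theorem exists_theta : ∃ θ : L ⟶ (Scheme.Modules.pushforward g).obj L',
    ∀ (W : P.Opens) (s : Γ(L, W)) (π : APair g₀), RelAt φ hirr lam lam' π s (O := g ⁻¹ᵁ W) (θ.app W s) := by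
  have hadd : ∀ (W : P.Opens) (s s' : Γ(L, W)),
      (exists_rel φ hnat hirr hP hP' hg hL hL' W (s + s')).choose =
        (exists_rel φ hnat hirr hP hP' hg hL hL' W s).choose +
          (exists_rel φ hnat hirr hP hP' hg hL hL' W s').choose := fun W s s' =>
    rel_unique φ hirr hg hL' le_rfl (exists_rel φ hnat hirr hP hP' hg hL hL' W (s + s')).choose_spec
      fun π y hy hy' => by
        have h1 := (exists_rel φ hnat hirr hP hP' hg hL hL' W s).choose_spec π y hy hy'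
        have h2 := (exists_rel φ hnat hirr hP hP' hg hL hL' W s').choose_spec π y hy hy'
        rw [map_add, map_add]
        exact (congr_arg₂ (· + ·) h1 h2).trans (map_add _ _ _).symm
  let θ : L ⟶ (Scheme.Modules.pushforward g).obj L' :=
    { val := PresheafOfModules.homMk
        { app := fun W => AddCommGrpCat.ofHom (AddMonoidHom.mk'
            (fun s => (show Γ((Scheme.Modules.pushforward g).obj L', W.unop) from
              (exists_rel φ hnat hirr hP hP' hg hL hL' W.unop s).choose)) fun s s' => hadd W.unop s s')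
          naturality := fun V W i => by
            ext s
            refine rel_unique φ hirr hg hL' le_rfl
              (exists_rel φ hnat hirr hP hP' hg hL hL' W.unop (L.presheaf.map i s)).choose_spec
              fun π y hy hy' => ?_
            refine ((RelAt.res φ hirr (g.preimage_mono i.unop.le)
              ((exists_rel φ hnat hirr hP hP' hg hL hL' V.unop s).choose_spec π)) y hy (i.unop.le hy')).trans ?_
            exact congrArg _ (congrArg (fun z => GrTwist.val (V := RelProj.emb p chart π.U π.hU ⁻¹ᵁ W.unop) z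
              ⟨_, hy'⟩) (AModX.app_res (lam π.U π.hU) i.unop.le s)).symm }
        fun W c s => rel_unique φ hirr hg hL' le_rfl
          (exists_rel φ hnat hirr hP hP' hg hL hL' W.unop (c • s)).choose_spec
          fun π => RelAt.smul φ hirr hg c ((exists_rel φ hnat hirr hP hP' hg hL hL' W.unop s).choose_spec π) }
  exact ⟨θ, fun W s π => (exists_rel φ hnat hirr hP hP' hg hL hL' W s).choose_spec π⟩

lemma app_eq_appLE_apply {X Z : Scheme.{u}} (f : X ⟶ Z) (V : Z.Opens) (r : Γ(Z, V)) :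
    f.app V r = f.appLE V (f ⁻¹ᵁ V) le_rfl r := by
  rw [Scheme.Hom.app_eq_appLE]

lemma appLE_comp_apply {X Z T : Scheme.{u}} (f : X ⟶ Z) (g : Z ⟶ T) (V : T.Opens) (W : Z.Opens)
    (hW : W ≤ g ⁻¹ᵁ V) (O : X.Opens) (hO : O ≤ f ⁻¹ᵁ W) (r : Γ(T, V)) :
    (f ≫ g).appLE V O (hO.trans (f.preimage_mono hW)) r = f.appLE W O hO (g.appLE V W hW r) := by
  rw [← Scheme.Hom.appLE_comp_appLE (f := f) (g := g) V W O hW hO]
  rfl

lemma appLE_congr_apply {X Z : Scheme.{u}} {f f' : X ⟶ Z} (e : f = f') (V : Z.Opens) (O : X.Opens)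
    (h : O ≤ f ⁻¹ᵁ V) (h' : O ≤ f' ⁻¹ᵁ V) (r : Γ(Z, V)) : f.appLE V O h r = f'.appLE V O h' r := by
  subst e; rfl

lemma bijective_app_emb {A σ : Type u} [CommRing A] [SetLike σ A] [AddSubgroupClass σ A] {𝒜 : ℕ → σ} [GradedRing 𝒜]
    {Z : Scheme.{u}} (j : Proj 𝒜 ⟶ Z) [IsOpenImmersion j] (W : Z.Opens) (h : W ≤ j.opensRange) :
    Function.Bijective (j.app W) := by
  have : IsIso (j.app W) := Scheme.Hom.isIso_app j W h
  exact ConcreteCategory.bijective_of_isIso _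

include hg hL hL' in
/-- Bijectivity of the comparison over a standard chart. -/
theorem bijective_chart (π : APair g₀) {f : 𝒮.presheaf.obj (op π.U)} {d : ℕ} (hd : 0 < d)
    (hf : f ∈ 𝒮.deg π.U π.hU d) {R : Γ(Y, π.U) →+* Γ(Y', π.U')}
    (hbc : IsGradedBC R (𝒮.strZero π.U π.hU).hom (𝒮'.strZero π.U' π.hU').hom (φ π))
    {V : P.Opens} {W : P'.Opens} (hVU : V ≤ p ⁻¹ᵁ π.U) (hWU : W ≤ p' ⁻¹ᵁ π.U') (hWV : W ≤ g ⁻¹ᵁ V)
    (hO : RelProj.emb p chart π.U π.hU ⁻¹ᵁ V = Proj.basicOpen (𝒮.deg π.U π.hU) f)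
    (hO' : RelProj.emb p' chart' π.U' π.hU' ⁻¹ᵁ W =
      Proj.map (φ π) (hirr π) ⁻¹ᵁ (RelProj.emb p chart π.U π.hU ⁻¹ᵁ V))
    {N : P'.Modules} (ν : N ⟶ L') (l : Γ(L, V) →+ Γ(N, W))
    (hl : ∀ (r : Γ(P, V)) (s : Γ(L, V)), l (r • s) = g.appLE V W hWV r • l s)
    (hgen : ∀ (motive : Γ(N, W) → Prop), motive 0 → (∀ s, motive (l s)) →
      (∀ (c : Γ(P', W)) x, motive x → motive (c • x)) → (∀ x y, motive x → motive y → motive (x + y)) → ∀ z, motive z)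
    (hνl : ∀ s, RelAt φ hirr lam lam' π s (O := W) (ν.app W (l s))) :
    Function.Bijective (ν.app W) := by
  let j := RelProj.emb p chart π.U π.hU
  let j' := RelProj.emb p' chart' π.U' π.hU'
  have hsub : (j' ⁻¹ᵁ W).1 ⊆ ProjectiveSpectrum.comap (φ π) (hirr π) ⁻¹' (j ⁻¹ᵁ V).1 := hO'.le
  have hbj : Function.Bijective (j.app V) :=
    bijective_app_emb j V (hVU.trans (RelTildeX.opensRange_emb p chart π.U π.hU).ge)
  let eW : Γ(P', W) ≃+* Γ(Proj (𝒮'.deg π.U' π.hU'), j' ⁻¹ᵁ W) :=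
    RingEquiv.ofBijective (j'.app W).hom
      (bijective_app_emb j' W (hWU.trans (RelTildeX.opensRange_emb p' chart' π.U' π.hU').ge))
  letI : Module Γ(Proj (𝒮'.deg π.U' π.hU'), j' ⁻¹ᵁ W) Γ(N, W) := Module.compHom Γ(N, W) eW.symm.toRingHom
  have hkey : ∀ r : Γ(P, V), eW (g.appLE V W hWV r) =
      (Proj.map (φ π) (hirr π)).appLE (j ⁻¹ᵁ V) (j' ⁻¹ᵁ W) hO'.le (j.app V r) := by
    intro r
    show j'.app W (g.appLE V W hWV r) = _
    rw [app_eq_appLE_apply j' W, app_eq_appLE_apply j V, ← appLE_comp_apply j' g V W hWV _ le_rfl,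
      ← appLE_comp_apply (Proj.map (φ π) (hirr π)) j V (j ⁻¹ᵁ V) le_rfl _ hO'.le]
    exact appLE_congr_apply (hg π) V _ _ _ r
  let lV : Γ(L, V) ≃+ Γ(GrTwist.twist (𝒮.deg π.U π.hU) n, j ⁻¹ᵁ V) :=
    AddEquiv.ofBijective (show Γ(L, V) →+ Γ(GrTwist.twist (𝒮.deg π.U π.hU) n, j ⁻¹ᵁ V) from
      ((lam π.U π.hU).app V).hom) (hL.bijective π.U π.hU V hVU)
  let g0 : Γ(GrTwist.twist (𝒮.deg π.U π.hU) n, j ⁻¹ᵁ V) →+ Γ(N, W) := l.comp lV.symm.toAddMonoidHom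
  obtain ⟨G, hG, hG'⟩ := exists_twist_lift (hirr π) n hf hd hbc hO hO' hsub g0 (fun c s => by
    obtain ⟨r, rfl⟩ := hbj.2 c
    obtain ⟨s', rfl⟩ := lV.surjective s
    have e : lV (r • s') = j.app V r • lV s' := Scheme.Modules.Hom.app_smul (lam π.U π.hU) r s'
    show l (lV.symm (j.app V r • lV s')) = eW.symm ((Proj.map (φ π) (hirr π)).appLE (j ⁻¹ᵁ V) (j' ⁻¹ᵁ W) hO'.le (j.app V r)) •
      l (lV.symm (lV s'))
    rw [← e, lV.symm_apply_apply, lV.symm_apply_apply, hl, ← hkey r, eW.symm_apply_apply])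
  let T : Γ(N, W) →+ Γ(GrTwist.twist (𝒮'.deg π.U' π.hU') n, j' ⁻¹ᵁ W) :=
    (show Γ(L', W) →+ Γ(GrTwist.twist (𝒮'.deg π.U' π.hU') n, j' ⁻¹ᵁ W) from
      ((lam' π.U' π.hU').app W).hom).comp (ν.app W).hom
  have hchart : ∀ s : Γ(L, V), T (l s) = GrTwist.comapApp (φ π) (hirr π) n (j ⁻¹ᵁ V) (j' ⁻¹ᵁ W) hsub (lV s) :=
    fun s => Subtype.ext (funext fun y => Subtype.ext (hνl s y.1 y.2 (hsub y.2)))
  have hlin : ∀ (c : Γ(P', W)) (z : Γ(N, W)), T (c • z) = eW c • T z := fun c z =>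
    (congrArg (fun w => (lam' π.U' π.hU').app W w) (Scheme.Modules.Hom.app_smul ν c z)).trans
      (Scheme.Modules.Hom.app_smul (lam' π.U' π.hU') c (ν.app W z))
  have hinv : ∀ z : Γ(N, W), G (T z) = z := by
    refine hgen (fun z => G (T z) = z) (by simp only [map_zero]) (fun s => ?_) (fun c x hx => ?_)
      (fun x y hx hy => by simp only [map_add, hx, hy])
    · rw [hchart]
      exact (hG' _).trans (congrArg l (lV.symm_apply_apply s))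
    · rw [hlin, hG, hx]
      show eW.symm (eW c) • x = c • x
      rw [eW.symm_apply_apply]
  have hsurj : ∀ u, ∃ z, T z = u := fun u => by
    refine twist_induction (hirr π) n hf hd hbc hO hO' hsub (motive := fun u => ∃ z, T z = u) u
      ⟨0, map_zero T⟩ (fun s => ?_) (fun c u ⟨z, hz⟩ => ?_) (fun u u' ⟨z, hz⟩ ⟨z', hz'⟩ => ⟨z + z', by rw [map_add, hz, hz']⟩)
    · exact ⟨l (lV.symm s), (hchart _).trans (congrArg (GrTwist.comapApp (φ π) (hirr π) n (j ⁻¹ᵁ V) (j' ⁻¹ᵁ W) hsub) (lV.apply_symm_apply s))⟩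
    · exact ⟨eW.symm c • z, by rw [hlin, eW.apply_symm_apply, hz]⟩
  refine ⟨fun a b hab => ?_, fun t => ?_⟩
  · rw [← hinv a, ← hinv b]
    exact congrArg (fun w => G ((lam' π.U' π.hU').app W w)) hab
  · obtain ⟨z, hz⟩ := hsurj ((lam' π.U' π.hU').app W t)
    exact ⟨z, (hL'.bijective π.U' π.hU' W hWU).1 hz⟩

variable (p' chart') in
/-- The standard opens of the base change. -/
def stdOpen (π : APair g₀) (f : 𝒮.presheaf.obj (op π.U)) : P'.Opens :=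
  RelProj.emb p' chart' π.U' π.hU' ''ᵁ (Proj.map (φ π) (hirr π) ⁻¹ᵁ Proj.basicOpen (𝒮.deg π.U π.hU) f)

lemma isAffineOpen_stdOpen (π : APair g₀) {f : 𝒮.presheaf.obj (op π.U)} {d : ℕ} (hd : 0 < d)
    (hf : f ∈ 𝒮.deg π.U π.hU d) : IsAffineOpen (stdOpen φ hirr p' chart' π f) := by
  have h : IsAffineOpen (Proj.map (φ π) (hirr π) ⁻¹ᵁ Proj.basicOpen (𝒮.deg π.U π.hU) f) :=
    Proj.isAffineOpen_basicOpen (𝒮'.deg π.U' π.hU') (φ π f) ((φ π).map_mem hf) hd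
  exact h.image_of_isOpenImmersion _

lemma exists_mem_stdOpen (x : P') : ∃ (π : APair g₀) (f : 𝒮.presheaf.obj (op π.U)) (d : ℕ),
    0 < d ∧ f ∈ 𝒮.deg π.U π.hU d ∧ x ∈ stdOpen φ hirr p' chart' π f := by
  obtain ⟨π, hπ⟩ := exists_pair (g₀ := g₀) (p' x)
  obtain ⟨y, hyx⟩ := EgaQ.mem_range_emb (p := p') (chart := chart') π.U' π.hU' x hπ
  obtain ⟨t, d, hd, ht, htx, -⟩ := GrModX.exists_basicOpen_le (𝒮.deg π.U π.hU)
    (V := ⊤) (y := (Proj.map (φ π) (hirr π)).base y) trivial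
  exact ⟨π, t, d, hd, ht, hyx ▸ Set.mem_image_of_mem (RelProj.emb p' chart' π.U' π.hU').base
    (show y ∈ ((Proj.map (φ π) (hirr π) ⁻¹ᵁ Proj.basicOpen (𝒮.deg π.U π.hU) t :
      (Proj (𝒮'.deg π.U' π.hU')).Opens) : Set (Proj (𝒮'.deg π.U' π.hU'))) from htx)⟩

include hnat hP hP' hg hL hL' in
/-- `g^* O(n) ≅ O(n)` for a base change. -/
theorem nonempty_pullback_iso {R : ∀ π : APair g₀, Γ(Y, π.U) →+* Γ(Y', π.U')}
    (hbc : ∀ π : APair g₀, IsGradedBC (R π) (𝒮.strZero π.U π.hU).hom (𝒮'.strZero π.U' π.hU').hom (φ π)) :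
    Nonempty ((Scheme.Modules.pullback g).obj L ≅ L') := by
  obtain ⟨θ, hθ⟩ := exists_theta φ hnat hirr hP hP' hg hL hL'
  let N := (Scheme.Modules.pullback g).obj L
  let ν : N ⟶ L' := ((Scheme.Modules.pullbackPushforwardAdjunction g).homEquiv _ _).symm θ
  have hνη : ∀ (V : P.Opens) (W : P'.Opens) (hW : W ≤ g ⁻¹ᵁ V) (s : Γ(L, V)),
      ν.app W (QCoh.pullSec g L hW s) = AModX.res L' hW (show Γ(L', g ⁻¹ᵁ V) from θ.app V s) := fun V W hW s => by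
    have h := ((Scheme.Modules.pullbackPushforwardAdjunction g).homEquiv_unit (f := ν)).symm.trans
      (Equiv.apply_symm_apply _ _)
    refine (AModX.app_res ν hW _).trans (congrArg (AModX.res L' hW) ?_)
    exact congr(($h).app V s)
  let I := Σ π : APair g₀, { f : 𝒮.presheaf.obj (op π.U) // ∃ d, 0 < d ∧ f ∈ 𝒮.deg π.U π.hU d }
  have hiso : IsIso ν := by
    refine Eg2Gamma.isIso_of_bijective_cover (QCoh.isQCoh_pullback g (RelTildeX.isQCoh_twist hL))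
      (RelTildeX.isQCoh_twist hL') ν (fun i : I => stdOpen φ hirr p' chart' i.1 i.2.1) (fun i => ?_) (fun x => ?_) ?_
    · obtain ⟨d, hd, hf⟩ := i.2.2
      exact isAffineOpen_stdOpen φ hirr i.1 hd hf
    · obtain ⟨π, f, d, hd, hf, hx⟩ := exists_mem_stdOpen φ hirr (p' := p') (chart' := chart') x
      exact ⟨⟨π, f, d, hd, hf⟩, hx⟩
    rintro ⟨π, f, d, hd, hf⟩
    let j := RelProj.emb p chart π.U π.hU
    let j' := RelProj.emb p' chart' π.U' π.hU'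
    let ψ := φ π
    let D : (Proj (𝒮.deg π.U π.hU)).Opens := Proj.basicOpen (𝒮.deg π.U π.hU) f
    let V : P.Opens := j ''ᵁ D
    let W : P'.Opens := j' ''ᵁ (Proj.map ψ (hirr π) ⁻¹ᵁ D)
    show Function.Bijective (ν.app W)
    have hWV : W ≤ g ⁻¹ᵁ V := by
      rintro _ ⟨y, hy, rfl⟩
      refine ⟨_, hy, ?_⟩
      exact (congrArg (fun χ : Proj (𝒮'.deg π.U' π.hU') ⟶ P => χ.base y) (hg π)).symm
    have hWU : W ≤ p' ⁻¹ᵁ π.U' := (j'.image_le_opensRange _).trans (RelTildeX.opensRange_emb p' chart' π.U' π.hU').le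
    have hVU : V ≤ p ⁻¹ᵁ π.U := (j.image_le_opensRange _).trans (RelTildeX.opensRange_emb p chart π.U π.hU).le
    have hV : IsAffineOpen V := (Proj.isAffineOpen_basicOpen _ f hf hd).image_of_isOpenImmersion _
    have hWaff : IsAffineOpen W :=
      (Proj.isAffineOpen_basicOpen (𝒮'.deg π.U' π.hU') (φ π f) ((φ π).map_mem hf) hd).image_of_isOpenImmersion _
    have hO : j ⁻¹ᵁ V = D := j.preimage_image_eq D
    have hO' : j' ⁻¹ᵁ W = Proj.map ψ (hirr π) ⁻¹ᵁ (j ⁻¹ᵁ V) := by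
      rw [hO]; exact j'.preimage_image_eq _
    let ψV := g.appLE V W hWV
    letI : Algebra Γ(P, V) Γ(P', W) := ψV.hom.toAlgebra
    letI : Module Γ(P, V) Γ(N, W) := Module.compHom _ ψV.hom
    haveI : IsScalarTower Γ(P, V) Γ(P', W) Γ(N, W) := IsScalarTower.of_algebraMap_smul fun _ _ => rfl
    let l : Γ(L, V) →ₗ[Γ(P, V)] Γ(N, W) :=
      { toFun := QCoh.pullSec g L hWV
        map_add' := QCoh.pullSec_add g L hWV
        map_smul' := QCoh.pullSec_smul g L hWV }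
    have hbc' := QCoh.isBaseChange_pullback hV g hWaff (RelTildeX.isQCoh_twist hL) hWV (fun _ => rfl) l (fun _ => rfl)
    refine bijective_chart φ hirr hg hL hL' π hd hf (hbc π) hVU hWU hWV hO hO' ν l.toAddMonoidHom
      (fun r s => l.map_smul r s) (fun motive h0 hs hr ha z => hbc'.inductionOn z (motive := motive) h0 hs hr ha)
      (fun s => ?_)
    have e := hνη V W hWV s
    rw [show ν.app W (l.toAddMonoidHom s) = ν.app W (QCoh.pullSec g L hWV s) from rfl, e]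
    exact RelAt.res φ hirr hWV (hθ V s π)
  exact ⟨@asIso _ _ _ _ ν hiso⟩

end Groth.Agent.EgaQ.RelTwistBC
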