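import Groth.Agent.EgaQ.ConeP
import Groth.Agent.EgaQ.DomComp

/-!
# The retraction of the pointed projective cone
-/

universe u

open CategoryTheory CategoryTheory.Limits AlgebraicGeometry TopologicalSpace Opposite
open scoped HomogeneousIdeal

noncomputable section

set_option backward.isDefEq.respectTransparency false
set_option linter.all false

namespace Groth.Agent.EgaQ

section ring

variable {A σ B τ : Type u} [CommRing A] [SetLike σ A] [AddSubgroupClass σ A]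
variable [CommRing B] [SetLike τ B] [AddSubgroupClass τ B]
variable {𝒜 : ℕ → σ} [GradedRing 𝒜] {ℬ : ℕ → τ} [GradedRing ℬ]

/-- Points of `Proj` are determined by the homogeneous elements of positive degree. -/
lemma proj_point_ext (x y : ProjectiveSpectrum 𝒜)
    (h : ∀ (d : ℕ) (f : A), 0 < d → f ∈ 𝒜 d → (f ∈ x.asHomogeneousIdeal ↔ f ∈ y.asHomogeneousIdeal)) :
    x = y := by
  classical
  obtain ⟨d, f, hd, hf, hfx⟩ : ∃ (d : ℕ) (f : A), 0 < d ∧ f ∈ 𝒜 d ∧ f ∉ x.asHomogeneousIdeal := by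
    by_contra! H
    refine x.not_irrelevant_le (show (𝒜₊).toIdeal ≤ x.asHomogeneousIdeal.toIdeal from ?_)
    rw [HomogeneousIdeal.irrelevant_eq_span, Ideal.span_le]
    simp only [Set.iUnion_subset_iff]
    exact fun i hi a ha ↦ H i a hi ha
  have hfy : f ∉ y.asHomogeneousIdeal := fun h' ↦ hfx ((h d f hd hf).mpr h')
  have key : ∀ (i : ℕ) (a : A), a ∈ 𝒜 i → (a ∈ x.asHomogeneousIdeal ↔ a ∈ y.asHomogeneousIdeal) := by
    intro i a ha
    have hm := h (i + d) (a * f) (by omega) (SetLike.mul_mem_graded ha hf)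
    exact ⟨fun hax ↦ (y.isPrime.mem_or_mem (hm.mp (x.asHomogeneousIdeal.toIdeal.mul_mem_right f hax))).resolve_right hfy,
      fun hay ↦ (x.isPrime.mem_or_mem (hm.mpr (y.asHomogeneousIdeal.toIdeal.mul_mem_right f hay))).resolve_right hfx⟩
  apply ProjectiveSpectrum.ext
  apply SetLike.ext
  intro a
  constructor
  · intro ha
    rw [← DirectSum.sum_support_decompose 𝒜 a]
    exact Ideal.sum_mem _ fun i _ ↦ (key i _ (SetLike.coe_mem _)).mp (x.asHomogeneousIdeal.2 i ha)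
  · intro ha
    rw [← DirectSum.sum_support_decompose 𝒜 a]
    exact Ideal.sum_mem _ fun i _ ↦ (key i _ (SetLike.coe_mem _)).mpr (y.asHomogeneousIdeal.2 i ha)

lemma mem_domMap_iff (ψ : 𝒜 →+*ᵍ ℬ) (x : (RelCone.domOpen ψ : (Proj ℬ).Opens).toScheme) {d : ℕ}
    {f : A} (hd : 0 < d) (hf : f ∈ 𝒜 d) :
    f ∈ (show ProjectiveSpectrum 𝒜 from domMap ψ x).asHomogeneousIdeal ↔
      ψ f ∈ (show ProjectiveSpectrum ℬ from (RelCone.domOpen ψ).ι x).asHomogeneousIdeal :=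
  not_iff_not.mp (SetLike.ext_iff.mp (domMap_preimage_basicOpen ψ hf hd) x)

variable {ι : 𝒜 →+*ᵍ ℬ} {z : B} (h : IsPolyExt ι z)
include h

/-- The retraction `z ↦ 0`. -/
def IsPolyExt.eval0 : ℬ →+*ᵍ 𝒜 :=
  let e : B →+* A :=
    (Polynomial.evalRingHom (0 : A)).comp (RingEquiv.ofBijective _ h.bij).symm.toRingHom
  { e with
    map_mem := fun {i b} hb ↦ h.mem_of_eval_zero (e := e)
      (fun a ↦ by
        show Polynomial.eval 0 ((RingEquiv.ofBijective _ h.bij).symm (ι a)) = a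
        rw [(RingEquiv.symm_apply_eq _).mpr (show ι a = RingEquiv.ofBijective _ h.bij (Polynomial.C a) by simp),
          Polynomial.eval_C])
      (by
        show Polynomial.eval 0 ((RingEquiv.ofBijective _ h.bij).symm z) = 0
        rw [(RingEquiv.symm_apply_eq _).mpr (show z = RingEquiv.ofBijective _ h.bij Polynomial.X by simp),
          Polynomial.eval_X])
      hb }

lemma IsPolyExt.eval0_ι (a : A) : h.eval0 (ι a) = a := by
  show Polynomial.eval 0 ((RingEquiv.ofBijective _ h.bij).symm (ι a)) = a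
  rw [(RingEquiv.symm_apply_eq _).mpr (show ι a = RingEquiv.ofBijective _ h.bij (Polynomial.C a) by simp),
    Polynomial.eval_C]

omit h in
lemma irrelevant_le_of_retraction (θ : ℬ →+*ᵍ 𝒜) (hθ : ∀ a, θ (ι a) = a) : 𝒜₊ ≤ (ℬ₊).map θ :=
  fun a ha ↦ hθ a ▸ Ideal.mem_map_of_mem _ (ConeX.map_mem_irrelevant ι ha)

omit h in
lemma exists_section (θ : ℬ →+*ᵍ 𝒜) (hθ : ∀ a, θ (ι a) = a) (hθ' : 𝒜₊ ≤ (ℬ₊).map θ) :
    ∃ k : Proj 𝒜 ⟶ (RelCone.domOpen ι : (Proj ℬ).Opens).toScheme,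
      k ≫ (RelCone.domOpen ι).ι = Proj.map θ hθ' ∧ k ≫ domMap ι = 𝟙 _ := by
  have e : θ.comp ι = GradedRingHom.id 𝒜 := GradedRingHom.ext hθ
  have hmem : ∀ y : Proj 𝒜, Proj.map θ hθ' y ∈ RelCone.domOpen ι := fun y ↦ by
    refine (mem_domOpen_comp ι θ hθ' y).mp ?_
    rw [e, domOpen_eq_top_of_irrelevant_le (GradedRingHom.id 𝒜) (by simp)]
    trivial
  let k := IsOpenImmersion.lift (RelCone.domOpen ι).ι (Proj.map θ hθ') (by
    rw [Scheme.Opens.range_ι]; rintro _ ⟨y, rfl⟩; exact hmem y)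
  have hk : k ≫ (RelCone.domOpen ι).ι = Proj.map θ hθ' := IsOpenImmersion.lift_fac _ _ _
  refine ⟨k, hk, ?_⟩
  have htop := domOpen_eq_top_of_irrelevant_le (GradedRingHom.id 𝒜) (by simp : 𝒜₊ ≤ (𝒜₊).map (GradedRingHom.id 𝒜))
  have htop' : RelCone.domOpen (θ.comp ι) = ⊤ := by rw [e, htop]
  let s : Proj 𝒜 ⟶ (RelCone.domOpen (θ.comp ι) : (Proj 𝒜).Opens).toScheme :=
    IsOpenImmersion.lift (RelCone.domOpen (θ.comp ι)).ι (𝟙 _) (by rw [Scheme.Opens.range_ι, htop']; simp)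
  let s' : Proj 𝒜 ⟶ (RelCone.domOpen (GradedRingHom.id 𝒜) : (Proj 𝒜).Opens).toScheme :=
    IsOpenImmersion.lift (RelCone.domOpen (GradedRingHom.id 𝒜)).ι (𝟙 _) (by rw [Scheme.Opens.range_ι, htop]; simp)
  rw [domMap_comp_map ι θ hθ' s k (by simp [s, hk]),
    domMap_congr _ e s s' (by simp [s, s']), domMap_eq_map _ (by simp), Proj.map_id]
  simp [s']

end ring

variable {Y : Scheme.{u}} {𝒮 𝒮h : RelProj.QCGrAlg Y} {ι : 𝒮.toQCAlg ⟶ 𝒮h.toQCAlg}
  {z : 𝒮h.presheaf.obj (op ⊤)} (hz : RelCone.IsPolyOver 𝒮 𝒮h ι z)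
  {PC : Scheme.{u}} {pC : PC ⟶ Y}
  {chartC : ∀ (U : Y.Opens) (hU : IsAffineOpen U),
    (((pC ⁻¹ᵁ U : PC.Opens) : Scheme.{u}) ≅ Proj (𝒮h.deg U hU))}
  (hPC : RelProj.IsRelProj 𝒮h pC chartC)
  {P : Scheme.{u}} {p : P ⟶ Y}
  {chart : ∀ (U : Y.Opens) (hU : IsAffineOpen U),
    (((p ⁻¹ᵁ U : P.Opens) : Scheme.{u}) ≅ Proj (𝒮.deg U hU))}

/-- The part of the pointed projective cone over `U`. -/
def pointedι (U : Y.Opens) (hU : IsAffineOpen U) :
    (RelCone.domOpen (RelProj.gradedHomAt ι hz.graded U hU) : (Proj (𝒮h.deg U hU)).Opens).toScheme ⟶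
      (RelCone.pointedProjCone 𝒮 hz pC chartC : PC.Opens).toScheme :=
  IsOpenImmersion.lift (RelCone.pointedProjCone 𝒮 hz pC chartC).ι
    ((RelCone.domOpen (RelProj.gradedHomAt ι hz.graded U hU)).ι ≫ RelProj.emb pC chartC U hU) (by
      rw [Scheme.Opens.range_ι]
      rintro _ ⟨y, rfl⟩
      exact Opens.mem_iSup.mpr ⟨⟨U, hU⟩, y.1, y.2, rfl⟩)

@[reassoc]
lemma pointedι_ι (U : Y.Opens) (hU : IsAffineOpen U) :
    pointedι hz U hU (pC := pC) (chartC := chartC) ≫ (RelCone.pointedProjCone 𝒮 hz pC chartC).ι =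
      (RelCone.domOpen (RelProj.gradedHomAt ι hz.graded U hU)).ι ≫ RelProj.emb pC chartC U hU :=
  IsOpenImmersion.lift_fac _ _ _

/-- The defining equations of the canonical retraction. -/
def IsRetr (r : (RelCone.pointedProjCone 𝒮 hz pC chartC : PC.Opens).toScheme ⟶ P) : Prop :=
  ∀ (U : Y.Opens) (hU : IsAffineOpen U) (d : ℕ) (hd : 0 < d) (f : 𝒮.presheaf.obj (op U)) (hf : f ∈ 𝒮.deg U hU d)
        (g : Spec (CommRingCat.of (HomogeneousLocalization.Away (𝒮h.deg U hU) ((RelProj.gradedHomAt ι hz.graded U hU) f))) ⟶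
          ((RelCone.pointedProjCone 𝒮 hz pC chartC : PC.Opens) : Scheme.{u})),
        g ≫ (RelCone.pointedProjCone 𝒮 hz pC chartC).ι =
            Proj.awayι (𝒮h.deg U hU) ((RelProj.gradedHomAt ι hz.graded U hU) f) ((RelProj.gradedHomAt ι hz.graded U hU).2 hf) hd ≫
              RelProj.emb pC chartC U hU →
          g ≫ r =
            Spec.map (CommRingCat.ofHom (HomogeneousLocalization.Away.map (RelProj.gradedHomAt ι hz.graded U hU) f)) ≫
              Proj.awayι (𝒮.deg U hU) f hf hd ≫ RelProj.emb p chart U hU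

lemma isRetr_iff (r : (RelCone.pointedProjCone 𝒮 hz pC chartC : PC.Opens).toScheme ⟶ P) :
    IsRetr hz (chart := chart) r ↔ ∀ (U : Y.Opens) (hU : IsAffineOpen U),
      pointedι hz U hU ≫ r = domMap (RelProj.gradedHomAt ι hz.graded U hU) ≫ RelProj.emb p chart U hU := by
  constructor
  · intro h U hU
    refine dom_hom_ext _ fun {d f} hf hd ↦ ?_
    rw [← Category.assoc, h U hU d hd f hf _ (by rw [Category.assoc, pointedι_ι, awayDom_ι_assoc]),
      awayDom_domMap_assoc]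
  · intro h U hU d hd f hf g hg
    have : g = awayDom (RelProj.gradedHomAt ι hz.graded U hU) hf hd ≫ pointedι hz U hU := by
      rw [← cancel_mono (RelCone.pointedProjCone 𝒮 hz pC chartC).ι, hg, Category.assoc, pointedι_ι,
        awayDom_ι_assoc]
    rw [this, Category.assoc, h U hU, awayDom_domMap_assoc]

include hPC

lemma exists_mem_range_pointedι (x : (RelCone.pointedProjCone 𝒮 hz pC chartC : PC.Opens).toScheme)
    (U : Y.Opens) (hU : IsAffineOpen U) (hx : pC x.1 ∈ U) :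
    x ∈ Set.range (pointedι hz U hU (pC := pC) (chartC := chartC)) := by
  obtain ⟨y, hy⟩ := mem_range_emb (p := pC) (chart := chartC) U hU x.1 hx
  have hyd := (emb_mem_pointedProjCone hz hPC U hU y).mp (hy ▸ x.2)
  refine ⟨⟨y, hyd⟩, ?_⟩
  apply (RelCone.pointedProjCone 𝒮 hz pC chartC).ι.isOpenEmbedding.injective
  rw [← Scheme.Hom.comp_apply, pointedι_ι]
  exact hy

lemma pointed_hom_ext {Z : Scheme.{u}} {r r' : (RelCone.pointedProjCone 𝒮 hz pC chartC : PC.Opens).toScheme ⟶ Z}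
    (h : ∀ (U : Y.Opens) (hU : IsAffineOpen U), pointedι hz U hU ≫ r = pointedι hz U hU ≫ r') : r = r' := by
  have hoi : ∀ (U : Y.Opens) (hU : IsAffineOpen U),
      IsOpenImmersion (pointedι hz U hU (pC := pC) (chartC := chartC)) := fun U hU ↦ by
    have : IsOpenImmersion (pointedι hz U hU (pC := pC) (chartC := chartC) ≫
        (RelCone.pointedProjCone 𝒮 hz pC chartC).ι) := by rw [pointedι_ι]; infer_instance
    exact IsOpenImmersion.of_comp _ (RelCone.pointedProjCone 𝒮 hz pC chartC).ι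
  refine Scheme.Cover.hom_ext (Scheme.Cover.mkOfCovers Y.affineOpens _
    (fun U ↦ pointedι hz U.1 U.2) (fun x ↦ ?_) (fun U ↦ hoi U.1 U.2)) _ _ fun U ↦ h U.1 U.2
  obtain ⟨_, ⟨U, hU, rfl⟩, hy, -⟩ := Y.isBasis_affineOpens.exists_subset_of_mem_open
    (Set.mem_univ (pC x.1)) isOpen_univ
  exact ⟨⟨U, hU⟩, exists_mem_range_pointedι hz hPC x U hU hy⟩

variable (hP : RelProj.IsRelProj 𝒮 p chart)
include hP

lemma exists_isRetr :
    ∃ r, IsRetr hz (chart := chart) (pC := pC) (chartC := chartC) r ∧ IsAffineHom r ∧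
      r ≫ p = (RelCone.pointedProjCone 𝒮 hz pC chartC).ι ≫ pC := by
  have e := pointedProjCone_eq_domQ hz hPC
  obtain ⟨v, hv⟩ := exists_isProjQMapOn (RelProj.QGrHom.ofHom ι hz.graded) hPC hP
  refine ⟨(PC.isoOfEq e).hom ≫ v, (isRetr_iff hz _).mpr fun U hU ↦ ?_, ?_, ?_⟩
  · have e2 := uAt_ofHom ι hz.graded U hU
    let m := ((Proj (𝒮h.deg U hU)).isoOfEq (congrArg RelCone.domOpen e2.symm)).hom
    have h1 := domMap_congr _ e2.symm (𝟙 _) m (by simp [m])
    rw [Category.id_comp] at h1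
    have h2 : pointedι hz U hU ≫ (PC.isoOfEq e).hom = m ≫ domι _ (idPair U hU) := by
      rw [← cancel_mono (RelProj.domQ (RelProj.QGrHom.ofHom ι hz.graded) pC chartC).ι, Category.assoc,
        Category.assoc, Scheme.isoOfEq_hom_ι, pointedι_ι, domι_ι]
      exact (Scheme.isoOfEq_hom_ι_assoc _ _ _).symm
    rw [reassoc_of% h2, (isProjQMapOn_iff v).mp hv (idPair U hU), h1]
    simp only [Category.assoc]
    rfl
  · have : IsAffineHom v := projQMapOn_of_pairs hP hPC hv @IsAffineHom.{u} fun π _ ↦ isAffineHom_domMap _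
    infer_instance
  · rw [Category.assoc, projQMapOn_comp hPC hP hv, Category.comp_id, Scheme.isoOfEq_hom_ι_assoc]

lemma isRetr_unique {r r' : (RelCone.pointedProjCone 𝒮 hz pC chartC : PC.Opens).toScheme ⟶ P}
    (h : IsRetr hz (chart := chart) r) (h' : IsRetr hz (chart := chart) r') : r = r' :=
  pointed_hom_ext hz hPC fun U hU ↦ ((isRetr_iff hz r).mp h U hU).trans ((isRetr_iff hz r').mp h' U hU).symm

lemma isRetr_surjective {r : (RelCone.pointedProjCone 𝒮 hz pC chartC : PC.Opens).toScheme ⟶ P}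
    (h : IsRetr hz (chart := chart) r) : Function.Surjective r.base := by
  intro x
  obtain ⟨_, ⟨U, hU, rfl⟩, hy, -⟩ := Y.isBasis_affineOpens.exists_subset_of_mem_open
    (Set.mem_univ (p x)) isOpen_univ
  obtain ⟨y, rfl⟩ := mem_range_emb (p := p) (chart := chart) U hU x hy
  have hpe := isPolyExt hz U hU
  obtain ⟨k, -, hk⟩ := exists_section hpe.eval0 hpe.eval0_ι (irrelevant_le_of_retraction _ hpe.eval0_ι)
  refine ⟨pointedι hz U hU (k y), ?_⟩
  rw [← Scheme.Hom.comp_apply, (isRetr_iff hz r).mp h U hU, Scheme.Hom.comp_apply,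
    ← Scheme.Hom.comp_apply k, hk]
  rfl

omit hPC in
lemma isRetr_retraction {r : (RelCone.pointedProjCone 𝒮 hz pC chartC : PC.Opens).toScheme ⟶ P}
    (h : IsRetr hz (chart := chart) r) (θ : 𝒮h.toQCAlg ⟶ 𝒮.toQCAlg) (hθ : RelProj.IsGradedHom θ)
    (hιθ : ι ≫ θ = 𝟙 _)
    (hirr : ∀ (U : Y.Opens) (hU : IsAffineOpen U),
      (𝒮.deg U hU)₊ ≤ ((𝒮h.deg U hU)₊).map (RelProj.gradedHomAt θ hθ U hU))
    (j : P ⟶ PC) (hj : RelProj.IsRelProjMap θ hθ hirr chartC chart j)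
    (j' : P ⟶ (RelCone.pointedProjCone 𝒮 hz pC chartC : PC.Opens).toScheme)
    (hj' : j' ≫ (RelCone.pointedProjCone 𝒮 hz pC chartC).ι = j) : j' ≫ r = 𝟙 P := by
  refine (RelTildeX.embCover p chart).hom_ext _ _ fun U ↦ ?_
  show RelProj.emb p chart U.1 U.2 ≫ j' ≫ r = RelProj.emb p chart U.1 U.2 ≫ 𝟙 P
  obtain ⟨k, hk1, hk2⟩ := exists_section (ι := RelProj.gradedHomAt ι hz.graded U.1 U.2)
    (RelProj.gradedHomAt θ hθ U.1 U.2) (theta_ι hιθ U.1) (hirr U.1 U.2)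
  have e : RelProj.emb p chart U.1 U.2 ≫ j' = k ≫ pointedι hz U.1 U.2 := by
    rw [← cancel_mono (RelCone.pointedProjCone 𝒮 hz pC chartC).ι, Category.assoc, hj', Category.assoc,
      pointedι_ι, reassoc_of% hk1, RelProj.emb, RelProj.emb, Category.assoc, hj U.1 U.2, Iso.inv_hom_id_assoc]
  rw [reassoc_of% e, (isRetr_iff hz r).mp h U.1 U.2, reassoc_of% hk2, Category.comp_id]

lemma coneImm_pointed {i : 𝒮.toQCAlg.spec ⟶ PC} (hi : RelCone.IsConeImm 𝒮 hz pC chartC i)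
    {r : (RelCone.pointedProjCone 𝒮 hz pC chartC : PC.Opens).toScheme ⟶ P}
    (h : IsRetr hz (chart := chart) r)
    (i' : (RelCone.pointedCone 𝒮 : 𝒮.toQCAlg.spec.Opens).toScheme ⟶
      (RelCone.pointedProjCone 𝒮 hz pC chartC : PC.Opens).toScheme)
    (hi' : i' ≫ (RelCone.pointedProjCone 𝒮 hz pC chartC).ι = (RelCone.pointedCone 𝒮).ι ≫ i) :
    IsAffineHom (i' ≫ r) ∧ Function.Surjective (i' ≫ r).base := by
  have hic := coneImm_comp hz hi hPC
  have hrp : r ≫ p = (RelCone.pointedProjCone 𝒮 hz pC chartC).ι ≫ pC := by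
    obtain ⟨r₀, hr₀, -, hcomp⟩ := exists_isRetr hz hPC hP
    rw [isRetr_unique hz hPC hP h hr₀, hcomp]
  have hcomp : (i' ≫ r) ≫ p = (RelCone.pointedCone 𝒮).ι ≫ 𝒮.toQCAlg.π := by
    rw [Category.assoc, hrp, reassoc_of% hi', hic]
  have hpt : ∀ (U : Y.Opens) (hU : IsAffineOpen U) (w : Spec (𝒮.presheaf.obj (op U)))
      (c : (RelCone.pointedCone 𝒮 : 𝒮.toQCAlg.spec.Opens).toScheme)
      (hc : c.1 = 𝒮.toQCAlg.ι U hU w),
      ∃ y : Proj (𝒮.deg U hU), (i' ≫ r) c = RelProj.emb p chart U hU y ∧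
        ∀ (d : ℕ) (f : 𝒮.presheaf.obj (op U)), 0 < d → f ∈ 𝒮.deg U hU d →
          (f ∈ (show ProjectiveSpectrum _ from y).asHomogeneousIdeal ↔ f ∈ w.asIdeal) := by
    intro U hU w c hc
    have hw : w ∈ RelCone.vertexCompl (𝒮.deg U hU) :=
      (ConeX.mem_pointedCone 𝒮 U hU w).mp (hc ▸ c.2)
    have he : i (𝒮.toQCAlg.ι U hU w) = RelProj.emb pC chartC U hU
        (Proj.awayι (𝒮h.deg U hU) _ (hz.deg_z U hU) one_pos
          (Spec.map (CommRingCat.ofHom (hz.awayZToBase U hU)) w)) := by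
      rw [← Scheme.Hom.comp_apply, hi U hU]; rfl
    have hd0 := (coneImm_mem_pointedProjCone hz hi hPC U hU w).mpr hw
    rw [he, emb_mem_pointedProjCone hz hPC] at hd0
    refine ⟨domMap (RelProj.gradedHomAt ι hz.graded U hU) ⟨_, hd0⟩, ?_, fun d f hd hf ↦ ?_⟩
    · have e : i' c = pointedι hz U hU ⟨_, hd0⟩ := by
        apply (RelCone.pointedProjCone 𝒮 hz pC chartC).ι.isOpenEmbedding.injective
        rw [← Scheme.Hom.comp_apply, hi', ← Scheme.Hom.comp_apply, pointedι_ι]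
        show i c.1 = RelProj.emb pC chartC U hU _
        rw [hc, he]
        rfl
      rw [Scheme.Hom.comp_apply, e, ← Scheme.Hom.comp_apply, (isRetr_iff hz r).mp h U hU]
      rfl
    · refine (mem_domMap_iff _ ⟨_, hd0⟩ hd hf).trans ?_
      refine ((isPolyExt hz U hU).mem_awayι (e := hz.evalOne U hU) (awayZToBase_mk hz U hU) w
        ((RelProj.gradedHomAt ι hz.graded U hU).map_mem hf) hd).trans ?_
      show hz.evalOne U hU ((ι.hom.app (op U)).hom f) ∈ _ ↔ _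
      rw [hz.evalOne_ι]
  refine ⟨?_, fun x ↦ ?_⟩
  · let 𝒲 : {i : Σ U : Y.affineOpens, ℕ × 𝒮.presheaf.obj (op U.1) // 0 < i.2.1 ∧ i.2.2 ∈ 𝒮.deg i.1.1 i.1.2 i.2.1} → P.Opens :=
      fun k ↦ RelProj.emb p chart k.1.1.1 k.1.1.2 ''ᵁ Proj.basicOpen (𝒮.deg k.1.1.1 k.1.1.2) k.1.2.2
    refine isAffineHom_of_forall_exists_isAffineOpen (i' ≫ r) fun x ↦ ?_
    obtain ⟨_, ⟨U, hU, rfl⟩, hy, -⟩ := Y.isBasis_affineOpens.exists_subset_of_mem_open
      (Set.mem_univ (p x)) isOpen_univ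
    obtain ⟨y, rfl⟩ := mem_range_emb (p := p) (chart := chart) U hU x hy
    obtain ⟨d, f, hd, hf, hyf, -⟩ := Proj16.exists_basicOpen_subset
      (U := (Set.univ : Set (Proj (𝒮.deg U hU)))) isOpen_univ (Set.mem_univ y)
    refine ⟨RelProj.emb p chart U hU ''ᵁ Proj.basicOpen (𝒮.deg U hU) f, ⟨y, hyf, rfl⟩,
      (Proj.isAffineOpen_basicOpen _ f hf hd).image_of_isOpenImmersion _, ?_⟩
    have heq : (i' ≫ r) ⁻¹ᵁ (RelProj.emb p chart U hU ''ᵁ Proj.basicOpen (𝒮.deg U hU) f) =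
        (RelCone.pointedCone 𝒮).ι ⁻¹ᵁ (𝒮.toQCAlg.ι U hU ''ᵁ PrimeSpectrum.basicOpen f) := by
      ext c
      constructor
      · rintro ⟨y', hy', hc⟩
        have hcU : 𝒮.toQCAlg.π c.1 ∈ U := by
          have := congr($hcomp c)
          simp only [Scheme.Hom.comp_apply] at this
          rw [show c.1 = (RelCone.pointedCone 𝒮).ι c from rfl, ← this, ← Scheme.Hom.comp_apply i', ← hc]
          exact π_emb_mem U hU y'
        obtain ⟨w, hw⟩ := (𝒮.toQCAlg.π_preimage U hU).le hcU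
        obtain ⟨y'', hy'', hiff⟩ := hpt U hU w c hw.symm
        obtain rfl := (RelProj.emb p chart U hU).isOpenEmbedding.injective (hc.trans hy'')
        exact ⟨w, fun h' ↦ hy' ((hiff d f hd hf).mpr h'), hw⟩
      · rintro ⟨w, hw, hwc⟩
        obtain ⟨y', hy', hiff⟩ := hpt U hU w c hwc.symm
        exact ⟨y', fun h' ↦ hw ((hiff d f hd hf).mp h'), hy'.symm⟩
    rw [heq]
    refine (((IsAffineOpen.Spec_basicOpen f).image_of_isOpenImmersion _).preimage_of_isOpenImmersion _ ?_)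
    rw [Scheme.Opens.opensRange_ι]
    rintro _ ⟨w, hw, rfl⟩
    exact (ConeX.mem_pointedCone 𝒮 U hU w).mpr ((ConeX.mem_vertexCompl w).mpr
      ⟨f, HomogeneousIdeal.mem_irrelevant_of_mem _ hd hf, hw⟩)
  · obtain ⟨_, ⟨U, hU, rfl⟩, hy, -⟩ := Y.isBasis_affineOpens.exists_subset_of_mem_open
      (Set.mem_univ (p x)) isOpen_univ
    obtain ⟨y, rfl⟩ := mem_range_emb (p := p) (chart := chart) U hU x hy
    let q : ProjectiveSpectrum (𝒮.deg U hU) := y
    let w : Spec (𝒮.presheaf.obj (op U)) := (⟨q.asHomogeneousIdeal.toIdeal, q.isPrime⟩ : PrimeSpectrum _)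
    have hw : 𝒮.toQCAlg.ι U hU w ∈ RelCone.pointedCone 𝒮 :=
      (ConeX.mem_pointedCone 𝒮 U hU w).mpr ((ConeX.mem_vertexCompl w).mpr
        (SetLike.not_le_iff_exists.mp q.not_irrelevant_le))
    obtain ⟨y', hy', hiff⟩ := hpt U hU w ⟨_, hw⟩ rfl
    exact ⟨⟨_, hw⟩, hy'.trans (congrArg _ (proj_point_ext (𝒜 := 𝒮.deg U hU) y' y hiff))⟩

end Groth.Agent.EgaQ
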