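import Groth.Agent.EgaQ.DomMap
import Mathlib.AlgebraicGeometry.Morphisms.ClosedImmersion

/-!
# Graded homomorphisms bijective in large degrees
-/

universe u

open SetLike AlgebraicGeometry HomogeneousLocalization CategoryTheory CategoryTheory.Limits
open HomogeneousIdeal
open scoped HomogeneousIdeal

set_option backward.isDefEq.respectTransparency false

namespace Groth.Agent.EgaQ

variable {A σ B τ : Type u} [CommRing A] [SetLike σ A] [AddSubgroupClass σ A]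
variable [CommRing B] [SetLike τ B] [AddSubgroupClass τ B]
variable {𝒜 : ℕ → σ} [GradedRing 𝒜] {ℬ : ℕ → τ} [GradedRing ℬ]
variable (ψ : 𝒜 →+*ᵍ ℬ) {N : ℕ}

lemma domOpen_eq_top_of_surj (hN : ∀ k, N ≤ k → ∀ y ∈ ℬ k, ∃ x ∈ 𝒜 k, ψ x = y) :
    RelCone.domOpen ψ = ⊤ := by
  refine eq_top_iff.mpr fun z _ ↦ ?_
  by_contra hne
  refine z.not_irrelevant_le ?_
  rw [← toIdeal_le_toIdeal_iff, HomogeneousIdeal.irrelevant_eq_span, Ideal.span_le]
  simp only [Set.iUnion_subset_iff]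
  intro i hi b hb
  by_contra hbz
  obtain ⟨a, ha, hab⟩ := hN ((N + 1) * i) (le_trans (Nat.le_succ N) (Nat.le_mul_of_pos_right _ hi))
    (b ^ (N + 1)) (by simpa using SetLike.pow_mem_graded (N + 1) hb)
  have hpos : 0 < (N + 1) * i := Nat.mul_pos (Nat.succ_pos N) hi
  refine hne (basicOpen_le_domOpen ψ ha hpos ?_)
  rw [hab]
  exact fun h ↦ hbz (z.isPrime.mem_of_pow_mem _ h)

lemma awayMk_pow_mul {A σ : Type u} [CommRing A] [SetLike σ A] [AddSubgroupClass σ A] (𝒜 : ℕ → σ)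
    [GradedRing 𝒜] {s : A} {d : ℕ} (hs : s ∈ 𝒜 d) (m n : ℕ) (a : A) (ha : a ∈ 𝒜 (n • d)) :
    Away.mk 𝒜 hs n a ha = Away.mk 𝒜 hs (m + n) (s ^ m * a) (by
      rw [add_smul]; exact SetLike.mul_mem_graded (SetLike.pow_mem_graded m hs) ha) := by
  apply HomogeneousLocalization.val_injective
  simp only [Away.val_mk, Localization.mk_eq_mk_iff, Localization.r_iff_exists]
  exact ⟨1, by simp [pow_add]; ring⟩

lemma awayMap_surjective_of_surj (hN : ∀ k, N ≤ k → ∀ y ∈ ℬ k, ∃ x ∈ 𝒜 k, ψ x = y)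
    {d : ℕ} {f : A} (hd : 0 < d) (hf : f ∈ 𝒜 d) : Function.Surjective (Away.map ψ f) := by
  intro x
  obtain ⟨n, b, hb, rfl⟩ := x.mk_surjective ℬ (ψ.map_mem hf)
  have hm : (ψ f) ^ N * b ∈ ℬ ((N + n) • d) := by
    rw [add_smul]; exact SetLike.mul_mem_graded (SetLike.pow_mem_graded N (ψ.map_mem hf)) hb
  have hNle : N ≤ (N + n) • d := by
    rw [smul_eq_mul]
    exact le_trans (Nat.le_add_right N n) (Nat.le_mul_of_pos_right _ hd)
  obtain ⟨a, ha, hab⟩ := hN _ hNle _ hm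
  refine ⟨Away.mk 𝒜 hf (N + n) a ha, ?_⟩
  rw [Away.map_mk, awayMk_pow_mul ℬ (ψ.map_mem hf) N n b hb]
  congr 1

lemma awayMap_injective_of_inj (hN : ∀ k, N ≤ k → ∀ x ∈ 𝒜 k, ψ x = 0 → x = 0)
    {d : ℕ} {f : A} (hd : 0 < d) (hf : f ∈ 𝒜 d) : Function.Injective (Away.map ψ f) := by
  rw [injective_iff_map_eq_zero]
  intro x hx
  obtain ⟨n, a, ha, rfl⟩ := x.mk_surjective 𝒜 hf
  rw [Away.map_mk, ← (HomogeneousLocalization.val_injective _).eq_iff,
    Away.val_mk, HomogeneousLocalization.val_zero, Localization.mk_eq_mk'] at hx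
  obtain ⟨⟨_, m, rfl⟩, hm⟩ := (IsLocalization.mk'_eq_zero_iff _ _).mp hx
  apply HomogeneousLocalization.val_injective
  rw [Away.val_mk, HomogeneousLocalization.val_zero, Localization.mk_eq_mk']
  refine (IsLocalization.mk'_eq_zero_iff _ _).mpr ⟨⟨f ^ (N + m), _, rfl⟩, ?_⟩
  have hmem : f ^ (N + m) * a ∈ 𝒜 ((N + m) • d + n • d) :=
    SetLike.mul_mem_graded (SetLike.pow_mem_graded _ hf) ha
  refine hN _ (le_trans (le_trans (Nat.le_add_right N m) (Nat.le_mul_of_pos_right _ hd))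
    (Nat.le_add_right _ _)) _ hmem ?_
  change ψ f ^ m * ψ a = 0 at hm
  rw [map_mul, map_pow, pow_add, mul_assoc, hm, mul_zero]

lemma isClosedImmersion_domMap (hN : ∀ k, N ≤ k → ∀ y ∈ ℬ k, ∃ x ∈ 𝒜 k, ψ x = y) :
    IsClosedImmersion (domMap ψ) :=
  domMap_of_away ψ fun _ _ hd hf ↦
    IsClosedImmersion.spec_of_surjective _ (awayMap_surjective_of_surj ψ hN hd hf)

lemma isIso_domMap (hN : ∀ k, N ≤ k → ∀ y ∈ ℬ k, ∃ x ∈ 𝒜 k, ψ x = y)
    (hN' : ∀ k, N ≤ k → ∀ x ∈ 𝒜 k, ψ x = 0 → x = 0) : IsIso (domMap ψ) :=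
  domMap_of_away (P := MorphismProperty.isomorphisms Scheme.{u}) ψ fun _ f hd hf ↦ by
    have : IsIso (CommRingCat.ofHom (Away.map ψ f)) :=
      (ConcreteCategory.isIso_iff_bijective _).mpr
        ⟨awayMap_injective_of_inj ψ hN' hd hf, awayMap_surjective_of_surj ψ hN hd hf⟩
    simp only [MorphismProperty.isomorphisms.iff]
    infer_instance

end Groth.Agent.EgaQ
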