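import Groth.Agent.EgaQ.GlueMod
import Groth.Agent.EgaQ.ComapLoc
import Groth.Agent.EgaQ.Rel
import Groth.Agent.RelTildeX.Twist

/-!
# Existence of the module attached to a quasi-coherent graded module on a relative `Proj`
-/

noncomputable section

universe u

open CategoryTheory CategoryTheory.Limits AlgebraicGeometry TopologicalSpace Opposite
open scoped HomogeneousIdeal

set_option backward.isDefEq.respectTransparency false
set_option linter.all false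
set_option maxHeartbeats 800000

namespace Groth.Agent.EgaQ

variable {Y P : Scheme.{u}} {𝒮 : RelProj.QCGrAlg Y} {p : P ⟶ Y}
  {chart : ∀ (U : Y.Opens) (hU : IsAffineOpen U), (((p ⁻¹ᵁ U : P.Opens) : Scheme.{u}) ≅ Proj (𝒮.deg U hU))}
  (hP : RelProj.IsRelProj 𝒮 p chart) (ℳ : RelProj.GrModule 𝒮) (n : ℤ)

/-- The local model over an affine open. -/
def tildeModel (U : Y.affineOpens) : P.Modules :=
  (Scheme.Modules.pushforward (RelProj.emb p chart U.1 U.2)).obj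
    (GrMod.tilde (𝒮.deg U.1 U.2) (ℳ.deg U.1 U.2) n)

/-- The basic-open relation between affine opens. -/
def IsBasicIn (U V : Y.affineOpens) : Prop := ∃ r : Γ(Y, U.1), Y.basicOpen r = V.1

lemma IsBasicIn.le {U V : Y.affineOpens} (h : IsBasicIn U V) : V.1 ≤ U.1 := by
  obtain ⟨r, hr⟩ := h
  exact hr ▸ Y.basicOpen_le r

lemma IsBasicIn.trans {U V W : Y.affineOpens} (h : IsBasicIn U V) (h' : IsBasicIn V W) : IsBasicIn U W := by
  obtain ⟨U, hU⟩ := U
  obtain ⟨V, hV⟩ := V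
  obtain ⟨r, rfl : Y.basicOpen r = V⟩ := h
  obtain ⟨r', hr'⟩ := h'
  obtain ⟨g, hg⟩ := hU.basicOpen_basicOpen_is_basicOpen r r'
  exact ⟨g, hg.trans hr'⟩

/-- The comparison on `Proj` over a basic open. -/
def tildeComap (U V : Y.affineOpens) (h : IsBasicIn U V) :
    GrMod.tilde (𝒮.deg U.1 U.2) (ℳ.deg U.1 U.2) n ⟶
      (Scheme.Modules.pushforward (Proj.map (𝒮.res U.2 V.2 h.le)
        (Proj16.irrelevant_le_res 𝒮 U.2 V.2 h.le h))).obj (GrMod.tilde (𝒮.deg V.1 V.2) (ℳ.deg V.1 V.2) n) :=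
  GrMod.comap (𝒮.res U.2 V.2 h.le) (Proj16.irrelevant_le_res 𝒮 U.2 V.2 h.le h)
    (ℳ.res U.2 V.2 h.le) (fun i m hm => ℳ.res_mem U.2 V.2 h.le i m hm) n

include hP in
/-- The transition map. -/
def tildeTrans (U V : Y.affineOpens) (h : IsBasicIn U V) :
    tildeModel (p := p) (chart := chart) ℳ n U ⟶ tildeModel (p := p) (chart := chart) ℳ n V :=
  (Scheme.Modules.pushforward (RelProj.emb p chart U.1 U.2)).map (tildeComap ℳ n U V h) ≫
    (Scheme.Modules.pushforwardComp (Proj.map (𝒮.res U.2 V.2 h.le)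
        (Proj16.irrelevant_le_res 𝒮 U.2 V.2 h.le h)) (RelProj.emb p chart U.1 U.2)).hom.app
          (GrMod.tilde (𝒮.deg V.1 V.2) (ℳ.deg V.1 V.2) n) ≫
      (Scheme.Modules.pushforwardCongr (map_res_emb' hP U.2 V.2 h.le h)).hom.app
        (GrMod.tilde (𝒮.deg V.1 V.2) (ℳ.deg V.1 V.2) n)

lemma tildeTrans_val (U V : Y.affineOpens) (h : IsBasicIn U V) (W : P.Opens)
    (s : Γ(tildeModel (p := p) (chart := chart) ℳ n U, W))
    (y : ProjectiveSpectrum (𝒮.deg V.1 V.2)) (hy : (RelProj.emb p chart V.1 V.2).base y ∈ W)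
    (hy' : (RelProj.emb p chart U.1 U.2).base (ProjectiveSpectrum.comap
      (𝒮.res U.2 V.2 h.le) (Proj16.irrelevant_le_res 𝒮 U.2 V.2 h.le h) y) ∈ W) :
    GrMod.val (V := RelProj.emb p chart V.1 V.2 ⁻¹ᵁ W) ((tildeTrans hP ℳ n U V h).app W s) ⟨y, hy⟩ =
      GrMod.locModMap (𝒮.res U.2 V.2 h.le) (Proj16.irrelevant_le_res 𝒮 U.2 V.2 h.le h)
        (ℳ.res U.2 V.2 h.le) y (GrMod.val (V := RelProj.emb p chart U.1 U.2 ⁻¹ᵁ W) s ⟨_, hy'⟩) :=
  rfl

lemma val_congr {A σ M τ : Type u} [CommRing A] [SetLike σ A] [AddSubgroupClass σ A] {𝒜 : ℕ → σ} [GradedRing 𝒜]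
    [AddCommGroup M] [Module A M] [SetLike τ M] [AddSubgroupClass τ M] {ℳ : ℕ → τ} [SetLike.GradedSMul 𝒜 ℳ]
    {n : ℤ} {V : (Proj 𝒜).Opens} (s : Γ(GrMod.tilde 𝒜 ℳ n, V)) {x₁ x₂ : V} (e : x₁.1 = x₂.1)
    (m : M) (g : A) (hg : g ∉ x₁.1.asHomogeneousIdeal) (hg' : g ∉ x₂.1.asHomogeneousIdeal)
    (h : GrMod.val s x₁ = LocalizedModule.mk m ⟨g, hg⟩) :
    GrMod.val s x₂ = LocalizedModule.mk m ⟨g, hg'⟩ := by
  obtain rfl : x₁ = x₂ := Subtype.ext e
  exact h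

include hP in
lemma tildeTrans_comp (U V E : Y.affineOpens) (h : IsBasicIn U V) (h' : IsBasicIn V E) :
    tildeTrans hP ℳ n U V h ≫ tildeTrans hP ℳ n V E h' = tildeTrans hP ℳ n U E (h.trans h') := by
  refine Scheme.Modules.hom_ext _ _ fun W => ?_
  ext s
  refine GrModX.ext_val _ _ fun ⟨y, hy⟩ => ?_
  have e1 := congrArg (fun ψ : Proj (𝒮.deg E.1 E.2) ⟶ P => ψ.base y) (map_res_emb' hP V.2 E.2 h'.le h')
  have hy1 : (RelProj.emb p chart V.1 V.2).base (ProjectiveSpectrum.comap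
      (𝒮.res V.2 E.2 h'.le) (Proj16.irrelevant_le_res 𝒮 V.2 E.2 h'.le h') y) ∈ W :=
    (show _ = _ from e1).symm ▸ hy
  have e2 := congrArg (fun ψ : Proj (𝒮.deg V.1 V.2) ⟶ P => ψ.base (ProjectiveSpectrum.comap
      (𝒮.res V.2 E.2 h'.le) (Proj16.irrelevant_le_res 𝒮 V.2 E.2 h'.le h') y)) (map_res_emb' hP U.2 V.2 h.le h)
  have hy2 : (RelProj.emb p chart U.1 U.2).base (ProjectiveSpectrum.comap (𝒮.res U.2 V.2 h.le)
      (Proj16.irrelevant_le_res 𝒮 U.2 V.2 h.le h) (ProjectiveSpectrum.comap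
        (𝒮.res V.2 E.2 h'.le) (Proj16.irrelevant_le_res 𝒮 V.2 E.2 h'.le h') y)) ∈ W :=
    (show _ = _ from e2).symm ▸ hy1
  have e3 := congrArg (fun ψ : Proj (𝒮.deg E.1 E.2) ⟶ P => ψ.base y)
    (map_res_emb' hP U.2 E.2 (h.trans h').le (h.trans h'))
  have hy3 : (RelProj.emb p chart U.1 U.2).base (ProjectiveSpectrum.comap
      (𝒮.res U.2 E.2 (h.trans h').le) (Proj16.irrelevant_le_res 𝒮 U.2 E.2 (h.trans h').le (h.trans h')) y) ∈ W :=
    (show _ = _ from e3).symm ▸ hy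
  refine (tildeTrans_val hP ℳ n V E h' W ((tildeTrans hP ℳ n U V h).app W s) y hy hy1).trans ?_
  rw [tildeTrans_val hP ℳ n U V h W s _ hy1 hy2]
  refine Eq.trans ?_ (tildeTrans_val hP ℳ n U E (h.trans h') W s y hy hy3).symm
  have hres : ∀ a, 𝒮.res V.2 E.2 h'.le (𝒮.res U.2 V.2 h.le a) = 𝒮.res U.2 E.2 (h.trans h').le a := fun a => by
    simp only [RelProj.QCGrAlg.res_apply, ← CommRingCat.comp_apply, ← Functor.map_comp]; rfl
  have hresM : ∀ m, ℳ.res V.2 E.2 h'.le (ℳ.res U.2 V.2 h.le m) = ℳ.res U.2 E.2 (h.trans h').le m := fun m => by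
    exact (congr(($(ℳ.mod.val.map_comp (homOfLE h.le).op (homOfLE h'.le).op)).hom m)).symm
  have hpt : (ProjectiveSpectrum.comap (𝒮.res U.2 V.2 h.le) (Proj16.irrelevant_le_res 𝒮 U.2 V.2 h.le h)
      (ProjectiveSpectrum.comap (𝒮.res V.2 E.2 h'.le) (Proj16.irrelevant_le_res 𝒮 V.2 E.2 h'.le h') y)) =
      ProjectiveSpectrum.comap (𝒮.res U.2 E.2 (h.trans h').le)
        (Proj16.irrelevant_le_res 𝒮 U.2 E.2 (h.trans h').le (h.trans h')) y := by
    refine ProjectiveSpectrum.ext (SetLike.ext fun a => ?_)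
    show 𝒮.res V.2 E.2 h'.le (𝒮.res U.2 V.2 h.le a) ∈ y.asHomogeneousIdeal ↔
      𝒮.res U.2 E.2 (h.trans h').le a ∈ y.asHomogeneousIdeal
    rw [hres]
  obtain ⟨⟨m, g, hg⟩, hq⟩ : ∃ q : _ × _, GrMod.val (V := RelProj.emb p chart U.1 U.2 ⁻¹ᵁ W) s ⟨_, hy2⟩ =
      LocalizedModule.mk q.1 q.2 := by
    induction GrMod.val (V := RelProj.emb p chart U.1 U.2 ⁻¹ᵁ W) s ⟨_, hy2⟩ using LocalizedModule.induction_on with
    | h m s => exact ⟨(m, s), rfl⟩
  have hg3 : g ∉ (ProjectiveSpectrum.comap (𝒮.res U.2 E.2 (h.trans h').le)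
      (Proj16.irrelevant_le_res 𝒮 U.2 E.2 (h.trans h').le (h.trans h')) y).asHomogeneousIdeal := fun hg' =>
    hg ((congrArg (fun x : ProjectiveSpectrum (𝒮.deg U.1 U.2) => g ∈ x.asHomogeneousIdeal) hpt).mpr hg')
  rw [hq, val_congr s (x₂ := ⟨_, hy3⟩) hpt m g hg hg3 hq,
    GrMod.locModMap_mk, GrMod.locModMap_mk, GrMod.locModMap_mk]
  refine LocalizedModule.mk_eq.mpr ⟨1, ?_⟩
  simp only [one_smul, Submonoid.smul_def, hres, hresM]

include hP in
lemma isLocAt_res (hℳ : Coh.IsQCoh ((AMod.toOS 𝒮.toQCAlg).obj ℳ.mod)) (U : Y.affineOpens) (r : Γ(Y, U.1)) :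
    IsLocAt (𝒮.res U.2 (U.2.basicOpen r) (Y.basicOpen_le r)) (ℳ.res U.2 (U.2.basicOpen r) (Y.basicOpen_le r))
      ((𝒮.str.app (op U.1)).hom r) where
  mem := 𝒮.str_mem U.1 U.2 r
  inj m hm := by
    obtain ⟨L, hL⟩ := QCoh.exists_pow_smul_eq_zero hℳ U.2 r
      (show Γ((AMod.toOS 𝒮.toQCAlg).obj ℳ.mod, U.1) from m) hm
    refine ⟨L, ?_⟩
    rw [← map_pow]
    exact hL
  surj m' := by
    obtain ⟨L, t, ht⟩ := QCoh.exists_pow_smul_eq_map hℳ U.2 r
      (show Γ((AMod.toOS 𝒮.toQCAlg).obj ℳ.mod, Y.basicOpen r) from m')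
    refine ⟨L, t, Eq.trans ht ?_⟩
    refine congrArg (fun a : 𝒮.presheaf.obj (op (Y.basicOpen r)) => a • m') ?_
    rw [← map_pow, ← map_pow]
    exact (congr(($(𝒮.str.naturality (homOfLE (Y.basicOpen_le r)).op)).hom (r ^ L)))

lemma bijective_map_of_eq {X : Scheme.{u}} (M : X.Modules) {V W : X.Opens} (e : W = V) (i : W ⟶ V) :
    Function.Bijective (M.presheaf.map i.op) := by
  subst e
  rw [Subsingleton.elim i (𝟙 W)]
  exact ConcreteCategory.bijective_of_isIso _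

lemma bijective_app_of_isIso {X : Scheme.{u}} {M N : X.Modules} (f : M ⟶ N) [IsIso f] (V : X.Opens) :
    Function.Bijective (f.app V) := by
  have := Scheme.Modules.Hom.isIso_iff_isIso_app.mp (inferInstance : IsIso f) V
  exact ConcreteCategory.bijective_of_isIso _

include hP in
theorem exists_isRelTilde (hℳ : Coh.IsQCoh ((AMod.toOS 𝒮.toQCAlg).obj ℳ.mod)) :
    ∃ (F : P.Modules) (lam : ∀ (U : Y.Opens) (hU : IsAffineOpen U),
      F ⟶ (Scheme.Modules.pushforward (RelProj.emb p chart U hU)).obj (GrMod.tilde (𝒮.deg U hU) (ℳ.deg U hU) n)),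
      RelProj.IsRelTilde 𝒮 p chart ℳ n F lam := by
  refine Exists.elim (exists_glue (tildeModel (p := p) (chart := chart) ℳ n)
    (fun U => p ⁻¹ᵁ U.1) IsBasicIn (tildeTrans hP ℳ n) (fun U V h => p.preimage_mono h.le) ?hsupp ?hb ?hbase ?htr)
    fun F hF => ?main
  case hsupp =>
    intro U W
    refine bijective_map_of_eq (GrMod.tilde (𝒮.deg U.1 U.2) (ℳ.deg U.1 U.2) n) ?_
      ((Opens.map (RelProj.emb p chart U.1 U.2).base).map (homOfLE inf_le_left))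
    rw [← RelTildeX.opensRange_emb p chart U.1 U.2]
    ext x
    exact ⟨fun hx => hx.1, fun hx => ⟨hx, x, rfl⟩⟩
  case hb =>
    rintro ⟨U, hU⟩ ⟨V, hV⟩ h W hW
    obtain ⟨r, rfl : Y.basicOpen r = V⟩ := h
    have hc := comap_app_bijective_of_le _ (Proj16.irrelevant_le_res 𝒮 hU hV (Y.basicOpen_le r) ⟨r, rfl⟩) _
      (fun i m hm => ℳ.res_mem hU hV (Y.basicOpen_le r) i m hm) (isLocAt_res hP ℳ hℳ ⟨U, hU⟩ r) n
      (RelProj.emb p chart U hU ⁻¹ᵁ W) fun x hx => by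
        obtain ⟨y, hy⟩ := mem_range_emb (chart := chart) _ hV (RelProj.emb p chart U hU x) (hW hx)
        have e := congrArg (fun ψ : Proj (𝒮.deg (Y.basicOpen r) hV) ⟶ P => ψ.base y)
          (map_res_emb' hP hU hV (Y.basicOpen_le r) ⟨r, rfl⟩)
        have hx' := (RelProj.emb p chart U hU).isOpenEmbedding.injective ((show _ = _ from e).trans hy)
        rw [← hx']
        intro hmem
        have hu : IsUnit (𝒮.res hU hV (Y.basicOpen_le r) ((𝒮.str.app (op U)).hom r)) := by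
          rw [RelProj.QCGrAlg.res_apply, show (𝒮.presheaf.map (homOfLE (Y.basicOpen_le r)).op).hom
            ((𝒮.str.app (op U)).hom r) = (𝒮.str.app (op (Y.basicOpen r))).hom
              ((Y.presheaf.map (homOfLE (Y.basicOpen_le r)).op).hom r) from
              (congr(($(𝒮.str.naturality (homOfLE (Y.basicOpen_le r)).op)).hom r)).symm]
          exact (Y.toRingedSpace.isUnit_res_basicOpen r).map _
        exact y.isPrime.ne_top (Ideal.eq_top_of_isUnit_mem _ hmem hu)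
    simp only [tildeTrans, tildeComap, Scheme.Modules.Hom.comp_app, AddCommGrpCat.coe_comp]
    exact ((bijective_app_of_isIso ((Scheme.Modules.pushforwardCongr _).hom.app _) W).comp
      (bijective_app_of_isIso ((Scheme.Modules.pushforwardComp _ _).hom.app _) W)).comp hc
  case hbase =>
    intro U V x hU hV
    obtain ⟨r, r', e, hx⟩ := exists_basicOpen_le_affine_inter U.2 V.2 (p x) ⟨hU, hV⟩
    exact ⟨⟨_, U.2.basicOpen r⟩, ⟨r, rfl⟩, ⟨r', e.symm⟩, hx⟩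
  case htr =>
    intro U V E h h'
    exact ⟨h.trans h', tildeTrans_comp hP ℳ n U V E h h'⟩
  obtain ⟨lam, hcomp, hbij⟩ := hF
  refine ⟨F, fun U hU => lam ⟨U, hU⟩, fun U hU W hW => hbij ⟨U, hU⟩ W hW, fun U hU r W s y hy hy' => ?_⟩
  have h : IsBasicIn ⟨U, hU⟩ ⟨Y.basicOpen r, hU.basicOpen r⟩ := ⟨r, rfl⟩
  simp only [← hcomp ⟨U, hU⟩ ⟨Y.basicOpen r, hU.basicOpen r⟩ h]
  rfl

end Groth.Agent.EgaQ
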