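import Groth.Agent.EgaQ.RelPair

/-!
# `O(0)` on a relative `Proj`, and inverses of twists on an open
-/

noncomputable section

universe u

open CategoryTheory CategoryTheory.Limits AlgebraicGeometry TopologicalSpace Opposite
open scoped HomogeneousIdeal

set_option backward.isDefEq.respectTransparency false
set_option linter.all false
set_option maxHeartbeats 3200000

namespace Groth.Agent.EgaQ.TwistZero

section chart

variable {A σ : Type u} [CommRing A] [SetLike σ A] [AddSubgroupClass σ A] {𝒜 : ℕ → σ} [GradedRing 𝒜]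

/-- The fraction `1 / 1`. -/
def oneFrac (V : Opens (ProjectiveSpectrum.top 𝒜)) : GrTwistX.UnitFrac (𝒜 := 𝒜) 0 V :=
  ⟨0, 0, 1, 1, SetLike.GradedOne.one_mem, SetLike.GradedOne.one_mem, by simp,
    fun z h => z.1.isPrime.ne_top ((Ideal.eq_top_iff_one _).mpr h),
    fun z h => z.1.isPrime.ne_top ((Ideal.eq_top_iff_one _).mpr h)⟩

end chart

variable {Y P : Scheme.{u}} {𝒮 : RelProj.QCGrAlg Y} (p : P ⟶ Y)
  (chart : ∀ (U : Y.Opens) (hU : IsAffineOpen U), (((p ⁻¹ᵁ U : P.Opens) : Scheme.{u}) ≅ Proj (𝒮.deg U hU)))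

/-- The chart map of the structure sheaf. -/
def lamO (U : Y.Opens) (hU : IsAffineOpen U) :
    Coh.structureModule P ⟶
      (Scheme.Modules.pushforward (RelProj.emb p chart U hU)).obj (GrTwist.twist (𝒮.deg U hU) 0) :=
  InvX.ofSect (show Γ((Scheme.Modules.pushforward (RelProj.emb p chart U hU)).obj
    (GrTwist.twist (𝒮.deg U hU) 0), ⊤) from GrTwistX.fracSect (oneFrac (RelProj.emb p chart U hU ⁻¹ᵁ ⊤)))

lemma lamO_app (U : Y.Opens) (hU : IsAffineOpen U) (W : P.Opens) (a : Γ(P, W)) :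
    (lamO p chart U hU).app W a =
      (show Γ((Scheme.Modules.pushforward (RelProj.emb p chart U hU)).obj (GrTwist.twist (𝒮.deg U hU) 0), W) from
        GrTwistX.trivMap (oneFrac (RelProj.emb p chart U hU ⁻¹ᵁ W)) ((RelProj.emb p chart U hU).app W a)) := by
  refine Eq.trans (b := a • AModX.res _ (le_top : W ≤ ⊤)
    (show Γ((Scheme.Modules.pushforward (RelProj.emb p chart U hU)).obj (GrTwist.twist (𝒮.deg U hU) 0), ⊤) from
      GrTwistX.fracSect (oneFrac (RelProj.emb p chart U hU ⁻¹ᵁ ⊤)))) rfl ?_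
  refine (EgaQ.push_smul (RelProj.emb p chart U hU) (GrTwist.twist (𝒮.deg U hU) 0) W a
    (GrTwistX.fracSect (oneFrac (RelProj.emb p chart U hU ⁻¹ᵁ W)))).trans ?_
  exact (LinearMap.toSpanSingleton_apply _ _ (GrTwistX.fracSect (oneFrac (RelProj.emb p chart U hU ⁻¹ᵁ W))) ((RelProj.emb p chart U hU).app W a)).symm

variable {p chart} (hP : RelProj.IsRelProj 𝒮 p chart)

include hP in
theorem isRelTwist_lamO : RelProj.IsRelTwist 𝒮 p chart 0 (Coh.structureModule P) (lamO p chart) where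
  bijective U hU W hW := by
    let j := RelProj.emb p chart U hU
    have : IsIso (j.app W) := Scheme.Hom.isIso_app j W (hW.trans (RelTildeX.opensRange_emb p chart U hU).ge)
    have hb := (GrTwistX.trivMap_bijective (oneFrac (j ⁻¹ᵁ W))).comp (ConcreteCategory.bijective_of_isIso (j.app W))
    have e : ((fun a : Γ(P, W) => (lamO p chart U hU).app W a)) =
        fun a => (show Γ((Scheme.Modules.pushforward j).obj (GrTwist.twist (𝒮.deg U hU) 0), W) from
          GrTwistX.trivMap (oneFrac (j ⁻¹ᵁ W)) (j.app W a)) := funext (lamO_app p chart U hU W)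
    have hb' : Function.Bijective (fun a : Γ(P, W) => (lamO p chart U hU).app W a) := by rw [e]; exact hb
    exact hb'
  compat U hU r W s z hz hy := by
    let ψ := 𝒮.res hU (hU.basicOpen r) (Y.basicOpen_le r)
    let hψ := 𝒮.irrelevant_le_map U hU r
    have e1 := congrArg (fun t => GrTwist.val (V := RelProj.emb p chart (Y.basicOpen r) (hU.basicOpen r) ⁻¹ᵁ W) t
      ⟨z, hz⟩) (lamO_app p chart (Y.basicOpen r) (hU.basicOpen r) W s)
    have e2 := congrArg (fun t => GrTwist.val (V := RelProj.emb p chart U hU ⁻¹ᵁ W) t ⟨_, hy⟩)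
      (lamO_app p chart U hU W s)
    refine e1.trans (Eq.trans ?_ (congrArg (GrTwist.locMap ψ hψ z) e2).symm)
    refine (GrTwistX.trivMap_apply _ _ _).trans ?_
    refine Eq.trans ?_ (congrArg (GrTwist.locMap ψ hψ z) (GrTwistX.trivMap_apply _ _ _)).symm
    rw [map_mul, GrTwist.locMap_mk]
    refine congr_arg₂ (· * ·) ?_ (Localization.mk_eq_mk_iff.mpr (Localization.r_iff_exists.mpr ⟨1, by simp [oneFrac]⟩))
    let f := Proj.map ψ hψ ≫ RelProj.emb p chart U hU
    have hf : z ∈ f ⁻¹ᵁ W := hy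
    have happ : ((show GrTwist.O (𝒜 := 𝒮.deg _ (hU.basicOpen r)) (op (RelProj.emb p chart _ (hU.basicOpen r) ⁻¹ᵁ W)) from
        (RelProj.emb p chart _ (hU.basicOpen r)).app W s).1 ⟨z, hz⟩).val =
        ((show GrTwist.O (𝒜 := 𝒮.deg _ (hU.basicOpen r)) (op (f ⁻¹ᵁ W)) from f.app W s).1 ⟨z, hf⟩).val := by
      have key : ∀ {g g' : Proj (𝒮.deg (Y.basicOpen r) (hU.basicOpen r)) ⟶ P} (_ : g = g')
          (h1 : z ∈ g ⁻¹ᵁ W) (h2 : z ∈ g' ⁻¹ᵁ W),
          ((show GrTwist.O (𝒜 := 𝒮.deg _ (hU.basicOpen r)) (op (g ⁻¹ᵁ W)) from g.app W s).1 ⟨z, h1⟩).val =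
            ((show GrTwist.O (𝒜 := 𝒮.deg _ (hU.basicOpen r)) (op (g' ⁻¹ᵁ W)) from g'.app W s).1 ⟨z, h2⟩).val := by
        intro g g' e h1 h2; subst e; rfl
      exact key (RelProj.map_res_emb hP U hU r).symm hz hf
    refine happ.trans ((congrArg HomogeneousLocalization.val
      (GrTwist.comapStructureSheaf_apply ψ hψ (RelProj.emb p chart U hU ⁻¹ᵁ W)
        (Proj.map ψ hψ ⁻¹ᵁ (RelProj.emb p chart U hU ⁻¹ᵁ W)) Set.Subset.rfl
        ((RelProj.emb p chart U hU).app W s) ⟨z, hy⟩)).trans ?_)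
    rw [HomogeneousLocalization.val_localRingHom]
    rfl

end Groth.Agent.EgaQ.TwistZero
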